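import Groth.Agent.Lib.Lambda.Free

/-!
# The free λ-ring over the integers
-/

set_option autoImplicit false

open Finset LambdaRing

noncomputable section

namespace Groth.Agent.Lib.Lambda

universe u

attribute [local instance] serLambdaOps freeLambdaOps

variable {A : Type u} [CommRing A] [LambdaOps A]

theorem hK_int (hA : IsSpecial A) (n : ℕ) (c : ℤ) :
    algebraMap ℤ A (Ring.choose c n) = LambdaOps.lam n (algebraMap ℤ A c) := by
  rw [eq_intCast, eq_intCast, lam_intCast hA.lam_one_eq_zero]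

theorem adamsOp_mul_of_isSpecial (hA : IsSpecial A) {k : ℕ} (hk : 1 ≤ k) (x y : A) :
    adamsOp k (x * y) = adamsOp k x * adamsOp k y := by
  set φ := evalFree (K := ℤ) (ι := Fin 2) ![x, y] with hφ
  have hx : φ (MvPolynomial.X (0, 0)) = x := evalFree_X_zero _ _
  have hy : φ (MvPolynomial.X (1, 0)) = y := evalFree_X_zero _ _
  have hU : adamsOp k (MvPolynomial.X (0, 0) * MvPolynomial.X (1, 0) : Free (Fin 2) ℤ) =
      adamsOp k (MvPolynomial.X (0, 0)) * adamsOp k (MvPolynomial.X (1, 0)) := by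
    apply theta_injective
    rw [map_mul, theta_adamsOp, theta_adamsOp, theta_adamsOp, map_mul, adamsOp_ser hk,
      adamsOp_ser hk, adamsOp_ser hk, map_mul]
  have h := congrArg φ hU
  rw [map_mul, hφ, evalFree_adamsOp hA (hK_int hA), evalFree_adamsOp hA (hK_int hA),
    evalFree_adamsOp hA (hK_int hA), ← hφ, map_mul, hx, hy] at h
  exact h

theorem adamsOp_adamsOp_of_isSpecial (hA : IsSpecial A) {k k' : ℕ} (hk : 1 ≤ k) (hk' : 1 ≤ k')
    (x : A) : adamsOp k (adamsOp k' x) = adamsOp (k * k') x := by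
  set φ := evalFree (K := ℤ) (ι := Fin 1) ![x] with hφ
  have hx : φ (MvPolynomial.X (0, 0)) = x := evalFree_X_zero _ _
  have hU : adamsOp k (adamsOp k' (MvPolynomial.X (0, 0) : Free (Fin 1) ℤ)) =
      adamsOp (k * k') (MvPolynomial.X (0, 0)) := by
    apply theta_injective
    rw [theta_adamsOp, theta_adamsOp, theta_adamsOp, adamsOp_ser hk, adamsOp_ser hk',
      adamsOp_ser (Nat.mul_pos hk hk'), PowerSeries.rescale_rescale, Nat.cast_mul, mul_comm]
  have h := congrArg φ hU
  rw [hφ, evalFree_adamsOp hA (hK_int hA), evalFree_adamsOp hA (hK_int hA),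
    evalFree_adamsOp hA (hK_int hA), ← hφ, hx] at h
  exact h

end Groth.Agent.Lib.Lambda
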