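import Groth.Agent.Lib.Lambda.Split

/-!
# The γ-filtration of a λ-ring with positive structure
-/

set_option autoImplicit false

open PowerSeries Finset LambdaRing

noncomputable section

namespace Groth.Agent.Lib.Lambda

universe u v

theorem map_esymm_multiset {A : Type u} {B : Type v} [CommRing A] [CommRing B] (f : A →+* B)
    (s : Multiset A) (k : ℕ) : f (s.esymm k) = (s.map f).esymm k := by
  simp only [Multiset.esymm, map_multiset_sum, Multiset.powersetCard_map, Multiset.map_map,
    Function.comp_def, map_multiset_prod]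

theorem esymm_replicate_one {A : Type u} [CommRing A] (n k : ℕ) :
    (Multiset.replicate n (1 : A)).esymm k = (n.choose k : A) := by
  rw [← coeff_prod_one_add_C_mul_X, Multiset.map_replicate, Multiset.prod_replicate, map_one,
    one_mul, coeff_one_add_X_pow_ps]

theorem esymm_card_eq_prod {A : Type u} [CommRing A] (s : Multiset A) :
    s.esymm (Multiset.card s) = s.prod := by
  induction s using Multiset.induction_on with
  | empty => simp [Multiset.esymm]
  | cons a s ih =>
    rw [Multiset.card_cons, esymm_cons_succ, esymm_eq_zero_of_card_lt s (Nat.lt_succ_self _),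
      zero_add, ih, Multiset.prod_cons]

variable {K : Type u} [CommRing K] [LambdaOps K] {P : PosStructure K}

theorem aug_lam_of_split (hK : HasSplitting K P) {e : K} (he : e ∈ P.pos) (i : ℕ) :
    P.aug (LambdaOps.lam i e) = ((P.aug e).toNat.choose i : ℤ) := by
  obtain ⟨L, f, -, hf, hs⟩ := exists_split hK [e] (by simp [he])
  obtain ⟨s, hsl, hse⟩ := hs e (by simp)
  rw [← hf.aug_comp, hf.isLambdaHom, ← hse, lam_sum_lineLike s (lineLike_of_forall_isLine hsl),
    map_esymm_multiset, Multiset.map_congr rfl (fun u hu => (hsl u hu).2), Multiset.map_const',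
    esymm_replicate_one, card_eq_toNat_aug hf hsl hse]

theorem mem_gammaFiltration_zero (x : K) : x ∈ gammaFiltration P 0 := by simp [gammaFiltration]

theorem gammaFiltration_of_ne_zero {n : ℕ} (hn : n ≠ 0) :
    gammaFiltration P n = AddSubgroup.closure
      {y | ∃ (l : List (ℕ × K)), (∀ p ∈ l, P.aug p.2 = 0) ∧ n ≤ (l.map Prod.fst).sum ∧
        y = (l.map fun p => gamma p.1 p.2).prod} := by
  simp [gammaFiltration, hn]

theorem prod_gamma_mem {n : ℕ} {l : List (ℕ × K)} (hl : ∀ p ∈ l, P.aug p.2 = 0)
    (hn : n ≤ (l.map Prod.fst).sum) :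
    (l.map fun p => gamma p.1 p.2).prod ∈ gammaFiltration P n := by
  rcases eq_or_ne n 0 with rfl | h
  · exact mem_gammaFiltration_zero _
  · rw [gammaFiltration_of_ne_zero h]
    exact AddSubgroup.subset_closure ⟨l, hl, hn, rfl⟩

theorem gamma_mem_gammaFiltration {x : K} (hx : P.aug x = 0) (r : ℕ) :
    gamma r x ∈ gammaFiltration P r := by
  have := prod_gamma_mem (P := P) (n := r) (l := [(r, x)]) (by simp [hx]) (by simp)
  simpa using this

theorem gammaFiltration_le {C : AddSubgroup K} {n : ℕ} (hn : n ≠ 0)
    (h : ∀ l : List (ℕ × K), (∀ p ∈ l, P.aug p.2 = 0) → n ≤ (l.map Prod.fst).sum →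
      (l.map fun p => gamma p.1 p.2).prod ∈ C) : gammaFiltration P n ≤ C := by
  rw [gammaFiltration_of_ne_zero hn, AddSubgroup.closure_le]
  rintro y ⟨l, hl, hn, rfl⟩
  exact h l hl hn

theorem gammaFiltration_anti {m n : ℕ} (h : m ≤ n) :
    gammaFiltration P n ≤ gammaFiltration P m := by
  rcases eq_or_ne n 0 with rfl | hn
  · obtain rfl : m = 0 := by omega
    exact le_rfl
  · exact gammaFiltration_le hn fun l hl hs => prod_gamma_mem hl (h.trans hs)

theorem mem_gammaFiltration_one {x : K} (hx : P.aug x = 0) : x ∈ gammaFiltration P 1 := by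
  simpa [gamma_one_left] using gamma_mem_gammaFiltration hx 1

theorem mul_mem_gammaFiltration_left {n : ℕ} (a : K) {x : K} (hx : x ∈ gammaFiltration P n) :
    a * x ∈ gammaFiltration P n := by
  rcases eq_or_ne n 0 with rfl | hn
  · exact mem_gammaFiltration_zero _
  suffices gammaFiltration P n ≤ (gammaFiltration P n).comap (AddMonoidHom.mulLeft a) from this hx
  refine gammaFiltration_le hn fun l hl hs => ?_
  show a * (l.map fun p => gamma p.1 p.2).prod ∈ gammaFiltration P n
  have ha : a = (P.aug a : K) + (a - (P.aug a : K)) := by ring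
  rw [ha, add_mul]
  refine add_mem ?_ ?_
  · rw [← zsmul_eq_mul]
    exact zsmul_mem (prod_gamma_mem hl hs) _
  · have := prod_gamma_mem (P := P) (n := n) (l := (1, a - (P.aug a : K)) :: l)
      (by
        intro p hp
        rcases List.mem_cons.1 hp with rfl | hp
        · simp
        · exact hl p hp)
      (by simp only [List.map_cons, List.sum_cons]; omega)
    simpa [gamma_one_left] using this

theorem mul_mem_gammaFiltration {m n : ℕ} {x y : K} (hx : x ∈ gammaFiltration P m)
    (hy : y ∈ gammaFiltration P n) : x * y ∈ gammaFiltration P (m + n) := by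
  rcases eq_or_ne m 0 with rfl | hm
  · rw [zero_add]; exact mul_mem_gammaFiltration_left x hy
  rcases eq_or_ne n 0 with rfl | hn
  · rw [add_zero, mul_comm]; exact mul_mem_gammaFiltration_left y hx
  suffices gammaFiltration P m ≤ (gammaFiltration P (m + n)).comap (AddMonoidHom.mulRight y) from
    this hx
  refine gammaFiltration_le hm fun l hl hs => ?_
  show (l.map fun p => gamma p.1 p.2).prod * y ∈ gammaFiltration P (m + n)
  suffices gammaFiltration P n ≤ (gammaFiltration P (m + n)).comap
      (AddMonoidHom.mulLeft (l.map fun p => gamma p.1 p.2).prod) from this hy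
  refine gammaFiltration_le hn fun l' hl' hs' => ?_
  show (l.map fun p => gamma p.1 p.2).prod * (l'.map fun p => gamma p.1 p.2).prod ∈ gammaFiltration P (m + n)
  have := prod_gamma_mem (P := P) (n := m + n) (l := l ++ l')
    (by
      intro p hp
      rcases List.mem_append.1 hp with h | h
      · exact hl p h
      · exact hl' p h)
    (by simp only [List.map_append, List.sum_append]; omega)
  simpa using this

theorem pow_mem_gammaFiltration {m : ℕ} {x : K} (hx : x ∈ gammaFiltration P m) (k : ℕ) :
    x ^ k ∈ gammaFiltration P (m * k) := by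
  induction k with
  | zero => simpa using mem_gammaFiltration_zero (P := P) (1 : K)
  | succ k ih => rw [pow_succ, Nat.mul_succ]; exact mul_mem_gammaFiltration ih hx

theorem map_gammaFiltration_le {L : Type u} [CommRing L] [LambdaOps L] {Q : PosStructure L}
    (f : K →+* L) (hf : IsLambdaHom f) (haug : ∀ x, Q.aug (f x) = P.aug x) {n : ℕ} {x : K}
    (hx : x ∈ gammaFiltration P n) : f x ∈ gammaFiltration Q n := by
  rcases eq_or_ne n 0 with rfl | hn
  · exact mem_gammaFiltration_zero _
  suffices gammaFiltration P n ≤ (gammaFiltration Q n).comap f.toAddMonoidHom from this hx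
  refine gammaFiltration_le hn fun l hl hs => ?_
  show f (l.map fun p => gamma p.1 p.2).prod ∈ gammaFiltration Q n
  rw [map_list_prod, List.map_map]
  have := prod_gamma_mem (P := Q) (n := n) (l := l.map fun p => (p.1, f p.2))
    (by
      intro p hp
      obtain ⟨q, hq, rfl⟩ := List.mem_map.1 hp
      simp [haug, hl q hq])
    (by simpa [List.map_map, Function.comp_def] using hs)
  rw [List.map_map] at this
  have e : (⇑f ∘ fun p : ℕ × K => gamma p.1 p.2) =
      ((fun p : ℕ × L => gamma p.1 p.2) ∘ fun p : ℕ × K => (p.1, f p.2)) := by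
    funext p
    exact map_gamma f hf p.1 p.2
  rwa [e]

end Groth.Agent.Lib.Lambda
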