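import Groth.Agent.Lib.Lambda.LineRing
import Groth.Agent.Lib.Lambda.FreeInt
import Groth.Agent.Lib.Lambda.PosFil

/-!
# A λ-ring with the splitting property is special
-/

set_option autoImplicit false

open Finset LambdaRing
open MvPolynomial hiding X

noncomputable section

namespace Groth.Agent.Lib.Lambda

universe u

attribute [local instance] serLambdaOps freeLambdaOps lineOps

variable {K : Type u} [CommRing K] [LambdaOps K] {P : PosStructure K}

/-- The evaluation of monomials in lines. -/
def linesMap (P : PosStructure K) : MvPolynomial {a : K // P.IsLine a} ℤ →ₐ[ℤ] K :=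
  aeval fun a => a.1

theorem linesMap_monomial_isLine (s : {a : K // P.IsLine a} →₀ ℕ) :
    P.IsLine (linesMap P (monomial s (1 : ℤ))) := by
  induction s using Finsupp.induction with
  | zero => rw [monomial_zero', C_1, map_one]; exact isLine_one P
  | single_add a k s _ _ ih =>
    rw [monomial_single_add, map_mul, map_pow]
    refine IsLine.mul (IsLine.pow ?_ k) ih
    rw [linesMap, aeval_X]
    exact a.2

theorem linesMap_lam (n : ℕ) (z : MvPolynomial {a : K // P.IsLine a} ℤ) :
    linesMap P (LambdaOps.lam n z) = LambdaOps.lam n (linesMap P z) :=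
  lineEval_lam _ (fun s => IsLine.lineLike P (linesMap_monomial_isLine s)) n z

theorem exists_linesMap_eq_sum (s : Multiset K) (hs : ∀ a ∈ s, P.IsLine a) :
    ∃ Z, linesMap P Z = s.sum := by
  induction s using Multiset.induction_on with
  | empty => exact ⟨0, by simp⟩
  | cons a s ih =>
    obtain ⟨Z, hZ⟩ := ih fun b hb => hs b (Multiset.mem_cons_of_mem hb)
    exact ⟨MvPolynomial.X ⟨a, hs a (Multiset.mem_cons_self a s)⟩ + Z, by
      rw [map_add, hZ, Multiset.sum_cons, linesMap, aeval_X]⟩

theorem isSpecial_of_hasSplitting (hK : HasSplitting K P) : IsSpecial K := by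
  refine ⟨lineLike_one_of_pos P, fun n Q hQ x y => ?_, fun i j Q hQ x => ?_⟩
  · obtain ⟨L, f, -, hf, ⟨s, t, hs, ht, hx⟩, ⟨s', t', hs', ht', hy⟩⟩ := exists_split_two hK x y
    obtain ⟨S, hS⟩ := exists_linesMap_eq_sum s hs
    obtain ⟨T, hT⟩ := exists_linesMap_eq_sum t ht
    obtain ⟨S', hS'⟩ := exists_linesMap_eq_sum s' hs'
    obtain ⟨T', hT'⟩ := exists_linesMap_eq_sum t' ht'
    have hX : linesMap L.posStr (S - T) = f x := by rw [map_sub, hS, hT, hx]
    have hY : linesMap L.posStr (S' - T') = f y := by rw [map_sub, hS', hT', hy]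
    apply hf.injective
    rw [hf.isLambdaHom, map_mul f, ← hX, ← hY, ← map_mul, ← linesMap_lam,
      (isSpecial_line _).lam_mul n Q hQ, map_aeval_int]
    refine (map_aeval_int (linesMap L.posStr).toRingHom _ Q).trans ?_
    congr 2
    funext k
    rcases k with k | k
    · show linesMap L.posStr (LambdaOps.lam _ (S - T)) = f (LambdaOps.lam _ x)
      rw [linesMap_lam, hX, hf.isLambdaHom]
    · show linesMap L.posStr (LambdaOps.lam _ (S' - T')) = f (LambdaOps.lam _ y)
      rw [linesMap_lam, hY, hf.isLambdaHom]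
  · obtain ⟨L, f, -, hf, ⟨s, t, hs, ht, hx⟩, -⟩ := exists_split_two hK x 0
    obtain ⟨S, hS⟩ := exists_linesMap_eq_sum s hs
    obtain ⟨T, hT⟩ := exists_linesMap_eq_sum t ht
    have hX : linesMap L.posStr (S - T) = f x := by rw [map_sub, hS, hT, hx]
    apply hf.injective
    rw [hf.isLambdaHom, hf.isLambdaHom, ← hX, ← linesMap_lam, ← linesMap_lam,
      (isSpecial_line _).lam_lam i j Q hQ, map_aeval_int]
    refine (map_aeval_int (linesMap L.posStr).toRingHom _ Q).trans ?_
    congr 2
    funext k
    show linesMap L.posStr (LambdaOps.lam _ (S - T)) = f (LambdaOps.lam _ x)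
    rw [linesMap_lam, hX, hf.isLambdaHom]

theorem aug_lam_eq_choose_int (hK : HasSplitting K P) (n : ℕ) (x : K) :
    P.aug (LambdaOps.lam n x) = Ring.choose (P.aug x) n := by
  letI : LambdaOps ℤ := binomialLambdaOps ℤ
  suffices x ∈ lamEqAddLocus P.aug from this n
  have hpos : ∀ e ∈ P.pos, e ∈ lamEqAddLocus P.aug := by
    intro e he n
    rw [aug_lam_of_split hK he]
    show _ = Ring.choose (P.aug e) n
    rw [← toNat_aug_cast P he, Ring.choose_natCast, Int.toNat_natCast]
  obtain ⟨a, b, ha, hb, rfl⟩ := P.exists_sub x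
  exact sub_mem (hpos a ha) (hpos b hb)

theorem aug_gamma_eq_zero_pos (hK : HasSplitting K P) {x : K} (hx : P.aug x = 0) (l : ℕ) :
    P.aug (gamma (l + 1) x) = 0 := by
  letI : LambdaOps ℤ := binomialLambdaOps ℤ
  rw [map_gamma P.aug (fun i y => aug_lam_eq_choose_int hK i y), hx,
    gamma_zero_right (Nat.succ_ne_zero l)]

/-- The augmentation as an algebra map. -/
def augAlg (P : PosStructure K) : K →ₐ[ℤ] ℤ := P.aug.toIntAlgHom

theorem augAlg_apply (x : K) : augAlg P x = P.aug x := rfl

theorem mem_gammaFiltration_iff {n : ℕ} {x : K} :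
    x ∈ gammaFiltration P n ↔ x ∈ gammaFil (augAlg P : K →+* ℤ) n := by
  constructor
  · intro hx
    rcases eq_or_ne n 0 with rfl | hn
    · have h1 : (1 : K) ∈ gammaFil (augAlg P : K →+* ℤ) 0 := by
        simpa using prod_gamma_mem_gammaFil (augAlg P : K →+* ℤ) (n := 0) (l := []) (by simp) (by simp)
      simpa using Ideal.mul_mem_left _ x h1
    suffices gammaFiltration P n ≤ (gammaFil (augAlg P : K →+* ℤ) n).toAddSubgroup from this hx
    exact gammaFiltration_le hn fun l hl hs => prod_gamma_mem_gammaFil _ hl hs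
  · intro hx
    let J : Ideal K :=
      { (gammaFiltration P n).toAddSubmonoid with
        smul_mem' := fun a _ hy => mul_mem_gammaFiltration_left a hy }
    suffices gammaFil (augAlg P : K →+* ℤ) n ≤ J from this hx
    exact gammaFil_le fun l hl hs => prod_gamma_mem hl hs

/-- The generic family: all elements of augmentation zero. -/
def kerVal (P : PosStructure K) (a : {x : K // P.aug x = 0}) : K := a.1

/-- The evaluation of the free λ-ring on the elements of augmentation zero. -/
def kerEval (P : PosStructure K) : Free {x : K // P.aug x = 0} ℤ →ₐ[ℤ] K := evalFree (kerVal P)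

theorem kerEval_surjective : Function.Surjective (kerEval P) := fun x =>
  ⟨MvPolynomial.C (P.aug x) + MvPolynomial.X (⟨x - (P.aug x : K), by simp⟩, 0), by
    rw [map_add, kerEval, evalFree_X_zero]
    simp [evalFree, kerVal]⟩

theorem exists_of_mem_gammaFiltration (hK : HasSplitting K P) {n : ℕ} {x : K}
    (hx : x ∈ gammaFiltration P n) :
    ∃ z ∈ wtIdeal {x : K // P.aug x = 0} ℤ n, kerEval P z = x :=
  exists_of_mem_gammaFil (isSpecial_of_hasSplitting hK) (hK_int (isSpecial_of_hasSplitting hK))
    (augAlg P) (kerVal P) (fun a l => aug_gamma_eq_zero_pos hK a.2 l) kerEval_surjective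
    (mem_gammaFiltration_iff.1 hx)

theorem kerEval_mem {n : ℕ} {z : Free {x : K // P.aug x = 0} ℤ}
    (hz : z ∈ wtIdeal {x : K // P.aug x = 0} ℤ n) : kerEval P z ∈ gammaFiltration P n :=
  mem_gammaFiltration_iff.2 (map_wtIdeal_le (augAlg P) (kerVal P) (fun a => a.2) hz)

theorem adams_sub_pow_mul_mem (hK : HasSplitting K P) {j : ℕ} (hj : 1 ≤ j) {n : ℕ} {x : K}
    (hx : x ∈ gammaFiltration P n) :
    adams P j x - (j : K) ^ n * x ∈ gammaFiltration P (n + 1) := by
  obtain ⟨z, hz, rfl⟩ := exists_of_mem_gammaFiltration hK hx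
  have := kerEval_mem (adamsOp_sub_mem_wtIdeal hj hz)
  rw [map_sub, map_mul, map_pow, map_natCast, kerEval,
    evalFree_adamsOp (isSpecial_of_hasSplitting hK) (hK_int (isSpecial_of_hasSplitting hK))] at this
  rwa [adams_eq_adamsOp P hj]

end Groth.Agent.Lib.Lambda
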