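import Groth.Prelude.Def_LambdaRing
import Mathlib.RingTheory.PowerSeries.Substitution
import Mathlib.RingTheory.PowerSeries.WellKnown
import Mathlib.RingTheory.MvPolynomial.Symmetric.Defs
import Mathlib.Algebra.Polynomial.Coeff
import Mathlib.Tactic.Ring
import Mathlib.Tactic.Abel
import Mathlib.Tactic.LinearCombination

/-!
# Basic series identities for pre-λ-rings
-/

set_option autoImplicit false

open PowerSeries Finset LambdaRing

noncomputable section

namespace Groth.Agent.Lib.Lambda

universe u

variable {K : Type u} [CommRing K] [LambdaOps K]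

theorem coeff_lamSeries (i : ℕ) (x : K) : coeff i (lamSeries x) = LambdaOps.lam i x := by
  simp [lamSeries]

theorem constantCoeff_lamSeries (x : K) : constantCoeff (lamSeries x) = 1 := by
  rw [← coeff_zero_eq_constantCoeff_apply, coeff_lamSeries, LambdaOps.lam_zero]

theorem lamSeries_add (x y : K) : lamSeries (x + y) = lamSeries x * lamSeries y := by
  ext n
  rw [coeff_lamSeries, coeff_mul, LambdaOps.lam_add,
    Finset.Nat.sum_antidiagonal_eq_sum_range_succ_mk]
  simp [coeff_lamSeries]

theorem isUnit_lamSeries (x : K) : IsUnit (lamSeries x) :=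
  isUnit_iff_constantCoeff.2 (by rw [constantCoeff_lamSeries]; exact isUnit_one)

theorem lamSeries_zero : lamSeries (0 : K) = 1 := by
  have h := lamSeries_add (0 : K) 0
  rw [add_zero] at h
  exact ((isUnit_lamSeries (0 : K)).mul_eq_left).1 h.symm

theorem lamSeries_mul_neg (x : K) : lamSeries x * lamSeries (-x) = 1 := by
  rw [← lamSeries_add, add_neg_cancel, lamSeries_zero]

theorem lam_zero_right {k : ℕ} (hk : k ≠ 0) : LambdaOps.lam k (0 : K) = 0 := by
  rw [← coeff_lamSeries, lamSeries_zero, coeff_one, if_neg hk]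

theorem lamSeries_multiset_sum (s : Multiset K) :
    lamSeries s.sum = (s.map lamSeries).prod := by
  induction s using Multiset.induction_on with
  | empty => simp [lamSeries_zero]
  | cons a s ih => simp [lamSeries_add, ih]

theorem lamSeries_finset_sum {ι : Type*} (s : Finset ι) (f : ι → K) :
    lamSeries (∑ i ∈ s, f i) = ∏ i ∈ s, lamSeries (f i) := by
  rw [← Finset.sum_map_val, lamSeries_multiset_sum, Multiset.map_map]
  rfl

theorem lamSeries_natCast (n : ℕ) : lamSeries (n : K) = lamSeries (1 : K) ^ n := by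
  induction n with
  | zero => simp [lamSeries_zero]
  | succ n ih => rw [Nat.cast_succ, lamSeries_add, ih, pow_succ]

/-- An element all of whose λ^j vanish for `j ≥ 2`. -/
def LineLike (u : K) : Prop := ∀ j : ℕ, 2 ≤ j → LambdaOps.lam j u = 0

theorem LineLike.lamSeries_eq {u : K} (h : LineLike u) : lamSeries u = 1 + C u * X := by
  ext n
  match n with
  | 0 => simp [LambdaOps.lam_zero, lamSeries]
  | 1 => simp [LambdaOps.lam_one, lamSeries, coeff_one]
  | n + 2 =>
    rw [coeff_lamSeries, h _ (by omega)]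
    simp [coeff_one, coeff_succ_mul_X]

theorem esymm_cons_succ {R : Type*} [CommSemiring R] (a : R) (s : Multiset R) (k : ℕ) :
    (a ::ₘ s).esymm (k + 1) = s.esymm (k + 1) + a * s.esymm k := by
  simp [Multiset.esymm, Multiset.powersetCard_cons, Multiset.map_map,
    Multiset.sum_map_mul_left]

theorem esymm_zero_eq_one {R : Type*} [CommSemiring R] (s : Multiset R) : s.esymm 0 = 1 := by
  simp [Multiset.esymm]

theorem esymm_eq_zero_of_card_lt {R : Type*} [CommSemiring R] (s : Multiset R) {k : ℕ}
    (h : Multiset.card s < k) : s.esymm k = 0 := by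
  simp [Multiset.esymm, Multiset.powersetCard_eq_empty k h]

theorem coeff_prod_one_add_C_mul_X {R : Type*} [CommRing R] (s : Multiset R) (k : ℕ) :
    coeff k ((s.map fun a => (1 + C a * X : R⟦X⟧)).prod) = s.esymm k := by
  induction s using Multiset.induction_on generalizing k with
  | empty =>
    match k with
    | 0 => simp [Multiset.esymm]
    | k + 1 =>
      rw [esymm_eq_zero_of_card_lt _ (by simp)]
      simp [coeff_one]
  | cons a s ih =>
    rw [Multiset.map_cons, Multiset.prod_cons, add_mul, one_mul, map_add]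
    match k with
    | 0 =>
      rw [ih, mul_assoc, coeff_C_mul, coeff_zero_X_mul, mul_zero, add_zero, esymm_zero_eq_one,
        esymm_zero_eq_one]
    | k + 1 => rw [ih, mul_assoc, coeff_C_mul, coeff_succ_X_mul, ih, esymm_cons_succ]

theorem lamSeries_sum_lineLike (s : Multiset K) (hs : ∀ u ∈ s, LineLike u) :
    lamSeries s.sum = (s.map fun a => (1 + C a * X : K⟦X⟧)).prod := by
  rw [lamSeries_multiset_sum]
  exact congrArg _ (Multiset.map_congr rfl fun u hu => (hs u hu).lamSeries_eq)

theorem lam_sum_lineLike (s : Multiset K) (hs : ∀ u ∈ s, LineLike u) (k : ℕ) :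
    LambdaOps.lam k s.sum = s.esymm k := by
  rw [← coeff_lamSeries, lamSeries_sum_lineLike s hs, coeff_prod_one_add_C_mul_X]

theorem lineLike_one (h1 : ∀ k : ℕ, 2 ≤ k → LambdaOps.lam k (1 : K) = 0) : LineLike (1 : K) := h1

theorem lamSeries_one (h1 : LineLike (1 : K)) : lamSeries (1 : K) = 1 + X := by
  rw [h1.lamSeries_eq, map_one, one_mul]

theorem coeff_one_add_X_pow_ps (R : Type*) [CommRing R] (n k : ℕ) :
    coeff k ((1 + X : R⟦X⟧) ^ n) = (n.choose k : R) := by
  have : ((1 + X : R⟦X⟧) ^ n) = (((1 + Polynomial.X) ^ n : Polynomial R) : R⟦X⟧) := by simp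
  rw [this, Polynomial.coeff_coe, Polynomial.coeff_one_add_X_pow]

theorem lam_natCast (h1 : LineLike (1 : K)) (n k : ℕ) :
    LambdaOps.lam k (n : K) = (n.choose k : K) := by
  rw [← coeff_lamSeries, lamSeries_natCast, lamSeries_one h1, coeff_one_add_X_pow_ps]

/-! ### The γ-series -/

/-- The series X/(1-X). -/
def uSer (R : Type*) [CommRing R] : R⟦X⟧ := X * mk 1

theorem hasSubst_uSer (R : Type*) [CommRing R] : HasSubst (uSer R) :=
  HasSubst.of_constantCoeff_zero' (by simp [uSer])

theorem coeff_uSer_pow (R : Type*) [CommRing R] (j k : ℕ) :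
    coeff k (uSer R ^ (j + 1)) = if j + 1 ≤ k then ((k - 1).choose j : R) else 0 := by
  rw [uSer, mul_pow, coeff_X_pow_mul', mk_one_pow_eq_mk_choose_add]
  split_ifs with h
  · rw [coeff_mk]
    congr 2
    omega
  · rfl

theorem one_add_uSer (R : Type*) [CommRing R] : (1 : R⟦X⟧) + uSer R = mk 1 := by
  ext n
  match n with
  | 0 => simp [uSer]
  | n + 1 => simp [uSer, coeff_one, coeff_succ_X_mul]

theorem one_sub_mul_uSer (R : Type*) [CommRing R] : (1 - X : R⟦X⟧) * uSer R = X := by
  rw [uSer, mul_left_comm, mul_comm (1 - X) (mk 1), mk_one_mul_one_sub_eq_one, mul_one]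

/-- γ_t(x). -/
def gammaSeries (x : K) : K⟦X⟧ := PowerSeries.mk fun k => gamma k x

theorem coeff_gammaSeries (k : ℕ) (x : K) : coeff k (gammaSeries x) = gamma k x := by
  simp [gammaSeries]

theorem gammaSeries_eq_subst (x : K) : gammaSeries x = (lamSeries x).subst (uSer K) := by
  ext k
  rw [coeff_gammaSeries, coeff_subst' (hasSubst_uSer K)]
  rw [finsum_eq_sum_of_support_subset _ (s := range (k + 1)) (fun d hd => by
    simp only [Finset.coe_range, Set.mem_Iio]
    by_contra hlt
    apply hd
    match d with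
    | 0 => omega
    | d + 1 =>
      show _ • _ = _
      rw [coeff_uSer_pow, if_neg (by omega), smul_zero])]
  simp only [smul_eq_mul, coeff_lamSeries]
  unfold gamma
  split_ifs with hk
  · subst hk; simp [LambdaOps.lam_zero]
  · refine sum_congr rfl fun d hd => ?_
    rw [mem_range] at hd
    match d with
    | 0 => simp [hk]
    | d + 1 =>
      rw [coeff_uSer_pow, if_neg (Nat.succ_ne_zero d), if_pos (show d + 1 ≤ k by omega)]
      simp [mul_comm]

theorem gamma_zero_left (x : K) : gamma 0 x = 1 := by simp [gamma]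

theorem gamma_one_left (x : K) : gamma 1 x = x := by
  simp [gamma, sum_range_succ, LambdaOps.lam_one]

theorem gammaSeries_add (x y : K) : gammaSeries (x + y) = gammaSeries x * gammaSeries y := by
  rw [gammaSeries_eq_subst, gammaSeries_eq_subst, gammaSeries_eq_subst, lamSeries_add,
    subst_mul (hasSubst_uSer K)]

theorem gamma_add (k : ℕ) (x y : K) :
    gamma k (x + y) = ∑ i ∈ range (k + 1), gamma i x * gamma (k - i) y := by
  rw [← coeff_gammaSeries, gammaSeries_add, coeff_mul,
    Finset.Nat.sum_antidiagonal_eq_sum_range_succ_mk]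
  simp [coeff_gammaSeries]

theorem gammaSeries_zero : gammaSeries (0 : K) = 1 := by
  rw [gammaSeries_eq_subst, lamSeries_zero, ← coe_substAlgHom (hasSubst_uSer K), map_one]

theorem gamma_zero_right {k : ℕ} (hk : k ≠ 0) : gamma k (0 : K) = 0 := by
  rw [← coeff_gammaSeries, gammaSeries_zero, coeff_one, if_neg hk]

theorem gammaSeries_mul_neg (x : K) : gammaSeries x * gammaSeries (-x) = 1 := by
  rw [← gammaSeries_add, add_neg_cancel, gammaSeries_zero]

theorem gamma_neg (k : ℕ) (x : K) :
    gamma (k + 1) (-x) = -∑ i ∈ range (k + 1), gamma (i + 1) x * gamma (k - i) (-x) := by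
  have h := gamma_add (k + 1) x (-x)
  rw [add_neg_cancel, gamma_zero_right (Nat.succ_ne_zero k), sum_range_succ'] at h
  simp only [Nat.add_sub_add_right, gamma_zero_left, one_mul, Nat.sub_zero] at h
  linear_combination -h

theorem gammaSeries_multiset_sum (s : Multiset K) :
    gammaSeries s.sum = (s.map gammaSeries).prod := by
  induction s using Multiset.induction_on with
  | empty => simp [gammaSeries_zero]
  | cons a s ih => simp [gammaSeries_add, ih]

theorem gammaSeries_one (h1 : LineLike (1 : K)) : gammaSeries (1 : K) = mk 1 := by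
  rw [gammaSeries_eq_subst, lamSeries_one h1, ← coe_substAlgHom (hasSubst_uSer K), map_add,
    map_one, substAlgHom_X (hasSubst_uSer K), one_add_uSer]

theorem gammaSeries_neg_one (h1 : LineLike (1 : K)) : gammaSeries (-1 : K) = 1 - X := by
  have h := gammaSeries_mul_neg (1 : K)
  rw [gammaSeries_one h1] at h
  calc gammaSeries (-1 : K) = gammaSeries (-1 : K) * (mk 1 * (1 - X)) := by
        rw [mk_one_mul_one_sub_eq_one, mul_one]
    _ = (mk 1 * gammaSeries (-1 : K)) * (1 - X) := by ring
    _ = 1 - X := by rw [h, one_mul]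

theorem gammaSeries_neg_natCast (h1 : LineLike (1 : K)) (n : ℕ) :
    gammaSeries (-(n : K)) = (1 - X) ^ n := by
  induction n with
  | zero => simp [gammaSeries_zero]
  | succ n ih =>
    rw [Nat.cast_succ, neg_add, gammaSeries_add, ih, gammaSeries_neg_one h1, pow_succ]

theorem gammaSeries_lineLike_sub_one (h1 : LineLike (1 : K)) {u : K} (hu : LineLike u) :
    gammaSeries (u - 1) = 1 + C (u - 1) * X := by
  rw [sub_eq_add_neg u 1, gammaSeries_add, gammaSeries_neg_one h1, gammaSeries_eq_subst,
    hu.lamSeries_eq, ← coe_substAlgHom (hasSubst_uSer K), map_add, map_one, map_mul,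
    substAlgHom_X (hasSubst_uSer K), coe_substAlgHom, subst_C]
  rw [show MvPowerSeries.C u = (C u : K⟦X⟧) from rfl, add_mul, one_mul, mul_assoc,
    mul_comm (uSer K), one_sub_mul_uSer, ← sub_eq_add_neg, map_sub, map_one]
  ring

theorem gamma_sum_sub_card (h1 : LineLike (1 : K)) (s : Multiset K) (hs : ∀ u ∈ s, LineLike u)
    (k : ℕ) :
    gamma k (s.sum - (Multiset.card s : K)) = (s.map fun u => u - 1).esymm k := by
  have : s.sum - (Multiset.card s : K) = (s.map fun u => u - 1).sum := by
    rw [Multiset.sum_map_sub, Multiset.map_id', Multiset.map_const', Multiset.sum_replicate,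
      nsmul_one]
  rw [← coeff_gammaSeries, this, gammaSeries_multiset_sum, Multiset.map_map,
    ← coeff_prod_one_add_C_mul_X, Multiset.map_map]
  exact congrArg (fun m => coeff k (Multiset.prod m))
    (Multiset.map_congr rfl fun u hu => gammaSeries_lineLike_sub_one h1 (hs u hu))

theorem gammaSeries_sub_natCast_of_rank (h1 : LineLike (1 : K)) (e : K) (m : ℕ)
    (he : ∀ i : ℕ, m < i → LambdaOps.lam i e = 0) :
    gammaSeries (e - (m : K)) =
      ∑ i ∈ range (m + 1), C (LambdaOps.lam i e) * X ^ i * (1 - X) ^ (m - i) := by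
  have hl : lamSeries e = ∑ i ∈ range (m + 1), C (LambdaOps.lam i e) * X ^ i := by
    ext n
    rw [map_sum, coeff_lamSeries]
    simp_rw [coeff_C_mul, coeff_X_pow, mul_ite, mul_one, mul_zero]
    rw [Finset.sum_ite_eq]
    split_ifs with h
    · rfl
    · exact he n (by simp at h; omega)
  rw [sub_eq_add_neg e, gammaSeries_add, gammaSeries_neg_natCast h1, gammaSeries_eq_subst, hl,
    ← coe_substAlgHom (hasSubst_uSer K), map_sum, sum_mul]
  refine sum_congr rfl fun i hi => ?_
  rw [mem_range] at hi
  rw [map_mul, map_pow, substAlgHom_X (hasSubst_uSer K), coe_substAlgHom, subst_C]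
  rw [show MvPowerSeries.C (LambdaOps.lam i e) = (C (LambdaOps.lam i e) : K⟦X⟧) from rfl]
  have hpow : (1 - X : K⟦X⟧) ^ m = (1 - X) ^ i * (1 - X) ^ (m - i) := by
    rw [← pow_add]; congr 1; omega
  rw [hpow, mul_assoc, mul_assoc, ← mul_assoc (uSer K ^ i), ← mul_pow, mul_comm (uSer K),
    one_sub_mul_uSer]

theorem coeff_one_sub_X_pow_ps (R : Type*) [CommRing R] (n k : ℕ) :
    coeff k ((1 - X : R⟦X⟧) ^ n) = (-1) ^ k * (n.choose k : R) := by
  have : ((1 - X : R⟦X⟧) ^ n) = rescale (-1 : R) ((1 + X) ^ n) := by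
    rw [map_pow, map_add, map_one, rescale_neg_one_X, sub_eq_add_neg]
  rw [this, coeff_rescale, coeff_one_add_X_pow_ps]

theorem gamma_sub_natCast_of_rank (h1 : LineLike (1 : K)) (e : K) (m : ℕ)
    (he : ∀ i : ℕ, m < i → LambdaOps.lam i e = 0) (k : ℕ) :
    gamma k (e - (m : K)) = ∑ i ∈ range (m + 1), if i ≤ k then
      (-1) ^ (k - i) * ((m - i).choose (k - i) : K) * LambdaOps.lam i e else 0 := by
  rw [← coeff_gammaSeries, gammaSeries_sub_natCast_of_rank h1 e m he, map_sum]
  refine sum_congr rfl fun i _ => ?_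
  rw [mul_assoc, coeff_C_mul, coeff_X_pow_mul']
  split_ifs
  · rw [coeff_one_sub_X_pow_ps]; ring
  · rw [mul_zero]

theorem gamma_sub_natCast_eq_zero (h1 : LineLike (1 : K)) (e : K) (m : ℕ)
    (he : ∀ i : ℕ, m < i → LambdaOps.lam i e = 0) {k : ℕ} (hk : m < k) :
    gamma k (e - (m : K)) = 0 := by
  rw [gamma_sub_natCast_of_rank h1 e m he]
  refine sum_eq_zero fun i hi => ?_
  rw [mem_range] at hi
  rw [if_pos (by omega), Nat.choose_eq_zero_of_lt (by omega)]
  simp

theorem gamma_top_sub_natCast (h1 : LineLike (1 : K)) (e : K) (m : ℕ)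
    (he : ∀ i : ℕ, m < i → LambdaOps.lam i e = 0) :
    gamma m (e - (m : K)) =
      (-1) ^ m * ∑ i ∈ range (m + 1), (-1) ^ i * LambdaOps.lam i e := by
  rw [gamma_sub_natCast_of_rank h1 e m he, mul_sum]
  refine sum_congr rfl fun i hi => ?_
  rw [mem_range] at hi
  rw [if_pos (by omega), Nat.choose_self, Nat.cast_one, mul_one, ← mul_assoc, ← pow_add]
  congr 1
  have h2 : m + i = (m - i) + (i + i) := by omega
  rw [h2, pow_add, Even.neg_one_pow (n := i + i) ⟨i, rfl⟩, mul_one]

end Groth.Agent.Lib.Lambda
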