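import Groth.Prelude.Def_KRR
import Groth.Agent.Lib.Lambda.Series
import Mathlib.RingTheory.AdjoinRoot

/-!
# The functional `ℓ ^ i ↦ σ^i(e)` on the elementary extension
-/

set_option autoImplicit false

open PowerSeries Finset LambdaRing Groth.Agent.Lib.Lambda

noncomputable section

namespace Groth.Agent.Lib.Lambda.Functional

universe v

variable {K : Type v} [CommRing K] [LambdaOps K] (P : PosStructure K) {e : K}

/-- `∑_{i ≤ n} (-1) ^ i λ^i(e) σ^(n - i)(e) = δ`. -/
theorem sum_sigma (e : K) (n : ℕ) :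
    ∑ i ∈ range (n + 1), (-1 : K) ^ i * LambdaOps.lam i e * KRR.sigma (n - i) e =
      if n = 0 then 1 else 0 := by
  have hc : constantCoeff (rescale (-1 : K) (lamSeries e)) = ((1 : Kˣ) : K) := by
    rw [← coeff_zero_eq_constantCoeff_apply, coeff_rescale, coeff_lamSeries, LambdaOps.lam_zero,
      pow_zero, one_mul, Units.val_one]
  have h := congrArg (coeff n) (mul_invOfUnit _ _ hc)
  rw [coeff_one, coeff_mul, Finset.Nat.sum_antidiagonal_eq_sum_range_succ_mk] at h
  rw [← h]
  refine sum_congr rfl fun i _ => ?_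
  simp [coeff_rescale, coeff_lamSeries, KRR.sigma, KRR.sigmaSeries]

theorem sigma_zero (e : K) : KRR.sigma 0 e = 1 := by
  simpa [LambdaOps.lam_zero] using sum_sigma e 0

theorem root_relation (e : K) {m : ℕ} (hm : (P.aug e).toNat = m) :
    ∑ i ∈ range (m + 1), ((-1 : K) ^ i * LambdaOps.lam i e) •
      AdjoinRoot.root (KRR.extPoly P e) ^ (m - i) = 0 := by
  have h := AdjoinRoot.eval₂_root (KRR.extPoly P e)
  conv_lhs at h => arg 3; unfold KRR.extPoly
  rw [Polynomial.eval₂_finsetSum] at h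
  rw [hm] at h
  rw [← h]
  refine sum_congr rfl fun i _ => ?_
  rw [Polynomial.eval₂_mul, Polynomial.eval₂_C, Polynomial.eval₂_X_pow, Algebra.smul_def,
    AdjoinRoot.algebraMap_eq]

variable (he : e ∈ P.pos) {r : ℕ} (hr : P.aug e = r + 1)
  (f : AdjoinRoot (KRR.extPoly P e) →ₗ[K] K)
  (hf : ∀ i : ℕ, i ≤ r → f (AdjoinRoot.root (KRR.extPoly P e) ^ i) = KRR.sigma i e)

include he hr hf

theorem apply_root_pow (n : ℕ) : f (AdjoinRoot.root (KRR.extPoly P e) ^ n) = KRR.sigma n e := by
  induction n using Nat.strong_induction_on with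
  | _ n ih =>
    rcases le_or_gt n r with hn | hn
    · exact hf n hn
    obtain ⟨k, rfl⟩ : ∃ k, n = r + 1 + k := ⟨n - (r + 1), by omega⟩
    have h0 := root_relation P e (m := r + 1) (by omega)
    have h := congrArg (fun x => f (AdjoinRoot.root (KRR.extPoly P e) ^ k * x)) h0
    simp only [mul_sum, mul_zero, map_sum, map_zero, Algebra.mul_smul_comm, map_smul, ← pow_add,
      smul_eq_mul] at h
    have hs := sum_sigma e (r + 1 + k)
    rw [if_neg (by omega), ← sum_subset (range_subset_range.mpr (show r + 1 + 1 ≤ r + 1 + k + 1 by omega))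
      (fun i _ hi => by
        rw [P.lam_eq_zero e he i (by rw [hr]; simp at hi; omega), mul_zero, zero_mul])] at hs
    rw [sum_range_succ'] at h hs
    simp only [pow_zero, LambdaOps.lam_zero, one_mul, Nat.sub_zero] at h hs
    rw [sum_congr rfl (fun i hi => ?_), add_comm k] at h
    · exact add_left_cancel (h.trans hs.symm)
    · rw [ih _ (by simp at hi; omega)]
      congr 2
      simp at hi; omega

omit hf in
theorem root_isUnit : IsUnit (AdjoinRoot.root (KRR.extPoly P e)) := by
  have h := root_relation P e (m := r + 1) (by omega)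
  rw [sum_range_succ, Nat.sub_self, pow_zero] at h
  have hu : IsUnit ((((-1 : K) ^ (r + 1) * LambdaOps.lam (r + 1) e)) •
      (1 : AdjoinRoot (KRR.extPoly P e))) := by
    rw [← Algebra.algebraMap_eq_smul_one]
    refine IsUnit.map _ ((isUnit_one.neg.pow _).mul ?_)
    have := P.isUnit_lam e he
    rwa [hr, show ((r : ℤ) + 1).toNat = r + 1 by omega] at this
  rw [eq_neg_of_add_eq_zero_right h, IsUnit.neg_iff] at hu
  refine isUnit_of_dvd_unit (dvd_sum fun i hi => ?_) hu
  rw [Algebra.smul_def]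
  exact dvd_mul_of_dvd_right (dvd_pow_self _ (by simp at hi; omega)) _

theorem apply_inv_pow (linv : AdjoinRoot (KRR.extPoly P e))
    (hlinv : linv * AdjoinRoot.root (KRR.extPoly P e) = 1) {n : ℕ} (h1 : 1 ≤ n) (h2 : n ≤ r) :
    f (linv ^ n) = 0 := by
  induction n using Nat.strong_induction_on with
  | _ n ih =>
    set ℓ := AdjoinRoot.root (KRR.extPoly P e) with hℓ
    obtain ⟨k, hk⟩ : ∃ k, r + 1 = k + n := ⟨r + 1 - n, by omega⟩
    have h0 := root_relation P e (m := r + 1) (by omega)
    have h := congrArg (fun x => f (linv ^ n * x)) h0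
    simp only [mul_sum, mul_zero, map_sum, map_zero, Algebra.mul_smul_comm, map_smul,
      smul_eq_mul] at h
    have hlow : ∀ i, i ≤ k → linv ^ n * ℓ ^ (r + 1 - i) = ℓ ^ (k - i) := by
      intro i hi
      rw [show r + 1 - i = n + (k - i) by omega, pow_add, ← mul_assoc, ← mul_pow, hlinv, one_pow,
        one_mul]
    have hhigh : ∀ i, k ≤ i → i ≤ r + 1 → linv ^ n * ℓ ^ (r + 1 - i) = linv ^ (i - k) := by
      intro i hi hi'
      have : linv ^ n = linv ^ (i - k) * linv ^ (r + 1 - i) := by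
        rw [← pow_add]; congr 1; omega
      rw [this, mul_assoc, ← mul_pow, hlinv, one_pow, mul_one]
    rw [show r + 1 + 1 = (k + 1) + n by omega, sum_range_add] at h
    have hA : ∑ i ∈ range (k + 1), (-1 : K) ^ i * LambdaOps.lam i e *
        f (linv ^ n * ℓ ^ (r + 1 - i)) = 0 := by
      have hs := sum_sigma e k
      rw [if_neg (by omega)] at hs
      rw [← hs]
      refine sum_congr rfl fun i hi => ?_
      rw [hlow i (by simp at hi; omega), apply_root_pow P he hr f hf]
    obtain ⟨n', rfl⟩ : ∃ n', n = n' + 1 := ⟨n - 1, by omega⟩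
    rw [hA, zero_add, sum_range_succ, sum_eq_zero, zero_add] at h
    · rw [hhigh _ (by omega) (by omega), show k + 1 + n' - k = n' + 1 by omega,
        show k + 1 + n' = r + 1 by omega] at h
      have hu : IsUnit ((-1 : K) ^ (r + 1) * LambdaOps.lam (r + 1) e) := by
        refine (isUnit_one.neg.pow _).mul ?_
        have := P.isUnit_lam e he
        rwa [hr, show ((r : ℤ) + 1).toNat = r + 1 by omega] at this
      exact hu.mul_right_eq_zero.mp h
    · intro i hi
      simp at hi
      rw [hhigh _ (by omega) (by omega), ih _ (by omega) (by omega) (by omega), mul_zero]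

theorem apply_zero_eq : f 1 = 1 := by
  have := hf 0 (Nat.zero_le r)
  rwa [pow_zero, sigma_zero] at this

omit hf in
theorem monic_and_degree :
    (KRR.extPoly P e).Monic ∧ (KRR.extPoly P e).natDegree ≤ r + 1 := by
  have hm : (P.aug e).toNat = r + 1 := by omega
  unfold KRR.extPoly
  rw [hm]
  refine ⟨?_, Polynomial.natDegree_sum_le_of_forall_le _ _ fun i _ =>
    (Polynomial.natDegree_C_mul_X_pow_le _ _).trans (by omega)⟩
  rw [sum_range_succ', add_comm]
  simp only [pow_zero, LambdaOps.lam_zero, one_mul, map_one, Nat.sub_zero]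
  refine Polynomial.monic_X_pow_add ((Polynomial.degree_sum_le _ _).trans_lt ?_)
  rw [Finset.sup_lt_iff (WithBot.bot_lt_coe _)]
  intro i _
  exact (Polynomial.degree_C_mul_X_pow_le _ _).trans_lt (by exact_mod_cast (by omega : r + 1 - (i + 1) < r + 1))

omit hf in
theorem lam_top_eq_zero (inst : LambdaOps (AdjoinRoot (KRR.extPoly P e)))
    (hlam : ∀ (i : ℕ) (x : K), @LambdaOps.lam _ _ inst i (AdjoinRoot.of (KRR.extPoly P e) x) =
      AdjoinRoot.of (KRR.extPoly P e) (LambdaOps.lam i x))
    (hroot : ∀ i : ℕ, 2 ≤ i → @LambdaOps.lam _ _ inst i (AdjoinRoot.root (KRR.extPoly P e)) = 0) :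
    @LambdaOps.lam _ _ inst (r + 1) (AdjoinRoot.of (KRR.extPoly P e) e - AdjoinRoot.root (KRR.extPoly P e)) = 0 := by
  letI := inst
  set ℓ := AdjoinRoot.root (KRR.extPoly P e) with hℓ
  set of' := AdjoinRoot.of (KRR.extPoly P e) with hof
  set q := of' e - ℓ with hq
  have hrec : ∀ n, LambdaOps.lam n q = ∑ j ∈ range (n + 1), (-1) ^ (n - j) *
      of' (LambdaOps.lam j e) * ℓ ^ (n - j) := by
    intro n
    induction n with
    | zero => simp [LambdaOps.lam_zero]
    | succ n ih =>
      have hadd : LambdaOps.lam (n + 1) (of' e) =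
          LambdaOps.lam (n + 1) q + LambdaOps.lam n q * ℓ := by
        rw [← coeff_lamSeries, show of' e = q + ℓ by rw [hq, sub_add_cancel], lamSeries_add,
          LineLike.lamSeries_eq (u := ℓ) hroot, mul_add, mul_one, map_add, ← mul_assoc,
          coeff_succ_mul_X, coeff_mul_C, coeff_lamSeries, coeff_lamSeries]
      rw [eq_sub_of_add_eq hadd.symm, ih, hlam, sum_range_succ _ (n + 1), Nat.sub_self, pow_zero,
        pow_zero, one_mul, mul_one, sub_eq_add_neg, sum_mul, ← sum_neg_distrib, add_comm]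
      congr 1
      refine sum_congr rfl fun j hj => ?_
      simp at hj
      rw [show n + 1 - j = n - j + 1 by omega]
      ring
  have hrel := root_relation P e (m := r + 1) (by omega)
  rw [hrec]
  have : ∀ j ∈ range (r + 1 + 1), (-1 : AdjoinRoot (KRR.extPoly P e)) ^ (r + 1 - j) *
      of' (LambdaOps.lam j e) * ℓ ^ (r + 1 - j) =
      (-1) ^ (r + 1) * (((-1 : K) ^ j * LambdaOps.lam j e) • ℓ ^ (r + 1 - j)) := by
    intro j hj
    simp at hj
    rw [Algebra.smul_def, AdjoinRoot.algebraMap_eq, map_mul, map_pow, map_neg, map_one]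
    have h2 : (-1 : AdjoinRoot (KRR.extPoly P e)) ^ (r + 1) * (-1) ^ j =
        (-1) ^ (r + 1 - j) := by
      rw [← pow_add, show r + 1 + j = (r + 1 - j) + 2 * j by omega, pow_add, pow_mul, neg_one_sq,
        one_pow, mul_one]
    rw [← h2]; ring
  rw [sum_congr rfl this, ← mul_sum, hrel, mul_zero]

/-- An element fixed by `ℓ` on which `f` vanishes is zero. -/
theorem eq_zero_of_mul_root {z : AdjoinRoot (KRR.extPoly P e)}
    (hz : z * AdjoinRoot.root (KRR.extPoly P e) = z) (hfz : f z = 0) : z = 0 := by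
  set ℓ := AdjoinRoot.root (KRR.extPoly P e) with hℓ
  obtain ⟨linv, hlinv⟩ : ∃ linv, linv * ℓ = 1 := (root_isUnit P he hr).exists_left_inv
  have hzl : z * linv = z := by
    conv_lhs => rw [← hz]
    rw [mul_assoc, mul_comm ℓ, hlinv, mul_one]
  have hzn : ∀ n : ℕ, z * linv ^ n = z := by
    intro n
    induction n with
    | zero => simp
    | succ n ih => rw [pow_succ, ← mul_assoc, ih, hzl]
  have hmem : ∀ n, n ≤ r + 1 → ∀ x ∈ Submodule.span K (Set.range fun j : Fin n => ℓ ^ (j : ℕ)),
      f (x * linv ^ (n - 1)) = 0 → n = 0 ∨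
        x ∈ Submodule.span K (Set.range fun j : Fin (n - 1) => ℓ ^ (j : ℕ)) := by
    intro n hn x hx hfx
    rcases n with _ | n
    · exact Or.inl rfl
    refine Or.inr ?_
    obtain ⟨c, rfl⟩ := (Submodule.mem_span_range_iff_exists_fun K).mp hx
    rw [Nat.add_sub_cancel] at hfx ⊢
    rw [Fin.sum_univ_castSucc] at hfx ⊢
    have h0 : ∀ j : Fin n, f (ℓ ^ (j : ℕ) * linv ^ n) = 0 := by
      intro j
      have : linv ^ n = linv ^ (n - (j : ℕ)) * linv ^ (j : ℕ) := by
        rw [← pow_add]; congr 1; omega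
      rw [this, mul_comm (linv ^ (n - (j : ℕ))), ← mul_assoc, ← mul_pow, mul_comm ℓ, hlinv,
        one_pow, one_mul]
      exact apply_inv_pow P he hr f hf linv hlinv (by omega) (by omega)
    rw [add_mul, sum_mul, map_add, map_sum] at hfx
    simp only [smul_mul_assoc, map_smul, h0, smul_zero, sum_const_zero, zero_add, Fin.val_last,
      Fin.val_castSucc] at hfx ⊢
    rw [← mul_pow, mul_comm ℓ, hlinv, one_pow, apply_zero_eq P he hr f hf] at hfx
    rw [smul_eq_mul, mul_one] at hfx
    rw [hfx, zero_smul, add_zero]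
    exact (Submodule.mem_span_range_iff_exists_fun K).mpr ⟨fun j => c j.castSucc, rfl⟩
  have hspan : z ∈ Submodule.span K (Set.range fun j : Fin (r + 1) => ℓ ^ (j : ℕ)) := by
    have hmonic : (KRR.extPoly P e).Monic ∧ (KRR.extPoly P e).natDegree ≤ r + 1 :=
      monic_and_degree P he hr
    obtain ⟨q, rfl⟩ := AdjoinRoot.mk_surjective z
    have hq := AdjoinRoot.mk_leftInverse hmonic.1 (AdjoinRoot.mk _ q)
    rw [← hq, AdjoinRoot.modByMonicHom_mk]
    by_cases htriv : Subsingleton K
    · have : Subsingleton (AdjoinRoot (KRR.extPoly P e)) :=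
        Module.subsingleton K _
      rw [Subsingleton.elim (AdjoinRoot.mk _ _) (0 : AdjoinRoot (KRR.extPoly P e))]
      exact zero_mem _
    rw [not_subsingleton_iff_nontrivial] at htriv
    set q' := q %ₘ KRR.extPoly P e
    have hdeg : q'.natDegree < r + 1 := by
      rcases eq_or_ne q' 0 with h | h
      · rw [h, Polynomial.natDegree_zero]; omega
      · have := (Polynomial.natDegree_lt_iff_degree_lt h).mpr
          (lt_of_lt_of_le (Polynomial.degree_modByMonic_lt q hmonic.1)
            (Polynomial.degree_le_of_natDegree_le hmonic.2))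
        exact this
    rw [q'.as_sum_range' (r + 1) hdeg, map_sum]
    refine Submodule.sum_mem _ fun j hj => ?_
    rw [← Polynomial.C_mul_X_pow_eq_monomial, map_mul, map_pow, AdjoinRoot.mk_X,
      AdjoinRoot.mk_C, ← AdjoinRoot.algebraMap_eq, ← Algebra.smul_def]
    exact Submodule.smul_mem _ _ (Submodule.subset_span ⟨⟨j, mem_range.mp hj⟩, rfl⟩)
  have : ∀ k, k ≤ r + 1 → z ∈ Submodule.span K (Set.range fun j : Fin (r + 1 - k) => ℓ ^ (j : ℕ)) := by
    intro k
    induction k with
    | zero => exact fun _ => hspan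
    | succ k ih =>
      intro hk
      rcases hmem (r + 1 - k) (by omega) z (ih (by omega)) (by rw [hzn]; exact hfz) with h | h
      · omega
      · rwa [show r + 1 - (k + 1) = r + 1 - k - 1 by omega]
  have h := this (r + 1) le_rfl
  rw [Nat.sub_self] at h
  simpa using h

/-- The exterior powers of `q = e - ℓ`. -/
theorem apply_lam_sub (inst : LambdaOps (AdjoinRoot (KRR.extPoly P e)))
    (hext : ∀ (i : ℕ) (x : K), @LambdaOps.lam _ _ inst i (AdjoinRoot.of (KRR.extPoly P e) x) =
      AdjoinRoot.of (KRR.extPoly P e) (LambdaOps.lam i x))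
    (hroot : ∀ i : ℕ, 2 ≤ i → @LambdaOps.lam _ _ inst i (AdjoinRoot.root (KRR.extPoly P e)) = 0)
    (i : ℕ) :
    f (@LambdaOps.lam _ _ inst i (AdjoinRoot.of (KRR.extPoly P e) e - AdjoinRoot.root (KRR.extPoly P e))) =
      if i = 0 then 1 else 0 := by
  letI := inst
  set ℓ := AdjoinRoot.root (KRR.extPoly P e) with hℓ
  set q := AdjoinRoot.of (KRR.extPoly P e) e - ℓ with hq
  have hS : lamSeries q = lamSeries (AdjoinRoot.of (KRR.extPoly P e) e) *
      mk (fun j => (-ℓ) ^ j) := by
    have h1 : lamSeries (AdjoinRoot.of (KRR.extPoly P e) e) = lamSeries q * (1 + C ℓ * X) := by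
      rw [← LineLike.lamSeries_eq (u := ℓ) hroot, ← lamSeries_add, hq, sub_add_cancel]
    have h2 : (1 + C ℓ * X) * mk (fun j => (-ℓ) ^ j) = 1 := by
      ext n
      rw [add_mul, one_mul, mul_assoc, map_add, coeff_C_mul, coeff_mk]
      rcases n with _ | n
      · simp
      · rw [coeff_succ_X_mul, coeff_mk, coeff_one, if_neg (Nat.succ_ne_zero n), pow_succ]
        ring
    rw [h1, mul_assoc, h2, mul_one]
  have h := congrArg (fun s => f (coeff i s)) hS
  simp only [coeff_lamSeries, coeff_mul, Finset.Nat.sum_antidiagonal_eq_sum_range_succ_mk, coeff_mk,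
    map_sum, hext] at h
  rw [h]
  have hterm : ∀ a ∈ range (i + 1), f (AdjoinRoot.of (KRR.extPoly P e) (LambdaOps.lam a e) *
      (-ℓ) ^ (i - a)) = (-1) ^ i * ((-1) ^ a * LambdaOps.lam a e * KRR.sigma (i - a) e) := by
    intro a ha
    have : AdjoinRoot.of (KRR.extPoly P e) (LambdaOps.lam a e) * (-ℓ) ^ (i - a) =
        (LambdaOps.lam a e * (-1) ^ (i - a)) • ℓ ^ (i - a) := by
      rw [Algebra.smul_def, AdjoinRoot.algebraMap_eq, map_mul, map_pow, map_neg, map_one,
        neg_pow ℓ]
      ring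
    rw [this, map_smul, apply_root_pow P he hr f hf, smul_eq_mul]
    have h2 : (-1 : K) ^ (i - a) = (-1) ^ i * (-1) ^ a := by
      simp at ha
      rw [← pow_add, show i + a = (i - a) + 2 * a by omega, pow_add, pow_mul, neg_one_sq, one_pow,
        mul_one]
    rw [h2]; ring
  rw [sum_congr rfl hterm, ← mul_sum, sum_sigma]
  split_ifs with h0
  · subst h0; simp
  · simp

theorem eq_apply_mul_lamAlt (inst : LambdaOps (AdjoinRoot (KRR.extPoly P e)))
    (Pc : @PosStructure _ _ inst)
    (hext : @IsExtension K _ _ _ _ inst P Pc (AdjoinRoot.of (KRR.extPoly P e)))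
    (hroot : ∀ i : ℕ, 2 ≤ i → @LambdaOps.lam _ _ inst i (AdjoinRoot.root (KRR.extPoly P e)) = 0)
    (haug : @PosStructure.aug _ _ inst Pc (AdjoinRoot.root (KRR.extPoly P e)) = 1)
    (z : AdjoinRoot (KRR.extPoly P e)) (hz : z * (1 - AdjoinRoot.root (KRR.extPoly P e)) = 0) :
    z = AdjoinRoot.of (KRR.extPoly P e) (f z) *
      @KRR.lamAlt _ _ inst Pc (AdjoinRoot.of (KRR.extPoly P e) e - AdjoinRoot.root (KRR.extPoly P e)) := by
  letI := inst
  have hlam : ∀ (i : ℕ) (x : K), LambdaOps.lam i (AdjoinRoot.of (KRR.extPoly P e) x) =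
      AdjoinRoot.of (KRR.extPoly P e) (LambdaOps.lam i x) := fun i x =>
    (hext.isLambdaHom i x).symm
  set ℓ := AdjoinRoot.root (KRR.extPoly P e) with hℓ
  set of' := AdjoinRoot.of (KRR.extPoly P e) with hof
  set q := of' e - ℓ with hq
  have haugq : (Pc.aug q).toNat = r := by
    rw [hq, map_sub, hext.aug_comp, hr, haug]; omega
  set Λ := KRR.lamAlt Pc q with hΛ
  have hfΛ : f Λ = 1 := by
    rw [hΛ, KRR.lamAlt, haugq, map_sum, sum_range_succ', pow_zero, one_mul, LambdaOps.lam_zero,
      apply_zero_eq P he hr f hf, sum_eq_zero, zero_add]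
    intro i _
    have : (-1 : AdjoinRoot (KRR.extPoly P e)) ^ (i + 1) * LambdaOps.lam (i + 1) q =
        ((-1 : K) ^ (i + 1)) • LambdaOps.lam (i + 1) q := by
      rw [Algebra.smul_def, map_pow, map_neg, map_one]
    rw [this, map_smul, apply_lam_sub P he hr f hf inst hlam hroot, if_neg (Nat.succ_ne_zero i),
      smul_zero]
  -- `Λ (1 - ℓ) = λ_{-1}(e)` is a scalar
  have hD : ∃ D : K, Λ * (1 - ℓ) = of' D := by
    refine ⟨∑ i ∈ range (r + 1 + 1), (-1) ^ i * LambdaOps.lam i e, ?_⟩
    have hadd : ∀ k, LambdaOps.lam (k + 1) (of' e) =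
        LambdaOps.lam (k + 1) q + LambdaOps.lam k q * ℓ := by
      intro k
      rw [← coeff_lamSeries, show of' e = q + ℓ by rw [hq, sub_add_cancel], lamSeries_add,
        LineLike.lamSeries_eq (u := ℓ) hroot, mul_add, mul_one, map_add, ← mul_assoc,
        coeff_succ_mul_X, coeff_mul_C, coeff_lamSeries, coeff_lamSeries]
    have hqtop : LambdaOps.lam (r + 1) q * (1 : AdjoinRoot (KRR.extPoly P e)) = 0 := by
      rw [mul_one]
      exact lam_top_eq_zero P he hr inst hlam hroot
    rw [mul_one] at hqtop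
    set F : ℕ → AdjoinRoot (KRR.extPoly P e) := fun k => (-1) ^ k * LambdaOps.lam k q with hF
    have hF0 : F 0 = 1 := by simp [hF, LambdaOps.lam_zero]
    have hFtop : F (r + 1) = 0 := by simp [hF, hqtop]
    have hsucc : ∀ k, of' ((-1) ^ (k + 1) * LambdaOps.lam (k + 1) e) = F (k + 1) - F k * ℓ := by
      intro k
      rw [map_mul, map_pow, map_neg, map_one, ← hlam, hadd, hF]
      ring
    rw [hΛ, KRR.lamAlt, haugq, map_sum, sum_range_succ' _ (r + 1), sum_congr rfl (fun k _ => hsucc k),
      sum_sub_distrib, ← sum_mul]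
    simp only [pow_zero, one_mul, LambdaOps.lam_zero, map_one]
    show (∑ k ∈ range (r + 1), F k) * (1 - ℓ) = _
    have e1 : ∑ k ∈ range (r + 1), F (k + 1) + F 0 = ∑ k ∈ range (r + 1), F k + F (r + 1) := by
      rw [← sum_range_succ', sum_range_succ]
    rw [hF0, hFtop, add_zero] at e1
    rw [mul_sub, mul_one]
    linear_combination -e1
  obtain ⟨D, hD⟩ := hD
  have hDz : of' (f z) * of' D = 0 := by
    have h0 : of' D * z = 0 := by
      rw [← hD, mul_assoc, mul_comm (1 - ℓ) z, hz, mul_zero]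
    have h1 : D * f z = 0 := by
      rw [← smul_eq_mul, ← map_smul, Algebra.smul_def, AdjoinRoot.algebraMap_eq, h0, map_zero]
    rw [← map_mul, mul_comm, h1, map_zero]
  refine sub_eq_zero.mp (eq_zero_of_mul_root P he hr f hf ?_ ?_)
  · have h1 : z * ℓ = z := by
      rw [mul_sub, mul_one, sub_eq_zero] at hz; exact hz.symm
    have h2 : of' (f z) * Λ * ℓ = of' (f z) * Λ := by
      have : of' (f z) * (Λ * (1 - ℓ)) = 0 := by rw [hD, hDz]
      rw [mul_sub, mul_one, mul_sub, sub_eq_zero, ← mul_assoc] at this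
      exact this.symm
    rw [sub_mul, h1, h2]
  · rw [map_sub, hof, ← AdjoinRoot.algebraMap_eq, ← Algebra.smul_def, map_smul, hfΛ, smul_eq_mul,
      mul_one, sub_self]

end Groth.Agent.Lib.Lambda.Functional
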