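import Mathlib.LinearAlgebra.Lagrange
import Mathlib.Algebra.Polynomial.RingDivision
import Mathlib.RingTheory.Localization.FractionRing
import Mathlib.Algebra.MvPolynomial.CommRing
import Mathlib.Algebra.Ring.GeomSum
import Mathlib.Tactic.LinearCombination
import Mathlib.Tactic.Ring

/-!
# The residue of `h / ∏ (T - u_k)` and the change of variables `Y = T ^ j`
-/

set_option autoImplicit false

open Polynomial Finset

noncomputable section

namespace Groth.Agent.Lib.Lambda.ResidueChange

universe v w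

variable {M : Type v} [CommRing M] {n : ℕ}

/-- `∏ (T - u_k)`. -/
def prodLin (u : Fin n → M) : M[X] := ∏ k, (X - C (u k))

theorem monic_prodLin (u : Fin n → M) : (prodLin u).Monic :=
  monic_prod_of_monic _ _ fun k _ => monic_X_sub_C (u k)

theorem eval_prodLin (u : Fin n → M) (k : Fin n) : (prodLin u).eval (u k) = 0 := by
  rw [prodLin, eval_prod]
  exact prod_eq_zero (mem_univ k) (by simp)

theorem map_prodLin {M' : Type w} [CommRing M'] (φ : M →+* M') (u : Fin n → M) :
    (prodLin u).map φ = prodLin (fun k => φ (u k)) := by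
  simp [prodLin, Polynomial.map_prod]

/-- The coefficient of `T^(n-1)` in the remainder modulo `∏ (T - u_k)`. -/
def top (u : Fin n → M) (h : M[X]) : M := (h %ₘ prodLin u).coeff (n - 1)

theorem top_C_mul (u : Fin n → M) (c : M) (h : M[X]) : top u (C c * h) = c * top u h := by
  rw [top, top, ← smul_eq_C_mul, smul_modByMonic, coeff_smul, smul_eq_mul]

theorem top_congr (u : Fin n → M) {h h' : M[X]} (hd : prodLin u ∣ h - h') : top u h = top u h' := by
  rw [top, top, modByMonic_eq_of_dvd_sub (monic_prodLin u) hd]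

theorem map_top {M' : Type w} [CommRing M'] (φ : M →+* M') (u : Fin n → M) (h : M[X]) :
    φ (top u h) = top (fun k => φ (u k)) (h.map φ) := by
  rw [top, top, ← map_prodLin, ← Polynomial.map_modByMonic φ (monic_prodLin u), coeff_map]

/-- `∏_k ∑_{a < j} u_k^a T^(j-1-a) = ∏_k (T^j - u_k^j) / (T - u_k)`. -/
def theta (j : ℕ) (u : Fin n → M) : M[X] :=
  ∏ k, ∑ a ∈ range j, C (u k) ^ a * X ^ (j - 1 - a)

theorem map_theta {M' : Type w} [CommRing M'] (φ : M →+* M') (j : ℕ) (u : Fin n → M) :
    (theta j u).map φ = theta j (fun k => φ (u k)) := by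
  simp [theta, Polynomial.map_prod, Polynomial.map_sum]

theorem exists_adjugate (u : Fin n → M) (Θ : M[X]) :
    ∃ A : M[X], prodLin u ∣ Θ * A - C (∏ k, Θ.eval (u k)) := by
  have h1 : prodLin u ∣ ∏ k, (Θ - C (Θ.eval (u k))) :=
    prod_dvd_prod_of_dvd _ _ fun k _ => X_sub_C_dvd_sub_C_eval
  have h2 : Θ ∣ ∏ k, (Θ - C (Θ.eval (u k))) - ∏ k, (-C (Θ.eval (u k))) := by
    refine Ideal.mem_span_singleton.1 ((Ideal.Quotient.mk_eq_mk_iff_sub_mem _ _).1 ?_)
    simp only [map_prod, map_sub, map_neg,
      Ideal.Quotient.eq_zero_iff_mem.2 (Ideal.mem_span_singleton_self Θ), zero_sub]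
  obtain ⟨B, hB⟩ := h2
  refine ⟨(-1) ^ (n + 1) * B, ?_⟩
  have hneg : ∏ k, (-C (Θ.eval (u k))) = (-1) ^ n * C (∏ k, Θ.eval (u k)) := by
    rw [map_prod, Finset.prod_neg, Finset.card_univ, Fintype.card_fin]
  have : Θ * ((-1) ^ (n + 1) * B) - C (∏ k, Θ.eval (u k)) =
      (-1) ^ (n + 1) * ∏ k, (Θ - C (Θ.eval (u k))) := by
    rw [hneg] at hB
    have hs : ((-1 : M[X]) ^ n) * (-1) ^ n = 1 := by rw [← pow_add, ← two_mul, pow_mul, neg_one_sq, one_pow]
    rw [pow_succ]
    linear_combination ((-1 : M[X]) ^ n) * hB + C (∏ k, Θ.eval (u k)) * hs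
  rw [this]
  exact h1.mul_left _

theorem eval_modByMonic_node (u : Fin n → M) (h : M[X]) (k : Fin n) :
    (h %ₘ prodLin u).eval (u k) = h.eval (u k) := by
  conv_rhs => rw [← modByMonic_add_div h (prodLin u)]
  rw [eval_add, eval_mul, eval_prodLin, zero_mul, add_zero]

theorem top_eq_sum {F : Type w} [Field F] (u : Fin n → F) (hu : Function.Injective u) (h : F[X]) :
    top u h = ∑ k, h.eval (u k) / ∏ l ∈ univ.erase k, (u k - u l) := by
  have hdeg : (h %ₘ prodLin u).degree < (univ : Finset (Fin n)).card := by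
    refine (degree_modByMonic_lt h (monic_prodLin u)).trans_le ?_
    rw [prodLin, degree_prod]
    simp
  have := Lagrange.coeff_eq_sum (v := u) hu.injOn hdeg
  rw [Finset.card_univ, Fintype.card_fin] at this
  rw [top, this]
  exact sum_congr rfl fun k _ => by rw [eval_modByMonic_node]

theorem eval_theta (j : ℕ) (u : Fin n → M) (k : Fin n) :
    (theta j u).eval (u k) =
      (j * u k ^ (j - 1)) * ∏ l ∈ univ.erase k, ∑ a ∈ range j, u l ^ a * u k ^ (j - 1 - a) := by
  rw [theta, eval_prod, ← mul_prod_erase univ _ (mem_univ k)]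
  simp only [eval_finsetSum, eval_mul, eval_pow, eval_C, eval_X]
  congr 1
  rw [sum_congr rfl (fun a ha => show u k ^ a * u k ^ (j - 1 - a) = u k ^ (j - 1) by
    rw [← pow_add]; congr 1; simp at ha; omega), sum_const, card_range, nsmul_eq_mul]

theorem identity_field {F : Type w} [Field F] (j : ℕ) (u : Fin n → F) (hu : Function.Injective u)
    (hU : Function.Injective fun k => u k ^ j) (m : ℕ) (A : F[X]) (N : F)
    (hA : prodLin u ∣ theta j u * A - C N) :
    top u (C (j : F) * X ^ (j - 1) * (X ^ j) ^ m * A) = N * top (fun k => u k ^ j) (X ^ m) := by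
  rw [top_eq_sum u hu, top_eq_sum _ hU, mul_sum]
  refine sum_congr rfl fun k _ => ?_
  have hN : (theta j u).eval (u k) * A.eval (u k) = N := by
    obtain ⟨B, hB⟩ := hA
    have := congrArg (eval (u k)) hB
    rw [eval_sub, eval_mul, eval_C, eval_mul, eval_prodLin, zero_mul, sub_eq_zero] at this
    exact this
  have hprod : (∏ l ∈ univ.erase k, ∑ a ∈ range j, u l ^ a * u k ^ (j - 1 - a)) *
      (∏ l ∈ univ.erase k, (u k - u l)) = ∏ l ∈ univ.erase k, (u k ^ j - u l ^ j) := by
    rw [← prod_mul_distrib]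
    refine prod_congr rfl fun l _ => ?_
    linear_combination -(geom_sum₂_mul (u l) (u k) j)
  have hne : ∀ (w : Fin n → F), Function.Injective w → ∏ l ∈ univ.erase k, (w k - w l) ≠ 0 :=
    fun w hw => prod_ne_zero_iff.2 fun l hl => sub_ne_zero.2 fun h =>
      (mem_erase.1 hl).1 (hw h).symm
  rw [eval_theta] at hN
  simp only [eval_mul, eval_pow, eval_C, eval_X]
  rw [← mul_div_assoc, div_eq_div_iff (hne u hu) (hne (fun k => u k ^ j) hU), ← hprod, ← hN]
  ring

theorem identity_univ {j : ℕ} (hj : 1 ≤ j) (m : ℕ) (A : (MvPolynomial (Fin n) ℤ)[X])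
    (N : MvPolynomial (Fin n) ℤ) (hA : prodLin MvPolynomial.X ∣ theta j MvPolynomial.X * A - C N) :
    top MvPolynomial.X (C (j : MvPolynomial (Fin n) ℤ) * X ^ (j - 1) * (X ^ j) ^ m * A) =
      N * top (fun k => MvPolynomial.X k ^ j) (X ^ m) := by
  let ι := algebraMap (MvPolynomial (Fin n) ℤ) (FractionRing (MvPolynomial (Fin n) ℤ))
  have hι : Function.Injective ι := IsFractionRing.injective _ _
  have hu : Function.Injective fun k : Fin n => ι (MvPolynomial.X k) :=
    fun a b h => MvPolynomial.X_injective (hι h)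
  have hU : Function.Injective fun k : Fin n => ι (MvPolynomial.X k) ^ j := by
    intro a b h
    simp only [← map_pow] at h
    have h1 := hι h
    rw [MvPolynomial.X_pow_eq_monomial, MvPolynomial.X_pow_eq_monomial] at h1
    have h2 := MvPolynomial.monomial_left_injective one_ne_zero h1
    exact Finsupp.single_left_injective (by omega) h2
  apply hι
  rw [map_top, map_mul, map_top]
  have h := identity_field j (fun k => ι (MvPolynomial.X k)) hu hU m (A.map ι) (ι N) (by
    have := Polynomial.map_dvd ι hA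
    rwa [map_prodLin, Polynomial.map_sub, Polynomial.map_mul, map_theta, Polynomial.map_C] at this)
  simpa using h

/-- Change of variables `Y = T^j` for an inverse `ω` of `Θ` modulo `∏ (T - u_k)`. -/
theorem top_change {j : ℕ} (hj : 1 ≤ j) (u : Fin n → M) (ω : M[X])
    (hω : prodLin u ∣ theta j u * ω - 1) (m : ℕ) :
    top u (C (j : M) * X ^ (j - 1) * (X ^ j) ^ m * ω) = top (fun k => u k ^ j) (X ^ m) := by
  obtain ⟨A₀, hA₀⟩ := exists_adjugate (MvPolynomial.X : Fin n → MvPolynomial (Fin n) ℤ)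
    (theta j MvPolynomial.X)
  set N₀ := ∏ k, (theta j (MvPolynomial.X : Fin n → MvPolynomial (Fin n) ℤ)).eval (MvPolynomial.X k)
  let φ : MvPolynomial (Fin n) ℤ →+* M := (MvPolynomial.aeval u).toRingHom
  have hφ : (fun k => φ (MvPolynomial.X k)) = u := funext fun k => MvPolynomial.aeval_X u k
  have huniv := congrArg φ (identity_univ hj m A₀ N₀ hA₀)
  rw [map_top, map_mul, map_top, hφ] at huniv
  simp only [Polynomial.map_mul, Polynomial.map_pow, Polynomial.map_C, Polynomial.map_X, map_natCast,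
    Polynomial.map_natCast, map_pow, congrFun hφ] at huniv
  have hA : prodLin u ∣ theta j u * A₀.map φ - C (φ N₀) := by
    have := Polynomial.map_dvd φ hA₀
    rwa [map_prodLin, Polynomial.map_sub, Polynomial.map_mul, map_theta, Polynomial.map_C, hφ] at this
  have hN : φ N₀ = ∏ k, (theta j u).eval (u k) := by
    simp only [N₀, map_prod]
    refine prod_congr rfl fun k _ => ?_
    rw [← Polynomial.eval_map_apply, map_theta, congrFun hφ k, hφ]
  have hunit : IsUnit (φ N₀) := by
    rw [hN, IsUnit.prod_univ_iff]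
    intro k
    obtain ⟨B, hB⟩ := hω
    have := congrArg (eval (u k)) hB
    rw [eval_sub, eval_mul, eval_one, eval_mul, eval_prodLin, zero_mul, sub_eq_zero] at this
    exact .of_mul_eq_one _ this
  set E := C (j : M) * X ^ (j - 1) * (X ^ j) ^ m
  refine hunit.mul_left_cancel ?_
  rw [← huniv, ← top_C_mul]
  refine top_congr u ?_
  obtain ⟨B, hB⟩ := hω
  obtain ⟨B', hB'⟩ := hA
  refine ⟨E * (A₀.map φ) * B - E * ω * B', ?_⟩
  simp only [E, map_natCast] at *
  linear_combination ((j : M[X]) * X ^ (j - 1) * (X ^ j) ^ m * A₀.map φ) * hB -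
    ((j : M[X]) * X ^ (j - 1) * (X ^ j) ^ m * ω) * hB'

end Groth.Agent.Lib.Lambda.ResidueChange
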