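import Groth.Prelude.Def_KRR
import Groth.Agent.Lib.Lambda.Functional
import Groth.Agent.Lib.Lambda.ResidueChange
import Groth.Agent.Lib.Lambda.SplitSpecial
import Mathlib.RingTheory.TensorProduct.Maps
import Mathlib.RingTheory.Flat.Localization
import Mathlib.RingTheory.Nilpotent.Basic
import Mathlib.RingTheory.Polynomial.Vieta

/-!
# Adams–Riemann–Roch for the elementary projection
-/

set_option autoImplicit false

open Finset LambdaRing Groth.Agent.Lib.Lambda Groth.Agent.Lib.Lambda.ResidueChange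
open scoped TensorProduct

noncomputable section

namespace Groth.Agent.Lib.Lambda.ARR

universe v

variable {K : Type v} [CommRing K] [LambdaOps K] {P : PosStructure K}

/-- `λ^i (ℓ x) = ℓ^i λ^i x` for a line element `ℓ`. -/
theorem lam_line_mul (hK : HasSplitting K P) {l : K} (hl : P.IsLine l) (x : K) (i : ℕ) :
    LambdaOps.lam i (l * x) = l ^ i * LambdaOps.lam i x := by
  obtain ⟨L, f, -, hf, ⟨s, t, hs, ht, hx⟩, -⟩ := exists_split_two hK x 0
  apply hf.injective
  rw [hf.isLambdaHom, map_mul, map_mul, map_pow, hf.isLambdaHom, hx]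
  have hfl := IsExtension.isLine hf hl
  have key : ∀ w : Multiset L.carrier, (∀ u ∈ w, L.posStr.IsLine u) →
      lamSeries (f l * w.sum) = PowerSeries.rescale (f l) (lamSeries w.sum) := by
    intro w hw
    induction w using Multiset.induction_on with
    | empty => simp [lamSeries_zero]
    | cons a w ih =>
      have ha := hw a (Multiset.mem_cons_self a w)
      rw [Multiset.sum_cons, mul_add, lamSeries_add, lamSeries_add, map_mul,
        ih fun u hu => hw u (Multiset.mem_cons_of_mem hu),
        LineLike.lamSeries_eq (IsLine.lineLike L.posStr (IsLine.mul hfl ha)),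
        LineLike.lamSeries_eq (IsLine.lineLike L.posStr ha)]
      congr 1
      ext k
      simp only [PowerSeries.coeff_rescale, map_add, PowerSeries.coeff_C_mul, PowerSeries.coeff_X,
        PowerSeries.coeff_one]
      rcases k with _ | _ | k <;> simp
  have : lamSeries (f l * (s.sum - t.sum)) =
      PowerSeries.rescale (f l) (lamSeries (s.sum - t.sum)) := by
    refine (isUnit_lamSeries (f l * t.sum)).mul_right_cancel ?_
    conv_rhs => arg 2; rw [key t ht]
    rw [← map_mul, ← lamSeries_add, ← lamSeries_add, ← mul_add, sub_add_cancel, key s hs]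
  rw [← coeff_lamSeries, this, PowerSeries.coeff_rescale, coeff_lamSeries]

theorem bott_image {A B : Type*} [CommRing A] [LambdaOps A] [CommRing B] (φ : A →+* B)
    (Pa : PosStructure A) (j : ℕ) (x : A) {m : ℕ} (hm : (Pa.aug x).toNat = m) (g : Fin m → B)
    (hg : ∀ i < m, φ (LambdaOps.lam (i + 1) x) = ((univ : Finset (Fin m)).val.map g).esymm (i + 1)) :
    φ (KRR.bott Pa j x) = ∏ k, ∑ a ∈ range j, g k ^ a := by
  subst hm
  unfold KRR.bott
  have h1 : φ (MvPolynomial.aeval (fun i : Fin (Pa.aug x).toNat => LambdaOps.lam (i.1 + 1) x)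
      (KRR.bottPoly j (Pa.aug x).toNat)) = MvPolynomial.aeval
      (fun i : Fin (Pa.aug x).toNat => φ (LambdaOps.lam (i.1 + 1) x)) (KRR.bottPoly j (Pa.aug x).toNat) :=
    MvPolynomial.comp_aeval_apply (R := ℤ) _ φ.toIntAlgHom _
  rw [h1, show (fun i : Fin (Pa.aug x).toNat => φ (LambdaOps.lam (i.1 + 1) x)) =
      fun i : Fin (Pa.aug x).toNat => MvPolynomial.aeval g (MvPolynomial.esymm _ ℤ (i.1 + 1)) from
    funext fun i => by rw [MvPolynomial.aeval_esymm_eq_multiset_esymm, hg i.1 i.2],
    ← MvPolynomial.comp_aeval_apply]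
  have h3 := congrArg Subtype.val ((MvPolynomial.esymmAlgEquiv (Fin (Pa.aug x).toNat) ℤ
    (Fintype.card_fin _)).apply_symm_apply
      ⟨KRR.bottSym j (Pa.aug x).toNat, KRR.bottSym_isSymmetric j _⟩)
  rw [← MvPolynomial.esymmAlgHom_apply]
  erw [h3]
  simp [KRR.bottSym]

theorem pow_mem_bot_of_aug_eq_zero (hN : ∃ N, gammaFiltration P N = ⊥) {x : K} (hx : P.aug x = 0) :
    IsNilpotent x := by
  obtain ⟨N, hN⟩ := hN
  have h := pow_mem_gammaFiltration (mem_gammaFiltration_one hx) N
  rw [one_mul, hN, AddSubgroup.mem_bot] at h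
  exact ⟨N, h⟩

theorem exists_inv_bott {R : Type*} [CommRing R] (hK : HasSplitting K P)
    (hN : ∃ N, gammaFiltration P N = ⊥) (j : ℕ) (hu : IsUnit (j : R))
    (x : K) (m : ℕ) (hm : P.aug x = m) :
    ∃ w : R ⊗[ℤ] K, w * ((1 : R) ⊗ₜ[ℤ] KRR.bott P j x) = 1 := by
  have haug : P.aug (KRR.bott P j x) = (j : ℤ) ^ m := by
    rw [bott_image P.aug P j x (m := m) (by omega) (fun _ => 1) (fun i hi => ?_)]
    · simp
    · rw [aug_lam_eq_choose_int hK, hm, Ring.choose_natCast, Multiset.map_const',
        Finset.card_val, Finset.card_univ, Fintype.card_fin, esymm_replicate_one]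
  set y := KRR.bott P j x with hy
  have hnil : IsNilpotent (y - ((j ^ m : ℕ) : K)) := pow_mem_bot_of_aug_eq_zero hN (by
    rw [map_sub, map_natCast, haug]; push_cast; ring)
  have hsplit : (1 : R) ⊗ₜ[ℤ] y =
      ((j ^ m : ℕ) : R ⊗[ℤ] K) +
        (Algebra.TensorProduct.includeRight : K →ₐ[ℤ] R ⊗[ℤ] K) (y - ((j ^ m : ℕ) : K)) := by
    rw [map_sub, map_natCast, Algebra.TensorProduct.includeRight_apply]
    ring
  have hu' : IsUnit (((j ^ m : ℕ) : R ⊗[ℤ] K)) := by
    have := (hu.pow m).map (Algebra.TensorProduct.includeLeft :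
      R →ₐ[ℤ] R ⊗[ℤ] K)
    rw [map_pow, map_natCast] at this
    push_cast
    exact this
  obtain ⟨w, hw⟩ := (IsNilpotent.isUnit_add_left_of_commute
    (hnil.map (Algebra.TensorProduct.includeRight (R := ℤ) (A := R)))
    hu' (Commute.all _ _)).exists_left_inv
  exact ⟨w, by rw [hsplit]; exact hw⟩

variable (P)

/-- `top` on `K_e`. -/
def topK {e : K} (hm : (KRR.extPoly P e).Monic) (r : ℕ) (h : AdjoinRoot (KRR.extPoly P e)) : K :=
  (AdjoinRoot.modByMonicHom hm h).coeff r

theorem apply_eq_topK {e : K} (he : e ∈ P.pos) {r : ℕ} (hr : P.aug e = r + 1)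
    (f : AdjoinRoot (KRR.extPoly P e) →ₗ[K] K)
    (hf : ∀ i : ℕ, i ≤ r → f (AdjoinRoot.root (KRR.extPoly P e) ^ i) = KRR.sigma i e)
    (hm : (KRR.extPoly P e).Monic) (x : AdjoinRoot (KRR.extPoly P e)) :
    f x = topK P hm r (AdjoinRoot.root (KRR.extPoly P e) ^ r * x) := by
  set ℓ := AdjoinRoot.root (KRR.extPoly P e) with hℓ
  have hlow : ∀ k, k ≤ r → topK P hm r (ℓ ^ k) = if k = r then 1 else 0 := by
    intro k hk
    rcases subsingleton_or_nontrivial K with hs | hs
    · exact Subsingleton.elim _ _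
    have hdeg : (KRR.extPoly P e).natDegree = r + 1 := by
      refine le_antisymm (Functional.monic_and_degree P he hr).2 (Polynomial.le_natDegree_of_ne_zero ?_)
      have h : (KRR.extPoly P e).coeff (r + 1) = 1 := by
        rw [KRR.extPoly, Polynomial.finsetSum_coeff, show (P.aug e).toNat = r + 1 by omega,
          sum_eq_single 0]
        · simp [LambdaOps.lam_zero]
        · intro i hi hne
          simp at hi
          rw [Polynomial.coeff_C_mul_X_pow, if_neg (by omega)]
        · simp
      rw [h]; exact one_ne_zero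
    rw [topK, hℓ, ← AdjoinRoot.mk_X, ← map_pow, AdjoinRoot.modByMonicHom_mk,
      (Polynomial.modByMonic_eq_self_iff hm).2 ?_, Polynomial.coeff_X_pow]
    · simp [eq_comm]
    · rw [Polynomial.degree_X_pow, Polynomial.degree_eq_natDegree hm.ne_zero, hdeg]
      exact_mod_cast Nat.lt_succ_of_le hk
  have hpow : ∀ i, topK P hm r (ℓ ^ r * ℓ ^ i) = KRR.sigma i e := by
    intro i
    induction i using Nat.strong_induction_on with
    | _ i ih =>
      rcases Nat.eq_zero_or_pos i with rfl | hi
      · rw [pow_zero, mul_one, hlow r le_rfl, if_pos rfl, Functional.sigma_zero]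
      obtain ⟨i, rfl⟩ : ∃ k, i = k + 1 := ⟨i - 1, by omega⟩
      have h0 := Functional.root_relation P e (m := r + 1) (by omega)
      have h := congrArg (fun z => topK P hm r (ℓ ^ i * z)) h0
      simp only [topK, mul_sum, mul_zero, map_sum, map_zero, Algebra.mul_smul_comm, map_smul,
        Polynomial.finsetSum_coeff, Polynomial.coeff_smul, Polynomial.coeff_zero, smul_eq_mul,
        ← pow_add, ← hℓ] at h
      have hS : ∑ a ∈ range (r + 1 + 1), (if a ≤ i + 1 then
          (-1 : K) ^ a * LambdaOps.lam a e * KRR.sigma (i + 1 - a) e else 0) = 0 := by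
        have hs := Functional.sum_sigma e (i + 1)
        rw [if_neg (Nat.succ_ne_zero i)] at hs
        set F : ℕ → K := fun a => if a ≤ i + 1 then
          (-1 : K) ^ a * LambdaOps.lam a e * KRR.sigma (i + 1 - a) e else 0
        have e1 : ∑ a ∈ range (r + 1 + 1), F a = ∑ a ∈ range (i + r + 2), F a :=
          sum_subset (range_subset_range.2 (by omega)) fun a _ ha => by
            simp at ha
            simp only [F]
            rw [P.lam_eq_zero e he a (by rw [hr]; exact_mod_cast (by omega : r + 1 < a))]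
            simp
        have e2 : ∑ a ∈ range (i + 1 + 1), F a = ∑ a ∈ range (i + r + 2), F a :=
          sum_subset (range_subset_range.2 (by omega)) fun a _ ha => by
            simp at ha
            simp only [F]
            rw [if_neg (by omega)]
        rw [e1, ← e2, ← hs]
        exact sum_congr rfl fun a ha => by simp at ha; simp only [F]; rw [if_pos (by omega)]
      rw [sum_range_succ'] at h hS
      rw [sum_congr rfl (fun a ha => ?_)] at h
      · simp only [Nat.zero_le, if_true, pow_zero, one_mul, LambdaOps.lam_zero, Nat.sub_zero] at h hS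
        rw [show i + (r + 1) = r + (i + 1) by omega] at h
        rw [← pow_add]
        exact add_left_cancel (h.trans hS.symm)
      · simp at ha
        split_ifs with h'
        · have := ih (i + 1 - (a + 1)) (by omega)
          rw [← pow_add] at this
          rw [← this]
          simp only [topK]
          congr 4
          omega
        · have := hlow (i + (r + 1 - (a + 1))) (by omega)
          rw [if_neg (by omega)] at this
          simp only [topK] at this
          rw [this, mul_zero]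
  obtain ⟨h, rfl⟩ := AdjoinRoot.mk_surjective x
  induction h using Polynomial.induction_on' with
  | add a b ha hb => simp only [map_add, mul_add, ha, hb, topK, Polynomial.coeff_add]
  | monomial i c =>
    rw [← Polynomial.C_mul_X_pow_eq_monomial, map_mul, map_pow, AdjoinRoot.mk_X, AdjoinRoot.mk_C,
      ← AdjoinRoot.algebraMap_eq, ← Algebra.smul_def, map_smul,
      Functional.apply_root_pow P he hr f hf, Algebra.mul_smul_comm, ← hpow, ← hℓ]
    simp [topK]

theorem adams_riemann_roch {R : Type} [CommRing R] [Module.Flat ℤ R] (hK : HasSplitting K P) {e : K} (he : e ∈ P.pos) {r : ℕ}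
    (hr : P.aug e = r + 1) (inst : LambdaOps (AdjoinRoot (KRR.extPoly P e)))
    (Pe : @PosStructure _ _ inst)
    (hext : @IsExtension K _ _ _ _ inst P Pe (AdjoinRoot.of (KRR.extPoly P e)))
    (hline : @PosStructure.IsLine _ _ inst Pe (AdjoinRoot.root (KRR.extPoly P e)))
    (hsplit : @HasSplitting _ _ inst Pe) (N : ℕ) (hN : @gammaFiltration _ _ inst Pe N = ⊥)
    (f : AdjoinRoot (KRR.extPoly P e) →ₗ[K] K)
    (hf : ∀ i : ℕ, i ≤ r → f (AdjoinRoot.root (KRR.extPoly P e) ^ i) = KRR.sigma i e)
    (linv : AdjoinRoot (KRR.extPoly P e)) (hlinv : linv * AdjoinRoot.root (KRR.extPoly P e) = 1)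
    (j : ℕ) (hj : 1 ≤ j) (hu : IsUnit (j : R)) :
    (∃ w : TensorProduct ℤ R (AdjoinRoot (KRR.extPoly P e)), w * ((1 : R) ⊗ₜ[ℤ] @KRR.bott _ _ inst Pe j (AdjoinRoot.of (KRR.extPoly P e) e * linv)) = 1) ∧
    ∀ w : TensorProduct ℤ R (AdjoinRoot (KRR.extPoly P e)), w * ((1 : R) ⊗ₜ[ℤ] @KRR.bott _ _ inst Pe j (AdjoinRoot.of (KRR.extPoly P e) e * linv)) = 1 →
      ∀ x : AdjoinRoot (KRR.extPoly P e),
        (1 : R) ⊗ₜ[ℤ] LambdaRing.adams P j (f x) =
          LinearMap.lTensor R f.toAddMonoidHom.toIntLinearMap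
            ((j : TensorProduct ℤ R (AdjoinRoot (KRR.extPoly P e))) * w * ((1 : R) ⊗ₜ[ℤ] @LambdaRing.adams _ _ inst Pe j x)) := by
  set ℓ := AdjoinRoot.root (KRR.extPoly P e) with hℓ
  set of' := AdjoinRoot.of (KRR.extPoly P e) with hof
  have hmonic : (KRR.extPoly P e).Monic := (Functional.monic_and_degree P he hr).1
  have hmtoNat : (P.aug e).toNat = r + 1 := by omega
  set q := of' e * linv with hq
  have hlq : ℓ * q = of' e := by rw [hq]; linear_combination (of' e) * hlinv
  have haugq : Pe.aug q = ((r + 1 : ℕ) : ℤ) := by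
    have := congrArg Pe.aug hlq
    rw [map_mul, hline.2, one_mul, hext.aug_comp, hr] at this
    rw [this]; push_cast; ring
  have hlamq : ∀ i, LambdaOps.lam i q = linv ^ i * of' (LambdaOps.lam i e) := by
    intro i
    have := lam_line_mul hsplit hline q i
    rw [hlq, ← hext.isLambdaHom] at this
    rw [this, ← mul_assoc, ← mul_pow, hlinv, one_pow, one_mul]
  refine ⟨exists_inv_bott hsplit ⟨N, hN⟩ j hu q (r + 1) haugq, fun w hw x => ?_⟩
  -- the splitting
  obtain ⟨L, φ, hL, hφ, hs⟩ := exists_split hK [e] (by simp [he])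
  obtain ⟨s, hsl, hse⟩ := hs e (by simp)
  have hcard := card_eq_toNat_aug hφ hsl hse
  rw [hmtoNat] at hcard
  obtain ⟨u, hue⟩ : ∃ u : Fin (r + 1) → L.carrier, (univ : Finset (Fin (r + 1))).val.map u = s := by
    have hlen : r + 1 = s.toList.length := by simp [hcard]
    refine ⟨fun i => s.toList.get (i.cast hlen), ?_⟩
    conv_rhs => rw [← Multiset.coe_toList s]
    rw [Fin.univ_val_map, ← List.ofFn_congr hlen.symm, List.ofFn_get]
  have hul : ∀ k, L.posStr.IsLine (u k) := fun k => hsl _ (hue ▸ Multiset.mem_map.2 ⟨k, Finset.mem_univ k, rfl⟩)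
  have hlam : ∀ i, φ (LambdaOps.lam i e) = s.esymm i := fun i => by
    rw [hφ.isLambdaHom, ← hse, lam_sum_lineLike s (lineLike_of_forall_isLine hsl)]
  have hpL : (KRR.extPoly P e).map φ = prodLin u := by
    have hmm : (univ : Finset (Fin (r + 1))).val.map (fun k => Polynomial.X - Polynomial.C (u k)) =
        s.map fun t => Polynomial.X - Polynomial.C t := by rw [← hue, Multiset.map_map]; rfl
    rw [prodLin, ← Finset.prod_map_val, hmm,
      Multiset.prod_X_sub_X_eq_sum_esymm, hcard, KRR.extPoly, hmtoNat, Polynomial.map_sum]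
    refine sum_congr rfl fun i _ => ?_
    rw [Polynomial.map_mul, Polynomial.map_C, Polynomial.map_pow, Polynomial.map_X, map_mul, map_pow,
      map_neg, map_one, hlam, map_mul, map_pow, map_neg, map_one, mul_assoc]
  -- the big ring
  let ι : L.carrier →+* R ⊗[ℤ] L.carrier :=
    (Algebra.TensorProduct.includeRight (R := ℤ) (A := R)).toRingHom
  set uM : Fin (r + 1) → R ⊗[ℤ] L.carrier := fun k => ι (u k) with huM
  let χ₀ : K →+* R ⊗[ℤ] L.carrier := ι.comp φ
  have hpM : (KRR.extPoly P e).map χ₀ = prodLin uM := by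
    rw [show χ₀ = ι.comp φ from rfl, ← Polynomial.map_map, hpL, map_prodLin]
  set pM := prodLin uM with hpMdef
  let b : AdjoinRoot (KRR.extPoly P e) →+* AdjoinRoot pM :=
    AdjoinRoot.lift ((AdjoinRoot.of pM).comp χ₀) (AdjoinRoot.root pM) (by
      rw [← Polynomial.eval₂_map, hpM]; exact AdjoinRoot.eval₂_root pM)
  have hb_of : ∀ c, b (of' c) = AdjoinRoot.of pM (χ₀ c) := fun c => AdjoinRoot.lift_of _
  have hb_root : b ℓ = AdjoinRoot.root pM := AdjoinRoot.lift_root _
  have hb_mk : ∀ h : Polynomial K, b (AdjoinRoot.mk (KRR.extPoly P e) h) = AdjoinRoot.mk pM (h.map χ₀) := by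
    intro h
    induction h using Polynomial.induction_on' with
    | add a c ha hc => simp only [map_add, Polynomial.map_add, ha, hc]
    | monomial i c =>
      rw [Polynomial.map_monomial, ← Polynomial.C_mul_X_pow_eq_monomial,
        ← Polynomial.C_mul_X_pow_eq_monomial, map_mul, map_pow, AdjoinRoot.mk_X, AdjoinRoot.mk_C,
        map_mul, map_pow, hb_of, hb_root, map_mul, map_pow, AdjoinRoot.mk_X, AdjoinRoot.mk_C]
  let a : R →+* AdjoinRoot pM :=
    (AdjoinRoot.of pM).comp (Algebra.TensorProduct.includeLeft (R := ℤ) (S := ℤ) (B := L.carrier)).toRingHom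
  let χ : R ⊗[ℤ] AdjoinRoot (KRR.extPoly P e) →ₐ[ℤ] AdjoinRoot pM :=
    Algebra.TensorProduct.productMap a.toIntAlgHom b.toIntAlgHom
  have hχ : ∀ (c : R) (y : AdjoinRoot (KRR.extPoly P e)), χ (c ⊗ₜ y) = a c * b y := fun c y =>
    Algebra.TensorProduct.productMap_apply_tmul _ _ c y
  have hmM : pM.Monic := monic_prodLin uM
  let topM : AdjoinRoot pM → R ⊗[ℤ] L.carrier := fun y => (AdjoinRoot.modByMonicHom hmM y).coeff r
  have htopM_add : ∀ y z, topM (y + z) = topM y + topM z := fun y z => by simp [topM]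
  have htopM_smul : ∀ c y, topM (AdjoinRoot.of pM c * y) = c * topM y := fun c y => by
    simp only [topM]
    rw [← AdjoinRoot.algebraMap_eq, ← Algebra.smul_def, map_smul, Polynomial.coeff_smul, smul_eq_mul]
  have htopM_mk : ∀ h, topM (AdjoinRoot.mk pM h) = top uM h := fun h => by
    simp only [topM, top, Nat.add_sub_cancel, AdjoinRoot.modByMonicHom_mk]
    rfl
  have hnat : ∀ y, topM (b y) = χ₀ (topK P hmonic r y) := by
    intro y
    obtain ⟨h, rfl⟩ := AdjoinRoot.mk_surjective y
    rw [hb_mk, htopM_mk, topK, AdjoinRoot.modByMonicHom_mk, top, Nat.add_sub_cancel, ← hpMdef, ← hpM,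
      ← Polynomial.map_modByMonic χ₀ hmonic, Polynomial.coeff_map]
  let ρ := Algebra.TensorProduct.map (AlgHom.id ℤ R) φ.toIntAlgHom
  have hρinj : Function.Injective ρ :=
    Module.Flat.lTensor_preserves_injective_linearMap (M := R) φ.toIntAlgHom.toLinearMap hφ.injective
  have hρf : ∀ z, ρ (LinearMap.lTensor R f.toAddMonoidHom.toIntLinearMap z) =
      topM (AdjoinRoot.root pM ^ r * χ z) := by
    intro z
    induction z with
    | zero => simp [topM]
    | add y z hy hz => simp only [map_add, mul_add, htopM_add, hy, hz]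
    | tmul c y =>
      rw [LinearMap.lTensor_tmul, hχ, show a c = AdjoinRoot.of pM (c ⊗ₜ[ℤ] (1 : L.carrier)) from rfl,
        mul_left_comm, htopM_smul, ← hb_root, ← map_pow, ← map_mul, hnat,
        ← apply_eq_topK P he hr f hf hmonic]
      show c ⊗ₜ φ (f y) = (c ⊗ₜ[ℤ] (1 : L.carrier)) * ((1 : R) ⊗ₜ φ (f y))
      rw [Algebra.TensorProduct.tmul_mul_tmul, mul_one, one_mul]
  -- Adams operations
  let ψL : L.carrier →+* L.carrier :=
    { toFun := adamsOp j
      map_one' := adamsOp_apply_one (lineLike_one_of_pos L.posStr) hj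
      map_mul' := adamsOp_mul_of_split hL hj
      map_zero' := adamsOp_zero_right j
      map_add' := adamsOp_add j }
  have hψu : ∀ k, ψL (u k) = u k ^ j := fun k => (IsLine.lineLike L.posStr (hul k)).adamsOp_eq hj
  -- the Bott class
  set linvA := b linv with hlinvA
  have hlinvA' : linvA * AdjoinRoot.root pM = 1 := by
    rw [hlinvA, ← hb_root, ← map_mul, hlinv, map_one]
  have hbott : b (KRR.bott Pe j q) * (AdjoinRoot.root pM ^ (j - 1)) ^ (r + 1) =
      AdjoinRoot.mk pM (ResidueChange.theta j uM) := by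
    rw [bott_image b Pe j q (m := r + 1) (by rw [haugq]; simp) (fun k => AdjoinRoot.of pM (uM k) * linvA)
      (fun i _ => ?_)]
    · rw [show (AdjoinRoot.root pM ^ (j - 1)) ^ (r + 1) = ∏ _k : Fin (r + 1), AdjoinRoot.root pM ^ (j - 1) by
          simp, ← prod_mul_distrib, ResidueChange.theta, map_prod]
      refine prod_congr rfl fun k _ => ?_
      rw [sum_mul, map_sum]
      refine sum_congr rfl fun c hc => ?_
      simp only [map_mul, map_pow, AdjoinRoot.mk_C, AdjoinRoot.mk_X]
      simp at hc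
      rw [mul_pow, mul_assoc, show j - 1 = c + (j - 1 - c) by omega, pow_add, ← mul_assoc (linvA ^ c),
        ← mul_pow, hlinvA', one_pow, one_mul, Nat.add_sub_cancel_left]
    · rw [hlamq, map_mul, map_pow, hb_of, ← hlinvA]
      show linvA ^ (i + 1) * AdjoinRoot.of pM (ι (φ (LambdaOps.lam (i + 1) e))) = _
      rw [hlam, ← hue, ← RingHom.comp_apply, map_esymm_multiset, ← smul_eq_mul,
        Multiset.pow_smul_esymm, Multiset.map_map, Multiset.map_map]
      exact congrArg (fun m => Multiset.esymm m (i + 1))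
        (Multiset.map_congr rfl fun k _ => mul_comm _ _)
  have hχw : χ w * b (KRR.bott Pe j q) = 1 := by
    have := congrArg χ hw
    rw [map_mul, map_one, hχ, map_one, one_mul] at this
    exact this
  obtain ⟨ω, hω⟩ := AdjoinRoot.mk_surjective (χ w * linvA ^ ((j - 1) * (r + 1)))
  have hωθ : prodLin uM ∣ ResidueChange.theta j uM * ω - 1 := by
    refine AdjoinRoot.mk_eq_mk.1 ?_
    rw [map_mul, map_one, hω, ← hbott, ← pow_mul]
    calc b (KRR.bott Pe j q) * AdjoinRoot.root pM ^ ((j - 1) * (r + 1)) *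
          (χ w * linvA ^ ((j - 1) * (r + 1)))
        = (χ w * b (KRR.bott Pe j q)) * (linvA * AdjoinRoot.root pM) ^ ((j - 1) * (r + 1)) := by ring
      _ = 1 := by rw [hχw, hlinvA', one_pow, one_mul]
  -- compare after the splitting
  apply hρinj
  rw [hρf, adams_eq_adamsOp P hj, adams_eq_adamsOp Pe hj]
  show (1 : R) ⊗ₜ φ (adamsOp j (f x)) = _
  rw [map_mul, map_mul, hχ, map_one, one_mul, map_natCast]
  obtain ⟨h, rfl⟩ := AdjoinRoot.mk_surjective x
  induction h using Polynomial.induction_on' with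
  | add a c ha hc =>
    simp only [map_add, adamsOp_add, TensorProduct.tmul_add, mul_add, htopM_add, ha, hc]
  | monomial i c =>
    rw [← Polynomial.C_mul_X_pow_eq_monomial, map_mul, map_pow, AdjoinRoot.mk_X, AdjoinRoot.mk_C,
      ← hℓ, ← hof, adamsOp_mul_of_split hsplit hj, ← map_adamsOp of' hext.isLambdaHom,
      (IsLine.lineLike Pe (IsLine.pow hline i)).adamsOp_eq hj, map_mul b, hb_of, map_pow, map_pow,
      hb_root]
    have hfx : f (of' c * ℓ ^ i) = c * KRR.sigma i e := by
      rw [hof, ← AdjoinRoot.algebraMap_eq, ← Algebra.smul_def, map_smul,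
        Functional.apply_root_pow P he hr f hf, smul_eq_mul]
    rw [hfx, adamsOp_mul_of_split hK hj, map_mul φ]
    have hσ : φ (adamsOp j (KRR.sigma i e)) = top (fun k => u k ^ j) (Polynomial.X ^ (r + i)) := by
      rw [map_adamsOp φ hφ.isLambdaHom, ← Functional.apply_root_pow P he hr f hf,
        apply_eq_topK P he hr f hf hmonic, ← pow_add, ← hℓ]
      have : φ (topK P hmonic r (ℓ ^ (r + i))) = top u (Polynomial.X ^ (r + i)) := by
        rw [topK, hℓ, ← AdjoinRoot.mk_X, ← map_pow, AdjoinRoot.modByMonicHom_mk, top,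
          Nat.add_sub_cancel, ← hpL, ← Polynomial.coeff_map, Polynomial.map_modByMonic φ hmonic,
          Polynomial.map_pow, Polynomial.map_X]
      rw [this]
      show ψL _ = _
      rw [ResidueChange.map_top, Polynomial.map_pow, Polynomial.map_X]
      exact congrArg (fun v => top v _) (funext hψu)
    rw [hσ]
    show ι (φ (adamsOp j c) * _) = _
    rw [map_mul, ResidueChange.map_top, Polynomial.map_pow, Polynomial.map_X]
    have hkey : AdjoinRoot.root pM ^ r * ((j : AdjoinRoot pM) * χ w *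
        (AdjoinRoot.of pM (χ₀ (adamsOp j c)) * (AdjoinRoot.root pM ^ i) ^ j)) =
        AdjoinRoot.of pM (χ₀ (adamsOp j c)) * AdjoinRoot.mk pM (Polynomial.C (j : R ⊗[ℤ] L.carrier) *
          Polynomial.X ^ (j - 1) * (Polynomial.X ^ j) ^ (r + i) * ω) := by
      simp only [map_mul, map_pow, AdjoinRoot.mk_C, AdjoinRoot.mk_X, map_natCast, hω]
      obtain ⟨j', rfl⟩ : ∃ j', j = j' + 1 := ⟨j - 1, by omega⟩
      simp only [Nat.add_sub_cancel]
      set z := AdjoinRoot.root pM
      have h1 : (z ^ (j' * (r + 1))) * linvA ^ (j' * (r + 1)) = 1 := by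
        rw [← mul_pow, mul_comm z, hlinvA', one_pow]
      have h2 : z ^ j' * (z ^ (j' + 1)) ^ (r + i) = z ^ r * (z ^ i) ^ (j' + 1) * z ^ (j' * (r + 1)) := by
        ring
      linear_combination (-(AdjoinRoot.of pM (χ₀ (adamsOp (j' + 1) c)) * ((j' + 1 : ℕ) : AdjoinRoot pM) *
        χ w * linvA ^ (j' * (r + 1)))) * h2 - (z ^ r * ((j' + 1 : ℕ) : AdjoinRoot pM) * χ w *
        AdjoinRoot.of pM (χ₀ (adamsOp (j' + 1) c)) * (z ^ i) ^ (j' + 1)) * h1
    rw [hkey, htopM_smul, htopM_mk, top_change hj uM ω hωθ]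
    simp only [huM, map_pow]
    rfl

end Groth.Agent.Lib.Lambda.ARR
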