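import Groth.Prelude.Def_KRR
import Groth.Agent.Lib.Lambda.SplitSpecial
import Mathlib.RingTheory.Nilpotent.Basic

/-!
# Ample line elements, Adams operations on `λ_{-1}`, rational γ-filtration
-/

set_option autoImplicit false

open PowerSeries Finset LambdaRing Groth.Agent.Lib.Lambda

noncomputable section

namespace Groth.Agent.Lib.Lambda.KRRFacts

universe v

variable {K : Type v} [CommRing K] [LambdaOps K] {P : PosStructure K}

theorem mem_rational_of_adams_congr (hK : HasSplitting K P) {j : ℕ} (hj : 2 ≤ j) (n : ℕ) (x : K)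
    (hx : ∃ N : ℕ, 1 ≤ N ∧ (N : K) * (adams P j x - (j : K) ^ n * x) ∈ gammaFiltration P (n + 1)) :
    ∃ N : ℕ, 1 ≤ N ∧ (N : K) * x ∈ gammaFiltration P n := by
  obtain ⟨N, hN, hNx⟩ := hx
  suffices ∀ m, m ≤ n → ∃ M : ℕ, 1 ≤ M ∧ (M : K) * x ∈ gammaFiltration P m from this n le_rfl
  intro m
  induction m with
  | zero => exact fun _ => ⟨1, le_rfl, mem_gammaFiltration_zero _⟩
  | succ m ih =>
    intro hm
    obtain ⟨M, hM, hMx⟩ := ih (by omega)
    have hlt : j ^ m < j ^ n := Nat.pow_lt_pow_right (by omega) (by omega)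
    refine ⟨N * M * (j ^ n - j ^ m), Nat.mul_pos (Nat.mul_pos hN hM) (by omega), ?_⟩
    have h1 : (N : K) * (adams P j ((M : K) * x) - (j : K) ^ m * ((M : K) * x)) ∈
        gammaFiltration P (m + 1) :=
      mul_mem_gammaFiltration_left _ (adams_sub_pow_mul_mem hK (by omega) hMx)
    have h2 : (M : K) * ((N : K) * (adams P j x - (j : K) ^ n * x)) ∈ gammaFiltration P (m + 1) :=
      mul_mem_gammaFiltration_left _ (gammaFiltration_anti (by omega) hNx)
    have hM' : adams P j ((M : K) * x) = (M : K) * adams P j x := by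
      have := map_nsmul (adamsPosAddHom P j) M x
      rw [nsmul_eq_mul, nsmul_eq_mul] at this
      exact this
    have := sub_mem h1 h2
    convert this using 1
    rw [hM']
    push_cast [Nat.cast_sub hlt.le]
    ring

theorem isUnit_isLine {u : K} (hu : P.IsLine u) : IsUnit u := by
  have := P.isUnit_lam u hu.1
  rwa [hu.2, show (1 : ℤ).toNat = 1 from rfl, LambdaOps.lam_one] at this

theorem gammaSeries_line_sub_line {a b : K} (ha : P.IsLine a) (hb : P.IsLine b) :
    gammaSeries (a - b) * (1 + PowerSeries.C (b - 1) * PowerSeries.X) =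
      1 + PowerSeries.C (a - 1) * PowerSeries.X := by
  rw [← gammaSeries_lineLike_sub_one (lineLike_one_of_pos P) (IsLine.lineLike P hb),
    ← gammaSeries_add, sub_add_sub_cancel,
    gammaSeries_lineLike_sub_one (lineLike_one_of_pos P) (IsLine.lineLike P ha)]

theorem gamma_line_sub_line {a b : K} (ha : P.IsLine a) (hb : P.IsLine b) (i : ℕ) :
    gamma (i + 1) (a - b) = (a - b) * (1 - b) ^ i := by
  have h := gammaSeries_line_sub_line ha hb
  induction i with
  | zero =>
    have h1 := congrArg (coeff 1) h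
    rw [mul_add, mul_one, ← mul_assoc, map_add, map_add, coeff_succ_mul_X, coeff_succ_mul_X,
      coeff_mul_C, coeff_one, if_neg one_ne_zero, zero_add, coeff_C, if_pos rfl, coeff_gammaSeries,
      coeff_gammaSeries, gamma_zero_left, one_mul] at h1
    simp only [pow_zero, mul_one, zero_add]
    linear_combination h1
  | succ i ih =>
    have h1 := congrArg (coeff (i + 2)) h
    rw [mul_add, mul_one, ← mul_assoc, map_add, map_add, coeff_succ_mul_X, coeff_succ_mul_X,
      coeff_mul_C, coeff_one, if_neg (Nat.succ_ne_zero (i + 1)), zero_add, coeff_C,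
      if_neg (Nat.succ_ne_zero i), coeff_gammaSeries, coeff_gammaSeries, ih] at h1
    rw [pow_succ]
    linear_combination h1

theorem isNilpotent_line_sub_one {u : K} (hu : KRR.IsAmpleElt P u) {w : K} (hw : P.IsLine w) :
    IsNilpotent (w - 1) := by
  obtain ⟨n₁, h₁⟩ := hu.2 (w - 1)
  obtain ⟨n₂, h₂⟩ := hu.2 (1 - w)
  set n := max n₁ n₂
  set b := u ^ n with hb
  have hbl : P.IsLine b := IsLine.pow hu.1 n
  set a := b * w with ha
  have hal : P.IsLine a := IsLine.mul hbl hw
  have key : ∀ {c d : K}, P.IsLine c → P.IsLine d →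
      (∃ (e : K) (m : ℕ), e ∈ P.pos ∧ c - d = e - m) → ∃ i : ℕ, (c - d) * (1 - d) ^ i = 0 := by
    rintro c d hc hd ⟨e, m, he, hcd⟩
    have haug : P.aug e = m := by
      have := congrArg P.aug hcd
      rw [map_sub, map_sub, hc.2, hd.2, map_natCast] at this
      linarith
    refine ⟨m, ?_⟩
    rw [← gamma_line_sub_line hc hd, hcd]
    exact gamma_sub_natCast_eq_zero (lineLike_one_of_pos P) e m
      (fun i hi => P.lam_eq_zero e he i (by rw [haug]; exact_mod_cast hi)) (Nat.lt_succ_self m)
  obtain ⟨i, hi⟩ := key hal hbl (by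
    obtain ⟨e, m, he, h⟩ := h₁ n (le_max_left _ _)
    exact ⟨e, m, he, by rw [← h, ha, hb]; ring⟩)
  obtain ⟨i', hi'⟩ := key hbl hal (by
    obtain ⟨e, m, he, h⟩ := h₂ n (le_max_right _ _)
    exact ⟨e, m, he, by rw [← h, ha, hb]; ring⟩)
  -- `(a - b)^(i+i'+1) = 0`
  have hz : IsNilpotent (a - b) := by
    refine ⟨i + i' + 1, ?_⟩
    rw [pow_succ, show (a - b) ^ (i + i') = ((1 - b) + -(1 - a)) ^ (i + i') by ring, add_pow, sum_mul]
    refine sum_eq_zero fun k hk => ?_
    simp at hk
    rcases le_or_gt i k with h | h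
    · obtain ⟨l, rfl⟩ := Nat.exists_eq_add_of_le h
      rw [pow_add]
      linear_combination ((1 - b) ^ l * (-(1 - a)) ^ (i + i' - (i + l)) *
        ((i + i').choose (i + l) : K)) * hi
    · obtain ⟨l, hl⟩ := Nat.exists_eq_add_of_le (show i' ≤ i + i' - k by omega)
      rw [hl, neg_pow (1 - a), pow_add (1 - a)]
      linear_combination (-((1 - b) ^ k * (-1) ^ (i' + l) * (1 - a) ^ l *
        ((i + i').choose k : K))) * hi'
  obtain ⟨v, hv⟩ : ∃ v, v * b = 1 := (isUnit_isLine hbl).exists_left_inv
  have : w - 1 = v * (a - b) := by rw [ha]; linear_combination -(w - 1) * hv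
  rw [this]
  exact (Commute.all v (a - b)).isNilpotent_mul_left hz

theorem sum_neg_one_pow_esymm {A : Type v} [CommRing A] (s : Multiset A) :
    ∑ i ∈ range (Multiset.card s + 1), (-1 : A) ^ i * s.esymm i = (s.map fun u => 1 - u).prod := by
  induction s using Multiset.induction_on with
  | empty => simp [Multiset.esymm]
  | cons a s ih =>
    rw [Multiset.map_cons, Multiset.prod_cons, ← ih, Multiset.card_cons, sum_range_succ',
      esymm_zero_eq_one]
    simp only [esymm_cons_succ, pow_zero, mul_one, mul_add, sum_add_distrib]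
    rw [sum_range_succ _ (Multiset.card s),
      esymm_eq_zero_of_card_lt s (Nat.lt_succ_self (Multiset.card s)), mul_zero, add_zero,
      sub_mul, one_mul, mul_sum,
      sum_range_succ' (fun i => (-1 : A) ^ i * s.esymm i) (Multiset.card s), esymm_zero_eq_one,
      pow_zero, mul_one]
    have : ∑ x ∈ range (Multiset.card s + 1), (-1 : A) ^ (x + 1) * (a * s.esymm x) =
        -∑ i ∈ range (Multiset.card s + 1), a * ((-1) ^ i * s.esymm i) := by
      rw [← sum_neg_distrib]; exact sum_congr rfl fun x _ => by ring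
    rw [this]
    ring

theorem adams_lamAlt (hK : HasSplitting K P) {e : K} (he : e ∈ P.pos) {j : ℕ} (hj : 1 ≤ j) :
    adams P j (KRR.lamAlt P e) = KRR.lamAlt P e * KRR.bott P j e := by
  obtain ⟨L, f, hL, hf, hs⟩ := exists_split hK [e] (by simp [he])
  obtain ⟨s, hsl, hse⟩ := hs e (by simp)
  have hcard := card_eq_toNat_aug hf hsl hse
  have hline := lineLike_of_forall_isLine hsl
  have hlam : ∀ i, f (LambdaOps.lam i e) = s.esymm i := fun i => by
    rw [hf.isLambdaHom, ← hse, lam_sum_lineLike s hline]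
  apply hf.injective
  rw [adams_eq_adamsOp P hj, map_adamsOp f hf.isLambdaHom, map_mul]
  have hA : f (KRR.lamAlt P e) = (s.map fun u => 1 - u).prod := by
    rw [← sum_neg_one_pow_esymm, KRR.lamAlt, map_sum, hcard]
    exact sum_congr rfl fun i _ => by rw [map_mul, map_pow, map_neg, map_one, hlam]
  have hB : f (KRR.bott P j e) = (s.map fun u => ∑ k ∈ range j, u ^ k).prod := by
    set m := (P.aug e).toNat with hm
    obtain ⟨g, hg⟩ : ∃ g : Fin m → L.carrier, (univ : Finset (Fin m)).val.map g = s := by
      have hlen : m = s.toList.length := by simp [hcard]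
      refine ⟨fun i => s.toList.get (i.cast hlen), ?_⟩
      conv_rhs => rw [← Multiset.coe_toList s]
      rw [Fin.univ_val_map, ← List.ofFn_congr hlen.symm, List.ofFn_get]
    unfold KRR.bott
    rw [← hm]
    have h1 : f (MvPolynomial.aeval (fun i : Fin m => LambdaOps.lam (i.1 + 1) e)
        (KRR.bottPoly j m)) = MvPolynomial.aeval (fun i : Fin m => s.esymm (i.1 + 1))
        (KRR.bottPoly j m) := by
      rw [show (fun i : Fin m => s.esymm (i.1 + 1)) = fun i => f (LambdaOps.lam (i.1 + 1) e) from
        funext fun i => (hlam _).symm]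
      exact MvPolynomial.comp_aeval_apply (R := ℤ) _ f.toIntAlgHom (KRR.bottPoly j m)
    rw [h1]
    have h2 : MvPolynomial.aeval (fun i : Fin m => MvPolynomial.esymm (Fin m) ℤ (i.1 + 1))
        (KRR.bottPoly j m) = KRR.bottSym j m := by
      have := (MvPolynomial.esymmAlgEquiv (Fin m) ℤ (Fintype.card_fin m)).apply_symm_apply
        ⟨KRR.bottSym j m, KRR.bottSym_isSymmetric j m⟩
      have h3 := congrArg Subtype.val this
      rw [← MvPolynomial.esymmAlgHom_apply]
      exact h3
    have h4 := congrArg (MvPolynomial.aeval g) h2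
    have h5 : (fun i : Fin m => MvPolynomial.aeval g (MvPolynomial.esymm (Fin m) ℤ (i.1 + 1))) =
        fun i : Fin m => s.esymm (i.1 + 1) :=
      funext fun i => by rw [MvPolynomial.aeval_esymm_eq_multiset_esymm, hg]
    rw [MvPolynomial.comp_aeval_apply, h5] at h4
    rw [h4, KRR.bottSym, map_prod, ← hg, Multiset.map_map, Finset.prod_map_val]
    simp
  rw [hA, hB]
  have hone : adamsOp j (1 : L.carrier) = 1 := adamsOp_apply_one (lineLike_one_of_pos L.posStr) hj
  have key : ∀ t : Multiset L.carrier, (∀ u ∈ t, L.posStr.IsLine u) →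
      adamsOp j (t.map fun u => 1 - u).prod =
        (t.map fun u => 1 - u).prod * (t.map fun u => ∑ k ∈ range j, u ^ k).prod := by
    intro t ht
    induction t using Multiset.induction_on with
    | empty => simpa using hone
    | cons a t ih =>
      simp only [Multiset.map_cons, Multiset.prod_cons]
      rw [adamsOp_mul_of_split hL hj, ih (fun u hu => ht u (Multiset.mem_cons_of_mem hu)),
        adamsOp_sub, hone,
        (IsLine.lineLike L.posStr (ht a (Multiset.mem_cons_self a t))).adamsOp_eq hj]
      linear_combination (t.map fun u => 1 - u).prod *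
        (t.map fun u => ∑ k ∈ range j, u ^ k).prod * (geom_sum_mul a j)
  exact key s hsl

end Groth.Agent.Lib.Lambda.KRRFacts
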