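import Groth.Prelude.Def_KRR
import Groth.Agent.Lib.Lambda.ARR
import Groth.Agent.Lib.Lambda.PosFil
import Groth.Agent.Lib.Lambda.KRRFacts
import Mathlib.Data.Nat.Choose.Sum

/-!
# The γ-filtration of an elementary extension
-/

set_option autoImplicit false

open Finset LambdaRing Groth.Agent.Lib.Lambda

noncomputable section

namespace Groth.Agent.Lib.Lambda.ExtFil

universe v

/-- `∑ λ_i X^i Y^(m-i) = ∑ g_k X^k (X+Y)^(m-k)` for `g_k = ∑_i (-1)^(k-i) C(m-i, k-i) λ_i`. -/
theorem homogeneous_identity {A : Type*} [CommRing A] (m : ℕ) (c : ℕ → A) (x y : A) :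
    ∑ k ∈ range (m + 1), (∑ i ∈ range (m + 1), if i ≤ k then
        (-1) ^ (k - i) * ((m - i).choose (k - i) : A) * c i else 0) * x ^ k * (x + y) ^ (m - k) =
      ∑ i ∈ range (m + 1), c i * x ^ i * y ^ (m - i) := by
  simp only [sum_mul, ite_mul, zero_mul]
  rw [sum_comm]
  refine sum_congr rfl fun i hi => ?_
  rw [mem_range] at hi
  rw [← sum_filter, show (range (m + 1)).filter (fun k => i ≤ k) = Ico i (m + 1) by ext k; simp; omega,
    sum_Ico_eq_sum_range, show m + 1 - i = m - i + 1 by omega,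
    show y ^ (m - i) = (-x + (x + y)) ^ (m - i) by ring, add_pow, mul_sum]
  refine sum_congr rfl fun j _ => ?_
  rw [Nat.add_sub_cancel_left, show m - (i + j) = m - i - j by omega, pow_add, neg_pow x j]
  ring

variable {K : Type v} [CommRing K] [LambdaOps K] (P : PosStructure K) (e : K)

local notation "L" => AdjoinRoot (KRR.extPoly P e)
local notation "o" => AdjoinRoot.of (KRR.extPoly P e)
local notation "ℓ" => AdjoinRoot.root (KRR.extPoly P e)

/-- `∑_{i ≤ r} F^(k-i) K · (ℓ - 1) ^ i`. -/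
def G (r k : ℕ) : AddSubgroup L :=
  ⨆ i ∈ Finset.range (r + 1), AddSubgroup.map
    ((AddMonoidHom.mulRight ((ℓ - 1) ^ i)).comp (o).toAddMonoidHom) (gammaFiltration P (k - i))

variable {P e} {r : ℕ}

theorem gen_mem_of_le {k i : ℕ} (hi : i ≤ r) {c : K} (hc : c ∈ gammaFiltration P (k - i)) :
    o c * (ℓ - 1) ^ i ∈ G P e r k :=
  AddSubgroup.mem_iSup_of_mem i (AddSubgroup.mem_iSup_of_mem (mem_range.2 (by omega)) ⟨c, hc, rfl⟩)

theorem G_le {C : AddSubgroup L} {k : ℕ}
    (h : ∀ i ≤ r, ∀ c ∈ gammaFiltration P (k - i), o c * (ℓ - 1) ^ i ∈ C) : G P e r k ≤ C := by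
  refine iSup₂_le fun i hi => ?_
  rintro _ ⟨c, hc, rfl⟩
  exact h i (Nat.lt_succ_iff.1 (mem_range.1 hi)) c hc

theorem gamma_sub_natCast_mem (he : e ∈ P.pos) {m : ℕ} (hm : P.aug e = m) (k : ℕ) :
    (∑ i ∈ range (m + 1), if i ≤ k then
      (-1) ^ (k - i) * ((m - i).choose (k - i) : K) * LambdaOps.lam i e else 0) ∈ gammaFiltration P k := by
  rw [← gamma_sub_natCast_of_rank (lineLike_one_of_pos P) e m (fun i hi => P.lam_eq_zero e he i (by omega))]
  exact gamma_mem_gammaFiltration (by simp [hm]) k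

theorem gen_mem (he : e ∈ P.pos) (hr : P.aug e = r + 1) (i : ℕ) {k : ℕ} {c : K}
    (hc : c ∈ gammaFiltration P (k - i)) : o c * (ℓ - 1) ^ i ∈ G P e r k := by
  induction i using Nat.strong_induction_on generalizing k c with
  | _ i ih =>
    rcases le_or_gt i r with hi | hi
    · exact gen_mem_of_le hi hc
    set g : ℕ → K := fun j => ∑ t ∈ range (r + 1 + 1), if t ≤ j then
      (-1) ^ (j - t) * ((r + 1 - t).choose (j - t) : K) * LambdaOps.lam t e else 0 with hg
    have hid : ∑ j ∈ range (r + 1 + 1), o (g j) * (-1) ^ j * (ℓ - 1) ^ (r + 1 - j) = 0 := by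
      have h := homogeneous_identity (r + 1) (fun t => o (LambdaOps.lam t e)) (-1 : L) ℓ
      rw [show (-1 : L) + ℓ = ℓ - 1 by ring] at h
      have h0 := Functional.root_relation P e (m := r + 1) (by omega)
      have hrhs : ∑ t ∈ range (r + 1 + 1), o (LambdaOps.lam t e) * (-1) ^ t * ℓ ^ (r + 1 - t) = 0 := by
        rw [← h0]
        refine sum_congr rfl fun t _ => ?_
        rw [Algebra.smul_def, AdjoinRoot.algebraMap_eq, map_mul, map_pow, map_neg, map_one]
        ring
      rw [← hrhs, ← h]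
      refine sum_congr rfl fun j _ => ?_
      congr 2
      simp only [hg, map_sum]
      refine sum_congr rfl fun t _ => ?_
      split_ifs <;> simp
    have hg0 : g 0 = 1 := by
      simp only [hg]
      rw [sum_eq_single 0 (fun t _ ht => by rw [if_neg (by omega)]) (by simp)]
      simp [LambdaOps.lam_zero]
    rw [sum_range_succ', hg0, map_one, pow_zero, one_mul, one_mul, Nat.sub_zero] at hid
    have hpow : (ℓ - 1) ^ i = -∑ j ∈ range (r + 1), o (g (j + 1)) * (-1) ^ (j + 1) * (ℓ - 1) ^ (i - (j + 1)) := by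
      rw [show (ℓ - 1) ^ i = (ℓ - 1) ^ (i - (r + 1)) * (ℓ - 1) ^ (r + 1) by
        rw [← pow_add]; congr 1; omega, eq_neg_of_add_eq_zero_right hid, mul_neg, mul_sum]
      congr 1
      refine sum_congr rfl fun j hj => ?_
      rw [mem_range] at hj
      rw [show i - (j + 1) = (i - (r + 1)) + (r + 1 - (j + 1)) by omega, pow_add]
      ring
    rw [hpow, mul_neg, mul_sum]
    refine neg_mem (sum_mem fun j hj => ?_)
    rw [show o c * (o (g (j + 1)) * (-1) ^ (j + 1) * (ℓ - 1) ^ (i - (j + 1))) =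
      o (c * g (j + 1) * (-1) ^ (j + 1)) * (ℓ - 1) ^ (i - (j + 1)) by
        simp only [map_mul, map_pow, map_neg, map_one]; ring]
    refine ih _ (by omega) ?_
    have hmem := mul_mem_gammaFiltration hc (gamma_sub_natCast_mem he (m := r + 1) (by exact_mod_cast hr) (j + 1))
    refine gammaFiltration_anti ?_ (mul_comm ((-1 : K) ^ (j + 1)) (c * g (j + 1)) ▸
      mul_mem_gammaFiltration_left ((-1 : K) ^ (j + 1)) hmem)
    simp at hj
    omega

theorem G_anti {a b : ℕ} (h : a ≤ b) : G P e r b ≤ G P e r a :=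
  G_le fun _ hi c hc => gen_mem_of_le hi (gammaFiltration_anti (by omega) hc)

theorem G_mul (he : e ∈ P.pos) (hr : P.aug e = r + 1) {a b : ℕ} {x y : L} (hx : x ∈ G P e r a)
    (hy : y ∈ G P e r b) : x * y ∈ G P e r (a + b) := by
  suffices G P e r a ≤ (G P e r (a + b)).comap (AddMonoidHom.mulRight y) from this hx
  refine G_le fun i _ c hc => ?_
  show o c * (ℓ - 1) ^ i * y ∈ G P e r (a + b)
  suffices G P e r b ≤ (G P e r (a + b)).comap (AddMonoidHom.mulLeft (o c * (ℓ - 1) ^ i)) from this hy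
  refine G_le fun j _ d hd => ?_
  show o c * (ℓ - 1) ^ i * (o d * (ℓ - 1) ^ j) ∈ G P e r (a + b)
  rw [show o c * (ℓ - 1) ^ i * (o d * (ℓ - 1) ^ j) = o (c * d) * (ℓ - 1) ^ (i + j) by
    rw [map_mul, pow_add]; ring]
  exact gen_mem he hr _ (gammaFiltration_anti (by omega) (mul_mem_gammaFiltration hc hd))

theorem of_mem {k : ℕ} {c : K} (hc : c ∈ gammaFiltration P k) : o c ∈ G P e r k := by
  simpa using gen_mem_of_le (e := e) (r := r) (k := k) (i := 0) (Nat.zero_le r) (c := c) (by simpa using hc)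

theorem of_mem_zero (c : K) : o c ∈ G P e r 0 := of_mem (mem_gammaFiltration_zero c)

theorem one_mem_zero : (1 : L) ∈ G P e r 0 := map_one (o) ▸ of_mem_zero 1

theorem sub_one_mem_one (he : e ∈ P.pos) (hr : P.aug e = r + 1) : ℓ - 1 ∈ G P e r 1 := by
  simpa using gen_mem (k := 1) he hr 1 (c := 1) (mem_gammaFiltration_zero _)

theorem G_pow (he : e ∈ P.pos) (hr : P.aug e = r + 1) {a : ℕ} {x : L} (hx : x ∈ G P e r a) (n : ℕ) :
    x ^ n ∈ G P e r (a * n) := by
  induction n with
  | zero => simpa using one_mem_zero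
  | succ n ih => rw [pow_succ, Nat.mul_succ]; exact G_mul he hr ih hx

theorem root_mem_zero (he : e ∈ P.pos) (hr : P.aug e = r + 1) : ℓ ∈ G P e r 0 := by
  have h := add_mem (G_anti (Nat.zero_le 1) (sub_one_mem_one he hr)) (one_mem_zero (P := P) (e := e) (r := r))
  rwa [sub_add_cancel] at h

theorem mem_zero (he : e ∈ P.pos) (hr : P.aug e = r + 1) (x : L) : x ∈ G P e r 0 := by
  obtain ⟨h, rfl⟩ := AdjoinRoot.mk_surjective x
  induction h using Polynomial.induction_on' with
  | add a b ha hb => rw [map_add]; exact add_mem ha hb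
  | monomial i c =>
    rw [← Polynomial.C_mul_X_pow_eq_monomial, map_mul, map_pow, AdjoinRoot.mk_X, AdjoinRoot.mk_C]
    simpa using G_mul he hr (of_mem_zero c) (G_pow he hr (root_mem_zero he hr) i)

variable [LambdaOps (AdjoinRoot (KRR.extPoly P e))] {Pe : PosStructure (AdjoinRoot (KRR.extPoly P e))}

variable (P e r) in
/-- The elements all of whose γ-operations lie in the candidate filtration. -/
def Good (x : L) : Prop := ∀ m, gamma m x ∈ G P e r m

theorem good_zero : Good P e r (0 : L) := by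
  intro m
  rcases eq_or_ne m 0 with rfl | hm
  · rw [gamma_zero_left]; exact one_mem_zero
  · rw [gamma_zero_right hm]; exact zero_mem _

theorem good_add (he : e ∈ P.pos) (hr : P.aug e = r + 1) {x y : L} (hx : Good P e r x)
    (hy : Good P e r y) : Good P e r (x + y) := by
  intro m
  rw [gamma_add]
  refine sum_mem fun i hi => ?_
  simp at hi
  have := G_mul he hr (hx i) (hy (m - i))
  rwa [show i + (m - i) = m by omega] at this

theorem good_neg (he : e ∈ P.pos) (hr : P.aug e = r + 1) {x : L} (hx : Good P e r x) :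
    Good P e r (-x) := by
  intro m
  induction m using Nat.strong_induction_on with
  | _ m ih =>
    rcases m with _ | m
    · rw [gamma_zero_left]; exact one_mem_zero
    · rw [gamma_neg]
      refine neg_mem (sum_mem fun i hi => ?_)
      simp at hi
      have := G_mul he hr (hx (i + 1)) (ih (m - i) (by omega))
      rwa [show i + 1 + (m - i) = m + 1 by omega] at this

theorem good_sub (he : e ∈ P.pos) (hr : P.aug e = r + 1) {x y : L} (hx : Good P e r x)
    (hy : Good P e r y) : Good P e r (x - y) := sub_eq_add_neg x y ▸ good_add he hr hx (good_neg he hr hy)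

theorem good_pos_mul_line (he : e ∈ P.pos) (hr : P.aug e = r + 1)
    (hext : IsExtension P Pe (AdjoinRoot.of (KRR.extPoly P e))) (hsplit : HasSplitting L Pe)
    {f : K} (hf : f ∈ P.pos) {m : ℕ} (hm : P.aug f = m) {u : L} (hu : Pe.IsLine u)
    (h1 : u - 1 ∈ G P e r 1) : Good P e r (o f * u - (m : L)) := by
  intro n
  have hlam : ∀ i, LambdaOps.lam i (o f * u) = o (LambdaOps.lam i f) * u ^ i := by
    intro i
    rw [mul_comm (o f), ARR.lam_line_mul hsplit hu, ← hext.isLambdaHom, mul_comm]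
  rw [← coeff_gammaSeries, gammaSeries_sub_natCast_of_rank (lineLike_one_of_pos Pe) _ m (fun i hi => by
    rw [hlam, P.lam_eq_zero f hf i (by omega), map_zero, zero_mul])]
  have hid := homogeneous_identity m (fun i => (PowerSeries.C (o (LambdaOps.lam i f)) : PowerSeries L))
    (PowerSeries.C u * PowerSeries.X) (1 - PowerSeries.X)
  have hxy : PowerSeries.C u * PowerSeries.X + (1 - PowerSeries.X) =
      (1 + PowerSeries.C (u - 1) * PowerSeries.X : PowerSeries L) := by
    rw [map_sub, map_one]; ring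
  rw [hxy] at hid
  rw [show (∑ i ∈ range (m + 1), PowerSeries.C (LambdaOps.lam i (o f * u)) * PowerSeries.X ^ i *
      (1 - PowerSeries.X) ^ (m - i)) = ∑ i ∈ range (m + 1), PowerSeries.C (o (LambdaOps.lam i f)) *
      (PowerSeries.C u * PowerSeries.X) ^ i * (1 - PowerSeries.X) ^ (m - i) from
    sum_congr rfl fun i _ => by rw [hlam, map_mul, mul_pow, map_pow]; ring, ← hid, map_sum]
  refine sum_mem fun k _ => ?_
  set g := ∑ i ∈ range (m + 1), if i ≤ k then
    (-1 : K) ^ (k - i) * ((m - i).choose (k - i) : K) * LambdaOps.lam i f else 0 with hg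
  have hgk : g ∈ gammaFiltration P k := by
    rw [hg, ← gamma_sub_natCast_of_rank (lineLike_one_of_pos P) f m (fun i hi => P.lam_eq_zero f hf i (by omega))]
    exact gamma_mem_gammaFiltration (by simp [hm]) k
  rw [show (∑ i ∈ range (m + 1), if i ≤ k then (-1 : PowerSeries L) ^ (k - i) *
      ((m - i).choose (k - i) : PowerSeries L) * PowerSeries.C (o (LambdaOps.lam i f)) else 0) =
      PowerSeries.C (o g) by
    rw [hg, map_sum, map_sum]
    refine sum_congr rfl fun i _ => ?_
    split_ifs <;> simp]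
  rw [mul_pow, ← map_pow, ← mul_assoc, mul_assoc (PowerSeries.C (o g) * _), ← map_mul,
    PowerSeries.coeff_C_mul, PowerSeries.coeff_X_pow_mul']
  split_ifs with hk
  · rw [show (1 + PowerSeries.C (u - 1) * PowerSeries.X : PowerSeries L) =
        PowerSeries.rescale (u - 1) (1 + PowerSeries.X) by
      rw [map_add, map_one, PowerSeries.rescale_X], ← map_pow, PowerSeries.coeff_rescale,
      coeff_one_add_X_pow_ps]
    have := G_mul he hr (G_mul he hr (of_mem (e := e) (r := r) hgk) (mem_zero he hr (u ^ k)))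
      (G_mul he hr (G_pow he hr h1 (n - k)) (mem_zero he hr (((m - k).choose (n - k) : L))))
    rwa [show k + 0 + (1 * (n - k) + 0) = n by omega] at this
  · rw [mul_zero]; exact zero_mem _

theorem good_of_aug_zero (he : e ∈ P.pos) (hr : P.aug e = r + 1)
    (hext : IsExtension P Pe (AdjoinRoot.of (KRR.extPoly P e))) (hline : Pe.IsLine ℓ)
    (hsplit : HasSplitting L Pe) (x : L) (hx : Pe.aug x = 0) : Good P e r x := by
  have hpow : ∀ i : ℕ, ℓ ^ i - 1 ∈ G P e r 1 := by
    intro i
    induction i with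
    | zero => simp
    | succ i ih =>
      rw [show ℓ ^ (i + 1) - 1 = (ℓ ^ i - 1) + ℓ ^ i * (ℓ - 1) by ring]
      refine add_mem ih ?_
      simpa using G_mul he hr (mem_zero he hr (ℓ ^ i)) (sub_one_mem_one he hr)
  suffices ∀ h : Polynomial K, Good P e r (AdjoinRoot.mk _ h - ((Pe.aug (AdjoinRoot.mk _ h) : ℤ) : L)) by
    obtain ⟨h, rfl⟩ := AdjoinRoot.mk_surjective x
    simpa [hx] using this h
  intro h
  induction h using Polynomial.induction_on' with
  | add a b ha hb =>
    rw [map_add, map_add, Int.cast_add, add_sub_add_comm]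
    exact good_add he hr ha hb
  | monomial i c =>
    rw [← Polynomial.C_mul_X_pow_eq_monomial, map_mul, map_pow, AdjoinRoot.mk_X, AdjoinRoot.mk_C,
      map_mul, map_pow, hext.aug_comp, hline.2, one_pow, mul_one]
    obtain ⟨f₁, f₂, h₁, h₂, rfl⟩ := P.exists_sub c
    have hu := IsLine.pow hline i
    obtain ⟨m₁, hm₁⟩ : ∃ m : ℕ, P.aug f₁ = m := ⟨_, (toNat_aug_cast P h₁).symm⟩
    obtain ⟨m₂, hm₂⟩ : ∃ m : ℕ, P.aug f₂ = m := ⟨_, (toNat_aug_cast P h₂).symm⟩
    rw [show o (f₁ - f₂) * ℓ ^ i - ((P.aug (f₁ - f₂) : ℤ) : L) =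
        (o f₁ * ℓ ^ i - (m₁ : L)) - (o f₂ * ℓ ^ i - (m₂ : L)) by
      rw [map_sub, map_sub, hm₁, hm₂]; push_cast; ring]
    exact good_sub he hr (good_pos_mul_line he hr hext hsplit h₁ hm₁ hu (hpow i))
      (good_pos_mul_line he hr hext hsplit h₂ hm₂ hu (hpow i))

theorem gammaFiltration_eq (he : e ∈ P.pos) (hr : P.aug e = r + 1)
    (hext : IsExtension P Pe (AdjoinRoot.of (KRR.extPoly P e))) (hline : Pe.IsLine ℓ)
    (hsplit : HasSplitting L Pe) (k : ℕ) : gammaFiltration Pe k = G P e r k := by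
  refine le_antisymm ?_ (G_le fun i _ c hc => ?_)
  · rcases eq_or_ne k 0 with rfl | hk
    · exact fun x _ => mem_zero he hr x
    refine gammaFiltration_le hk fun l hl hs => G_anti hs ?_
    clear hs
    induction l with
    | nil => simpa using one_mem_zero
    | cons q l ih =>
      simp only [List.map_cons, List.prod_cons, List.sum_cons]
      exact G_mul he hr (good_of_aug_zero he hr hext hline hsplit q.2 (hl q (by simp)) q.1)
        (ih fun p hp => hl p (by simp [hp]))
  · have h1 : ℓ - 1 ∈ gammaFiltration Pe 1 :=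
      mem_gammaFiltration_one (by rw [map_sub, hline.2, map_one, sub_self])
    exact gammaFiltration_anti (by omega)
      (mul_mem_gammaFiltration (map_gammaFiltration_le _ hext.isLambdaHom hext.aug_comp hc)
        (pow_mem_gammaFiltration h1 i))

end Groth.Agent.Lib.Lambda.ExtFil
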