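import Groth.Agent.Lib.Lambda.Special
import Mathlib.Algebra.MvPolynomial.Expand

/-!
# The λ-ring of integral combinations of monomials in line elements
-/

set_option autoImplicit false

open Finset LambdaRing
open MvPolynomial hiding X

noncomputable section

namespace Groth.Agent.Lib.Lambda

universe u v w

section AddLocus

variable {A : Type u} [CommRing A] [LambdaOps A] {B : Type v} [CommRing B] [LambdaOps B]

/-- The additive group on which a ring map commutes with all λ^n. -/
def lamEqAddLocus (φ : A →+* B) : AddSubgroup A where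
  carrier := {z | ∀ n, φ (LambdaOps.lam n z) = LambdaOps.lam n (φ z)}
  zero_mem' n := by
    rcases eq_or_ne n 0 with rfl | hn
    · simp [LambdaOps.lam_zero]
    · simp [lam_zero_right hn]
  add_mem' := by
    intro a b ha hb n
    rw [map_add, LambdaOps.lam_add, LambdaOps.lam_add, map_sum]
    exact sum_congr rfl fun i _ => by rw [map_mul, ha, hb]
  neg_mem' := by
    intro a ha n
    induction n using Nat.strong_induction_on with
    | _ n ih =>
      match n with
      | 0 => simp [LambdaOps.lam_zero]
      | n + 1 =>
        rw [map_neg φ a, lam_neg, lam_neg, map_neg, map_sum]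
        refine congrArg Neg.neg (sum_congr rfl fun i hi => ?_)
        rw [map_mul, ha, ih (n - i) (by omega), map_neg φ a]

theorem lineLike_mem_lamEqAddLocus (φ : A →+* B) {z : A} (hz : LineLike z)
    (hz' : LineLike (φ z)) : z ∈ lamEqAddLocus φ := by
  intro n
  match n with
  | 0 => simp [LambdaOps.lam_zero]
  | 1 => simp [LambdaOps.lam_one]
  | n + 2 => rw [hz (n + 2) (by omega), map_zero, hz' (n + 2) (by omega)]

/-- The additive group of elements all of whose λ^n lie in a subring. -/
def lamStableAdd (S : Subring A) : AddSubgroup A where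
  carrier := {z | ∀ n, LambdaOps.lam n z ∈ S}
  zero_mem' n := by
    rcases eq_or_ne n 0 with rfl | hn
    · rw [LambdaOps.lam_zero]; exact one_mem S
    · rw [lam_zero_right hn]; exact zero_mem S
  add_mem' := by
    intro a b ha hb n
    rw [LambdaOps.lam_add]
    exact sum_mem fun i _ => mul_mem (ha i) (hb (n - i))
  neg_mem' := by
    intro a ha n
    induction n using Nat.strong_induction_on with
    | _ n ih =>
      match n with
      | 0 => rw [LambdaOps.lam_zero]; exact one_mem S
      | n + 1 =>
        rw [lam_neg]
        exact neg_mem (sum_mem fun i hi => mul_mem (ha (i + 1)) (ih (n - i) (by omega)))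

end AddLocus

variable {ι : Type w}

/-- The λ-operations on ℚ[ι] in which every monomial is a line element. -/
@[reducible] def lineRatOps (ι : Type w) : LambdaOps (MvPolynomial ι ℚ) :=
  lambdaOpsOfAdams (fun k => (expand k : MvPolynomial ι ℚ →ₐ[ℚ] MvPolynomial ι ℚ).toRingHom.toAddMonoidHom)
    (AddMonoidHom.ext fun F => expand_one_apply F)

attribute [local instance] lineRatOps

theorem adamsOp_lineRat {k : ℕ} (hk : 1 ≤ k) (F : MvPolynomial ι ℚ) :
    adamsOp k F = expand k F :=
  adamsOp_lambdaOpsOfAdams _ _ k hk F

theorem isSpecial_lineRat (ι : Type w) : IsSpecial (MvPolynomial ι ℚ) := by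
  refine isSpecial_of_adamsOp_of_injective (RingHom.id _) Function.injective_id ?_ ?_ ?_
  · intro k hk; rw [adamsOp_lineRat hk, map_one]
  · intro k hk x y; simp only [adamsOp_lineRat hk, map_mul]
  · intro k k' hk hk' x
    rw [adamsOp_lineRat hk, adamsOp_lineRat hk', adamsOp_lineRat (Nat.mul_pos hk hk'),
      ← expand_mul]

theorem lineLike_monomial_rat (s : ι →₀ ℕ) : LineLike (monomial s (1 : ℚ)) := by
  intro n hn
  have h := (newtonRel_lam (monomial s (1 : ℚ))).eq_e (natRegular_of_algebraRat _)
    (newtonRel_single (monomial s (1 : ℚ))) (N := n) (fun i hi _ => by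
      rw [adamsOp_lineRat hi, expand_monomial, monomial_pow, one_pow]) n le_rfl
  exact h.trans (esymm_eq_zero_of_card_lt _ (by simp; omega))

/-- The inclusion of integral polynomials. -/
def lineIncl (ι : Type w) : MvPolynomial ι ℤ →+* MvPolynomial ι ℚ :=
  MvPolynomial.map (Int.castRingHom ℚ)

theorem lineIncl_injective : Function.Injective (lineIncl ι) :=
  MvPolynomial.map_injective _ Int.cast_injective

theorem exists_lineIncl_eq_lam (n : ℕ) (z : MvPolynomial ι ℤ) :
    ∃ y, lineIncl ι y = LambdaOps.lam n (lineIncl ι z) := by
  suffices lineIncl ι z ∈ lamStableAdd (lineIncl ι).range from this n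
  induction z using MvPolynomial.induction_on' with
  | monomial s c =>
    rw [show monomial s c = c • monomial s (1 : ℤ) by rw [smul_monomial, smul_eq_mul, mul_one],
      map_zsmul]
    refine zsmul_mem ?_ c
    intro n
    rw [lineIncl, map_monomial, map_one]
    match n with
    | 0 => rw [LambdaOps.lam_zero]; exact one_mem _
    | 1 => rw [LambdaOps.lam_one]; exact ⟨monomial s 1, by simp [lineIncl]⟩
    | n + 2 => rw [lineLike_monomial_rat s (n + 2) (by omega)]; exact zero_mem _
  | add p q hp hq => rw [map_add]; exact add_mem hp hq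

/-- The λ-operations on ℤ[ι] in which every monomial is a line element. -/
@[reducible] def lineOps (ι : Type w) : LambdaOps (MvPolynomial ι ℤ) where
  lam n z := (exists_lineIncl_eq_lam n z).choose
  lam_zero z := lineIncl_injective (by
    rw [(exists_lineIncl_eq_lam 0 z).choose_spec, LambdaOps.lam_zero, map_one])
  lam_one z := lineIncl_injective (by
    rw [(exists_lineIncl_eq_lam 1 z).choose_spec, LambdaOps.lam_one])
  lam_add k x y := lineIncl_injective (by
    rw [(exists_lineIncl_eq_lam k (x + y)).choose_spec, map_add (lineIncl ι), LambdaOps.lam_add,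
      map_sum]
    exact sum_congr rfl fun i _ => by
      rw [map_mul, (exists_lineIncl_eq_lam i x).choose_spec,
        (exists_lineIncl_eq_lam (k - i) y).choose_spec])

attribute [local instance] lineOps

theorem lineIncl_lam (n : ℕ) (z : MvPolynomial ι ℤ) :
    lineIncl ι (LambdaOps.lam n z) = LambdaOps.lam n (lineIncl ι z) :=
  (exists_lineIncl_eq_lam n z).choose_spec

theorem isSpecial_line (ι : Type w) : IsSpecial (MvPolynomial ι ℤ) :=
  isSpecial_of_injective (lineIncl ι) lineIncl_injective lineIncl_lam (isSpecial_lineRat ι)

theorem lineLike_monomial (s : ι →₀ ℕ) : LineLike (monomial s (1 : ℤ)) := by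
  intro n hn
  apply lineIncl_injective
  rw [lineIncl_lam, map_zero, lineIncl, map_monomial, map_one]
  exact lineLike_monomial_rat s n hn

variable {B : Type v} [CommRing B] [LambdaOps B]

theorem lineEval_lam (v : ι → B)
    (hv : ∀ s : ι →₀ ℕ, LineLike (aeval v (monomial s (1 : ℤ)))) (n : ℕ) (z : MvPolynomial ι ℤ) :
    aeval v (LambdaOps.lam n z) = LambdaOps.lam n (aeval v z) := by
  suffices z ∈ lamEqAddLocus (aeval v : MvPolynomial ι ℤ →ₐ[ℤ] B).toRingHom from this n
  induction z using MvPolynomial.induction_on' with
  | monomial s c =>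
    rw [show monomial s c = c • monomial s (1 : ℤ) by rw [smul_monomial, smul_eq_mul, mul_one]]
    exact zsmul_mem (lineLike_mem_lamEqAddLocus _ (lineLike_monomial s) (hv s)) c
  | add p q hp hq => exact add_mem hp hq

end Groth.Agent.Lib.Lambda
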