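import Groth.Prelude.Def_LambdaSp
import Groth.Agent.Lib.Lambda.Series
import Mathlib.RingTheory.PowerSeries.Derivative

/-!
# Adams operations of pre-λ-rings
-/

set_option autoImplicit false

open PowerSeries Finset LambdaRing

noncomputable section

namespace Groth.Agent.Lib.Lambda

universe u v

variable {K : Type u} [CommRing K] [LambdaOps K]

theorem logDerivSeries_mul (x : K) :
    logDerivSeries x * lamSeries x = derivative K (lamSeries x) := by
  rw [logDerivSeries, mul_assoc, invOfUnit_mul _ _ (by simpa using constantCoeff_lamSeries x),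
    mul_one]

theorem eq_logDerivSeries_of_mul_eq {x : K} {G : K⟦X⟧}
    (h : G * lamSeries x = derivative K (lamSeries x)) : G = logDerivSeries x :=
  (isUnit_lamSeries x).mul_right_cancel (h.trans (logDerivSeries_mul x).symm)

theorem logDerivSeries_add (x y : K) :
    logDerivSeries (x + y) = logDerivSeries x + logDerivSeries y := by
  refine (eq_logDerivSeries_of_mul_eq ?_).symm
  rw [lamSeries_add, Derivation.leibniz, smul_eq_mul, smul_eq_mul]
  linear_combination lamSeries y * logDerivSeries_mul x + lamSeries x * logDerivSeries_mul y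

theorem adamsOp_succ (k : ℕ) (x : K) :
    adamsOp (k + 1) x = (-1) ^ k * coeff k (logDerivSeries x) := rfl

theorem coeff_logDerivSeries (k : ℕ) (x : K) :
    coeff k (logDerivSeries x) = (-1) ^ k * adamsOp (k + 1) x := by
  rw [adamsOp_succ, ← mul_assoc, ← pow_add, Even.neg_one_pow ⟨k, rfl⟩, one_mul]

theorem adamsOp_zero_left (x : K) : adamsOp 0 x = 0 := rfl

theorem adamsOp_add (k : ℕ) (x y : K) : adamsOp k (x + y) = adamsOp k x + adamsOp k y := by
  cases k with
  | zero => simp [adamsOp_zero_left]
  | succ k => rw [adamsOp_succ, logDerivSeries_add, map_add, mul_add]; rfl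

/-- The Adams operation as an additive map. -/
def adamsAddHom (k : ℕ) : K →+ K := AddMonoidHom.mk' (adamsOp k) (adamsOp_add k)

theorem adamsOp_zero_right (k : ℕ) : adamsOp k (0 : K) = 0 := (adamsAddHom k).map_zero

theorem adamsOp_neg (k : ℕ) (x : K) : adamsOp k (-x) = -adamsOp k x := (adamsAddHom k).map_neg x

theorem adamsOp_sub (k : ℕ) (x y : K) : adamsOp k (x - y) = adamsOp k x - adamsOp k y :=
  (adamsAddHom k).map_sub x y

theorem adamsOp_multiset_sum (k : ℕ) (s : Multiset K) :
    adamsOp k s.sum = (s.map (adamsOp k)).sum :=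
  (adamsAddHom k).map_multiset_sum s

/-- The Newton recursion. -/
theorem succ_mul_lam (k : ℕ) (x : K) :
    ((k : K) + 1) * LambdaOps.lam (k + 1) x =
      ∑ i ∈ range (k + 1), (-1) ^ i * adamsOp (i + 1) x * LambdaOps.lam (k - i) x := by
  have h := congrArg (coeff k) (logDerivSeries_mul x)
  rw [coeff_derivative, coeff_lamSeries, coeff_mul,
    Finset.Nat.sum_antidiagonal_eq_sum_range_succ_mk] at h
  rw [mul_comm, ← h]
  simp [coeff_lamSeries, coeff_logDerivSeries]

theorem adamsOp_one_left (x : K) : adamsOp 1 x = x := by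
  have := succ_mul_lam 0 x
  simpa [LambdaOps.lam_one, LambdaOps.lam_zero] using this.symm

theorem LineLike.adamsOp_succ_eq {u : K} (hu : LineLike u) (k : ℕ) :
    adamsOp (k + 1) u = u ^ (k + 1) := by
  have h : (PowerSeries.mk fun i => (-1) ^ i * u ^ (i + 1) : K⟦X⟧) = logDerivSeries u := by
    apply eq_logDerivSeries_of_mul_eq
    rw [hu.lamSeries_eq, map_add, Derivation.map_one_eq_zero, zero_add, Derivation.leibniz,
      derivative_C, derivative_X, smul_zero, add_zero, smul_eq_mul, mul_one, mul_add, mul_one]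
    ext n
    match n with
    | 0 => simp
    | n + 1 =>
      rw [← mul_assoc, map_add, coeff_succ_mul_X, coeff_mul_C, coeff_mk, coeff_mk, coeff_C,
        if_neg (Nat.succ_ne_zero n), pow_succ (-1 : K) n, pow_succ u (n + 1)]
      ring
  rw [adamsOp_succ, ← h, coeff_mk, ← mul_assoc, ← pow_add, Even.neg_one_pow ⟨k, rfl⟩, one_mul]

theorem LineLike.adamsOp_eq {u : K} (hu : LineLike u) {k : ℕ} (hk : 1 ≤ k) :
    adamsOp k u = u ^ k := by
  obtain ⟨j, rfl⟩ : ∃ j, k = j + 1 := ⟨k - 1, by omega⟩
  exact hu.adamsOp_succ_eq j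

theorem adamsOp_sum_lineLike (s : Multiset K) (hs : ∀ u ∈ s, LineLike u) {k : ℕ} (hk : 1 ≤ k) :
    adamsOp k s.sum = (s.map (· ^ k)).sum := by
  rw [adamsOp_multiset_sum]
  exact congrArg _ (Multiset.map_congr rfl fun u hu => (hs u hu).adamsOp_eq hk)

theorem adamsOp_apply_one (h1 : LineLike (1 : K)) {k : ℕ} (hk : 1 ≤ k) :
    adamsOp k (1 : K) = 1 := by
  rw [h1.adamsOp_eq hk, one_pow]

theorem adamsOp_natCast (h1 : LineLike (1 : K)) {k : ℕ} (hk : 1 ≤ k) (n : ℕ) :
    adamsOp k (n : K) = n := by
  induction n with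
  | zero => simp [adamsOp_zero_right]
  | succ n ih => rw [Nat.cast_succ, adamsOp_add, ih, adamsOp_apply_one h1 hk]

theorem adamsOp_intCast (h1 : LineLike (1 : K)) {k : ℕ} (hk : 1 ≤ k) (n : ℤ) :
    adamsOp k (n : K) = n := by
  rcases Int.eq_nat_or_neg n with ⟨m, rfl | rfl⟩
  · simpa using adamsOp_natCast h1 hk m
  · simp [adamsOp_neg, adamsOp_natCast h1 hk m]

section Natural

variable {L : Type v} [CommRing L] [LambdaOps L]

theorem map_lamSeries (f : K →+* L) (hf : ∀ i x, f (LambdaOps.lam i x) = LambdaOps.lam i (f x))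
    (x : K) : PowerSeries.map f (lamSeries x) = lamSeries (f x) := by
  ext n
  rw [PowerSeries.coeff_map, coeff_lamSeries, coeff_lamSeries, hf]

theorem map_derivative {A : Type*} {B : Type*} [CommRing A] [CommRing B] (f : A →+* B)
    (F : A⟦X⟧) :
    PowerSeries.map f (derivative A F) = derivative B (PowerSeries.map f F) := by
  ext n
  simp [coeff_derivative]

theorem map_adamsOp (f : K →+* L) (hf : ∀ i x, f (LambdaOps.lam i x) = LambdaOps.lam i (f x))
    (k : ℕ) (x : K) : f (adamsOp k x) = adamsOp k (f x) := by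
  cases k with
  | zero => simp [adamsOp_zero_left]
  | succ k =>
    have : PowerSeries.map f (logDerivSeries x) = logDerivSeries (f x) := by
      apply eq_logDerivSeries_of_mul_eq
      rw [← map_lamSeries f hf, ← map_mul, logDerivSeries_mul, map_derivative]
    rw [adamsOp_succ, adamsOp_succ, ← this, PowerSeries.coeff_map, map_mul, map_pow, map_neg,
      map_one]

theorem map_gamma (f : K →+* L) (hf : ∀ i x, f (LambdaOps.lam i x) = LambdaOps.lam i (f x))
    (k : ℕ) (x : K) : f (gamma k x) = gamma k (f x) := by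
  unfold gamma
  split_ifs with h
  · exact map_one f
  · rw [map_sum]
    refine sum_congr rfl fun j _ => ?_
    rw [map_mul, map_natCast]
    split_ifs with hj
    · rw [map_zero]
    · rw [hf]

/-- A ring map commuting with the Adams operations commutes with the λ-operations when the
target has no additive torsion. -/
theorem map_lam_of_map_adamsOp (f : K →+* L)
    (hinj : ∀ n : ℕ, n ≠ 0 → Function.Injective fun z : L => (n : L) * z)
    (hψ : ∀ k, 1 ≤ k → ∀ x, f (adamsOp k x) = adamsOp k (f x)) (n : ℕ) (x : K) :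
    f (LambdaOps.lam n x) = LambdaOps.lam n (f x) := by
  induction n using Nat.strong_induction_on with
  | _ n ih =>
    match n with
    | 0 => simp [LambdaOps.lam_zero]
    | n + 1 =>
      apply hinj (n + 1) (Nat.succ_ne_zero n)
      have h1 := congrArg f (succ_mul_lam n x)
      rw [map_mul, map_add, map_natCast, map_one, map_sum] at h1
      show ((n + 1 : ℕ) : L) * _ = ((n + 1 : ℕ) : L) * _
      rw [Nat.cast_succ, h1, succ_mul_lam]
      refine sum_congr rfl fun i hi => ?_
      rw [map_mul, map_mul, map_pow, map_neg, map_one, hψ _ (by omega), ih _ (by omega)]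

end Natural

/-! ### Comparison with the Adams operations of a positive structure -/

theorem rescale_derivative {R : Type*} [CommRing R] (a : R) (F : R⟦X⟧) :
    derivative R (rescale a F) = C a * rescale a (derivative R F) := by
  ext n
  rw [coeff_derivative, coeff_rescale, coeff_C_mul, coeff_rescale, coeff_derivative, pow_succ]
  ring

theorem adams_eq_adamsOp (P : PosStructure K) {k : ℕ} (hk : 1 ≤ k) (x : K) :
    adams P k x = adamsOp k x := by
  obtain ⟨j, rfl⟩ : ∃ j, k = j + 1 := ⟨k - 1, by omega⟩
  set F := rescale (-1 : K) (lamSeries x) with hF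
  have hc : constantCoeff F = 1 := by
    rw [hF, ← coeff_zero_eq_constantCoeff_apply, coeff_rescale, coeff_lamSeries,
      LambdaOps.lam_zero]
    simp
  have hG : derivative K F * invOfUnit F 1 = -rescale (-1 : K) (logDerivSeries x) := by
    have h2 := congrArg (rescale (-1 : K)) (logDerivSeries_mul x)
    rw [map_mul, ← hF] at h2
    have h3 : derivative K F = -(rescale (-1 : K) (logDerivSeries x) * F) := by
      rw [hF, rescale_derivative, map_neg, map_one, neg_one_mul, ← h2, hF]
    rw [h3, neg_mul, mul_assoc, mul_invOfUnit _ _ (by simpa using hc), mul_one]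
  unfold adams adamsSeries
  rw [map_sub, coeff_C, if_neg (Nat.succ_ne_zero j), zero_sub, mul_assoc, coeff_succ_X_mul]
  rw [← hF, hG, map_neg, neg_neg, coeff_rescale, coeff_logDerivSeries, ← mul_assoc, ← pow_add,
    Even.neg_one_pow ⟨j, rfl⟩, one_mul]

theorem adams_zero (P : PosStructure K) (x : K) : adams P 0 x = (P.aug x : K) := by
  unfold adams adamsSeries
  rw [map_sub, mul_assoc, coeff_zero_X_mul, sub_zero, coeff_zero_C]

theorem adams_add (P : PosStructure K) (k : ℕ) (x y : K) :
    adams P k (x + y) = adams P k x + adams P k y := by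
  rcases Nat.eq_zero_or_pos k with rfl | hk
  · simp [adams_zero]
  · simp [adams_eq_adamsOp P hk, adamsOp_add]

/-- `adams` as an additive map. -/
def adamsPosAddHom (P : PosStructure K) (k : ℕ) : K →+ K :=
  AddMonoidHom.mk' (adams P k) (adams_add P k)

end Groth.Agent.Lib.Lambda
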