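import Groth.Agent.Lib.Lambda.Series
import Groth.Prelude.Def_LambdaSp

/-!
# The γ-filtration of an augmented algebra and its span by generators
-/

set_option autoImplicit false

open Finset LambdaRing

noncomputable section

namespace Groth.Agent.Lib.Lambda

universe u v

variable {A : Type v} [CommRing A] [LambdaOps A] {K : Type u} [CommRing K]

theorem prod_gamma_mem_gammaFil (ε : A →+* K) {n : ℕ} {l : List (ℕ × A)}
    (hl : ∀ p ∈ l, ε p.2 = 0) (hn : n ≤ (l.map Prod.fst).sum) :
    (l.map fun p => gamma p.1 p.2).prod ∈ gammaFil ε n :=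
  Ideal.subset_span ⟨l, hl, hn, rfl⟩

theorem gamma_mem_gammaFil (ε : A →+* K) {x : A} (hx : ε x = 0) (r : ℕ) :
    gamma r x ∈ gammaFil ε r := by
  have := prod_gamma_mem_gammaFil ε (n := r) (l := [(r, x)]) (by simp [hx]) (by simp)
  simpa using this

theorem gammaFil_le {ε : A →+* K} {J : Ideal A} {n : ℕ}
    (h : ∀ l : List (ℕ × A), (∀ p ∈ l, ε p.2 = 0) → n ≤ (l.map Prod.fst).sum →
      (l.map fun p => gamma p.1 p.2).prod ∈ J) : gammaFil ε n ≤ J := by
  rw [gammaFil, Ideal.span_le]
  rintro y ⟨l, hl, hn, rfl⟩
  exact h l hl hn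

theorem gammaFil_anti (ε : A →+* K) {m n : ℕ} (h : m ≤ n) : gammaFil ε n ≤ gammaFil ε m :=
  gammaFil_le fun _ hl hs => prod_gamma_mem_gammaFil ε hl (h.trans hs)

theorem mul_mem_gammaFil (ε : A →+* K) {m n : ℕ} {x y : A} (hx : x ∈ gammaFil ε m)
    (hy : y ∈ gammaFil ε n) : x * y ∈ gammaFil ε (m + n) := by
  suffices gammaFil ε m * gammaFil ε n ≤ gammaFil ε (m + n) from this (Ideal.mul_mem_mul hx hy)
  rw [gammaFil, gammaFil, Ideal.span_mul_span', Ideal.span_le]
  rintro z ⟨a, ⟨l, hl, hs, rfl⟩, b, ⟨l', hl', hs', rfl⟩, rfl⟩
  have := prod_gamma_mem_gammaFil ε (n := m + n) (l := l ++ l')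
    (by
      intro p hp
      rcases List.mem_append.1 hp with h | h
      · exact hl p h
      · exact hl' p h)
    (by simp only [List.map_append, List.sum_append]; omega)
  simpa using this

section Span

variable [Algebra K A] (ε : A →ₐ[K] K) (S : Set A)

/-- The products of the γ^i(s - ε s), s ∈ S, of weight ≥ n. -/
def genProd (n : ℕ) : Set A :=
  {y : A | ∃ l : List (ℕ × A), (∀ p ∈ l, p.2 ∈ S) ∧ n ≤ (l.map Prod.fst).sum ∧
    y = (l.map fun p => gamma p.1 (p.2 - algebraMap K A (ε p.2))).prod}

theorem span_genProd_anti {m n : ℕ} (h : m ≤ n) :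
    Submodule.span K (genProd ε S n) ≤ Submodule.span K (genProd ε S m) := by
  apply Submodule.span_mono
  rintro y ⟨l, hl, hs, rfl⟩
  exact ⟨l, hl, h.trans hs, rfl⟩

theorem mul_mem_span_genProd {m n : ℕ} {x y : A} (hx : x ∈ Submodule.span K (genProd ε S m))
    (hy : y ∈ Submodule.span K (genProd ε S n)) :
    x * y ∈ Submodule.span K (genProd ε S (m + n)) := by
  suffices Submodule.span K (genProd ε S m) * Submodule.span K (genProd ε S n) ≤
      Submodule.span K (genProd ε S (m + n)) from this (Submodule.mul_mem_mul hx hy)
  rw [Submodule.span_mul_span, Submodule.span_le]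
  rintro z ⟨a, ⟨l, hl, hs, rfl⟩, b, ⟨l', hl', hs', rfl⟩, rfl⟩
  refine Submodule.subset_span ⟨l ++ l', ?_, ?_, ?_⟩
  · intro p hp
    rcases List.mem_append.1 hp with h | h
    · exact hl p h
    · exact hl' p h
  · simp only [List.map_append, List.sum_append]; omega
  · simp

theorem gamma_mem_span_genProd (hS : AddSubgroup.closure S = ⊤) (a : A) :
    ∀ r : ℕ, gamma r (a - algebraMap K A (ε a)) ∈ Submodule.span K (genProd ε S r) := by
  have ha : a ∈ AddSubgroup.closure S := by rw [hS]; trivial
  induction ha using AddSubgroup.closure_induction with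
  | mem s hs =>
    intro r
    refine Submodule.subset_span ⟨[(r, s)], ?_, ?_, ?_⟩
    · simp [hs]
    · simp
    · simp
  | zero =>
    intro r
    rcases eq_or_ne r 0 with rfl | hr
    · rw [gamma_zero_left]
      exact Submodule.subset_span ⟨[], by simp, by simp, by simp⟩
    · simp [gamma_zero_right hr]
  | add x y _ _ hx hy =>
    intro r
    rw [map_add, map_add, add_sub_add_comm, gamma_add]
    refine Submodule.sum_mem _ fun i hi => ?_
    rw [mem_range] at hi
    have := mul_mem_span_genProd ε S (hx i) (hy (r - i))
    rwa [show i + (r - i) = r by omega] at this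
  | neg x _ hx =>
    intro r
    induction r using Nat.strong_induction_on with
    | _ r ih =>
      rw [map_neg, map_neg, show -x - -algebraMap K A (ε x) = -(x - algebraMap K A (ε x)) by ring]
        at *
      match r with
      | 0 =>
        rw [gamma_zero_left]
        exact Submodule.subset_span ⟨[], by simp, by simp, by simp⟩
      | r + 1 =>
        rw [gamma_neg]
        refine Submodule.neg_mem _ (Submodule.sum_mem _ fun i hi => ?_)
        rw [mem_range] at hi
        have hh := ih (r - i) (by omega)
        have := mul_mem_span_genProd ε S (hx (i + 1)) hh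
        rwa [show i + 1 + (r - i) = r + 1 by omega] at this

theorem gammaFil_restrictScalars_eq_span (hS : AddSubgroup.closure S = ⊤) (n : ℕ) :
    (gammaFil (ε : A →+* K) n).restrictScalars K = Submodule.span K (genProd ε S n) := by
  apply le_antisymm
  · intro y hy
    rw [Submodule.restrictScalars_mem] at hy
    let J : Ideal A :=
      { (Submodule.span K (genProd ε S n)).toAddSubmonoid with
        smul_mem' := by
          intro a x hx
          show a * x ∈ Submodule.span K (genProd ε S n)
          have ha : a * x = ε a • x + (a - algebraMap K A (ε a)) * x := by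
            rw [Algebra.smul_def]; ring
          rw [ha]
          refine Submodule.add_mem _ (Submodule.smul_mem _ _ hx) ?_
          have h1 := gamma_mem_span_genProd ε S hS a 1
          rw [gamma_one_left] at h1
          exact span_genProd_anti ε S (Nat.le_add_left n 1) (mul_mem_span_genProd ε S h1 hx) }
    suffices gammaFil (ε : A →+* K) n ≤ J from this hy
    refine gammaFil_le fun l hl hs => ?_
    show _ ∈ Submodule.span K (genProd ε S n)
    refine span_genProd_anti ε S hs ?_
    clear hs hy
    induction l with
    | nil => exact Submodule.subset_span ⟨[], by simp, by simp, by simp⟩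
    | cons p l ih =>
      simp only [List.map_cons, List.prod_cons, List.sum_cons]
      refine mul_mem_span_genProd ε S ?_ (ih fun q hq => hl q (List.mem_cons_of_mem _ hq))
      have h1 := gamma_mem_span_genProd ε S hS p.2 p.1
      have h2 : ε p.2 = 0 := hl p List.mem_cons_self
      rwa [h2, map_zero, sub_zero] at h1
  · rw [Submodule.span_le]
    rintro y ⟨l, hl, hs, rfl⟩
    show _ ∈ gammaFil (ε : A →+* K) n
    have := prod_gamma_mem_gammaFil (ε : A →+* K) (n := n)
      (l := l.map fun p => (p.1, p.2 - algebraMap K A (ε p.2)))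
      (by
        intro p hp
        obtain ⟨q, -, rfl⟩ := List.mem_map.1 hp
        show ε _ = 0
        simp)
      (by simpa [List.map_map, Function.comp_def] using hs)
    simpa [List.map_map, Function.comp_def] using this

end Span

end Groth.Agent.Lib.Lambda
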