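import Groth.Agent.Lib.Lambda.GrFacts
import Groth.Agent.Lib.Lambda.SplitSpecial

/-!
# The Chern character through the free λ-ring
-/

set_option autoImplicit false

open Finset LambdaRing TensorProduct KGr
open MvPolynomial hiding X

noncomputable section

namespace Groth.Agent.Lib.Lambda

universe u w

attribute [local instance] serLambdaOps freeLambdaOps

theorem pOfE_eq {A : Type u} [CommRing A] {e e' : ℕ → A} (h0 : e 0 = 1) (h0' : e' 0 = 1) {n : ℕ}
    (hn : 1 ≤ n) (h : ∀ i, i ≤ n → e i = e' i) : pOfE e n = pOfE e' n :=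
  (newtonRel_pOfE h0).eq_p (newtonRel_pOfE h0') h n hn le_rfl

theorem factorial_mul_smul {A : Type u} [CommRing A] [Algebra ℚ A] (r : ℕ) (z : A) :
    (r.factorial : A) * ((r.factorial : ℚ)⁻¹ • z) = z := by
  rw [mul_smul_comm, Algebra.smul_def, ← mul_assoc, ← map_natCast (algebraMap ℚ A), ← map_mul,
    inv_mul_cancel₀ (by exact_mod_cast Nat.factorial_ne_zero r), map_one, one_mul]

/-- ℚ ⊗ ℤ = ℚ. -/
def jInt : RatK ℤ →+* ℚ :=
  (Algebra.TensorProduct.rid ℤ ℚ ℚ : ℚ ⊗[ℤ] ℤ ≃ₐ[ℚ] ℚ).toRingEquiv.toRingHom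

variable {K : Type u} [CommRing K] [LambdaOps K] {P : PosStructure K}

theorem gq_sum {α : Type*} (s : Finset α) (f : α → K) {m : ℕ}
    (hf : ∀ a ∈ s, f a ∈ gammaFiltration P m) :
    gq P (m) (∑ a ∈ s, f a) = ∑ a ∈ s, gq P (m) (f a) := by
  classical
  induction s using Finset.induction_on with
  | empty => simp [gq_zero]
  | insert a s ha ih =>
    rw [sum_insert ha, sum_insert ha, gq_add (hf a (mem_insert_self a s))
      (sum_mem fun b hb => hf b (mem_insert_of_mem hb)), ih fun b hb => hf b (mem_insert_of_mem hb)]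

/-- The sequence of classes of γ^l. -/
def gamClass (P : PosStructure K) (x : K) (l : ℕ) : GrQ P := gq P (l) (gamma l x)

theorem gamClass_zero (x : K) : gamClass P x 0 = 1 := by
  rw [gamClass, gamma_zero_left, gq_zero_one]

variable {ι : Type w}

/-- The map from coordinates to the graded ring. -/
def coordGr (P : PosStructure K) (v : ι → K) : LeadRing ι ℤ →+* GrQ P :=
  eval₂Hom ((algebraMap ℚ (GrQ P)).comp jInt) fun p =>
    ((p.2 + 1).factorial : ℚ)⁻¹ • pOfE (gamClass P (v p.1)) (p.2 + 1)

theorem coordGr_coeff_gamma (v : ι → K) (a : ι) (l : ℕ) :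
    coordGr P v (PowerSeries.coeff (l + 1) (gamma (l + 1) (xSer ℤ a))) =
      gamClass P (v a) (l + 1) := by
  have h := (newtonRel_lead (constantCoeff_xSer (K := ℤ) a)).map (coordGr P v)
  have h' := newtonRel_pOfE (gamClass_zero (P := P) (v a))
  refine h.eq_e (natRegular_of_algebraRat _) h' (N := l + 1) (fun r hr _ => ?_) (l + 1) le_rfl
  obtain ⟨r, rfl⟩ : ∃ t, r = t + 1 := ⟨r - 1, by omega⟩
  rw [map_mul, map_natCast, xSer, PowerSeries.coeff_mk]
  show _ * coordGr P v (MvPolynomial.X (a, r)) = _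
  rw [coordGr, coe_eval₂Hom, eval₂_X, factorial_mul_smul]

theorem coordGr_C (v : ι → K) (c : ℤ) :
    coordGr P v (MvPolynomial.C (jK ℤ c)) = (c : GrQ P) :=
  eq_intCast ((coordGr P v).comp ((MvPolynomial.C).comp (jK ℤ))) c

theorem monomial_gq (v : ι → K) (hv : ∀ a, P.aug (v a) = 0) (s : ι × ℕ →₀ ℕ) (c : ℤ) :
    evalFree (K := ℤ) v (monomial s c) ∈ gammaFiltration P (wt s) ∧
      coordGr P v (lead (monomial s c)) =
        gq P (wt s) (evalFree (K := ℤ) v (monomial s c)) := by
  induction s using Finsupp.induction with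
  | zero =>
    have hw : wt (0 : ι × ℕ →₀ ℕ) = 0 := by simp [wt]
    rw [hw, monomial_zero']
    refine ⟨mem_gammaFiltration_zero _, ?_⟩
    rw [show lead (MvPolynomial.C c : Free ι ℤ) = MvPolynomial.C (jK ℤ c) by simp [lead], coordGr_C,
      show evalFree (K := ℤ) v (MvPolynomial.C c) = (c : K) by simp [evalFree], gq_intCast]
  | single_add p k s hp hk ih =>
    obtain ⟨a, l⟩ := p
    obtain ⟨ih1, ih2⟩ := ih
    have hpow : ∀ j : ℕ, gamma (l + 1) (v a) ^ j ∈ gammaFiltration P (j * (l + 1)) ∧
        gamClass P (v a) (l + 1) ^ j =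
          gq P (j * (l + 1)) (gamma (l + 1) (v a) ^ j) := by
      intro j
      induction j with
      | zero =>
        refine ⟨by simpa using mem_gammaFiltration_zero (P := P) (1 : K), ?_⟩
        rw [pow_zero, pow_zero, zero_mul, gq_zero_one]
      | succ j ihj =>
        rw [pow_succ, pow_succ, Nat.succ_mul]
        exact ⟨mul_mem_gammaFiltration ihj.1 (gamma_mem_gammaFiltration (hv a) _), by
          rw [ihj.2, gamClass, gq_mul ihj.1 (gamma_mem_gammaFiltration (hv a) _)]⟩
    rw [wt_add, wt_single, monomial_single_add, map_mul, map_pow, evalFree_X]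
    refine ⟨mul_mem_gammaFiltration (hpow k).1 ih1, ?_⟩
    rw [← gq_mul (hpow k).1 ih1, ← ih2, map_mul lead, map_pow lead, map_mul, map_pow,
      show lead (MvPolynomial.X (a, l) : Free ι ℤ) =
        PowerSeries.coeff (l + 1) (gamma (l + 1) (xSer ℤ a)) by simp [lead],
      coordGr_coeff_gamma, (hpow k).2]

theorem coordGr_coeff_theta (v : ι → K) (hv : ∀ a, P.aug (v a) = 0) {m : ℕ} {z : Free ι ℤ}
    (hz : z ∈ wtIdeal ι ℤ m) :
    coordGr P v (PowerSeries.coeff m (theta z)) = gq P (m) (evalFree (K := ℤ) v z) := by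
  classical
  rw [coeff_theta hz, weightedHomogeneousComponent_apply, map_sum, map_sum, sum_filter]
  conv_rhs => rw [as_sum z, map_sum]
  rw [gq_sum _ _ fun s hs =>
    gammaFiltration_anti (mem_wtIdeal_iff_support.1 hz s hs) (monomial_gq v hv s _).1]
  refine sum_congr rfl fun s hs => ?_
  have h1 := monomial_gq (P := P) v hv s (coeff s z)
  split_ifs with h
  · rw [h1.2]
    unfold wt
    rw [h]
  · exact (gq_eq_zero_of_mem_succ (gammaFiltration_anti
      (Nat.succ_le_of_lt (lt_of_le_of_ne (mem_wtIdeal_iff_support.1 hz s hs) (Ne.symm h))) h1.1)).symm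

/-- Series whose r-th coefficient has degree r. -/
def gradedSer (P : PosStructure K) : Subring (PowerSeries (GrQ P)) where
  carrier := {F | ∀ r, PowerSeries.coeff r F ∈ grDeg P r}
  zero_mem' r := by simp
  one_mem' r := by
    rw [PowerSeries.coeff_one]
    split_ifs with h
    · subst h; exact one_mem_grDeg
    · exact Submodule.zero_mem _
  add_mem' := fun {a b} ha hb r => by rw [map_add]; exact Submodule.add_mem _ (ha r) (hb r)
  neg_mem' := fun {a} ha r => by rw [map_neg]; exact Submodule.neg_mem _ (ha r)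
  mul_mem' := fun {a b} ha hb r => by
    rw [PowerSeries.coeff_mul]
    refine Submodule.sum_mem _ fun p hp => ?_
    rw [Finset.HasAntidiagonal.mem_antidiagonal] at hp
    rw [← hp]
    exact mul_mem_grDeg (ha p.1) (hb p.2)

theorem C_mem_gradedSer {x : GrQ P} (hx : x ∈ grDeg P 0) : PowerSeries.C x ∈ gradedSer P := by
  intro r
  rw [PowerSeries.coeff_C]
  split_ifs with h
  · subst h; exact hx
  · exact Submodule.zero_mem _

theorem gamma_mem_gradedSer {F : PowerSeries (GrQ P)} (hF : F ∈ gradedSer P) (l : ℕ) :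
    gamma l F ∈ gradedSer P := by
  induction l using Nat.strong_induction_on with
  | _ l ih =>
    match l with
    | 0 => rw [gamma_zero_left]; exact one_mem _
    | l + 1 =>
      intro r
      have h := congrArg (PowerSeries.coeff r) (succ_mul_gamma l F)
      rw [show ((l : PowerSeries (GrQ P)) + 1) = PowerSeries.C ((l : GrQ P) + 1) by simp,
        PowerSeries.coeff_C_mul] at h
      have hmem : PowerSeries.coeff r (∑ i ∈ range (l + 1), gOp (i + 1) F * gamma (l - i) F) ∈
          grDeg P r := by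
        have : (∑ i ∈ range (l + 1), gOp (i + 1) F * gamma (l - i) F) ∈ gradedSer P := by
          refine sum_mem fun i hi => mul_mem (fun r => ?_) (ih _ (by omega))
          rw [coeff_gOp_ser, ← zsmul_eq_mul]
          exact zsmul_mem (hF r) _
        exact this r
      rw [← h] at hmem
      have := (grDeg P r).smul_mem (((l : ℚ) + 1)⁻¹) hmem
      rwa [Algebra.smul_def, ← mul_assoc, show ((l : GrQ P) + 1) = algebraMap ℚ (GrQ P) ((l : ℚ) + 1) by
        simp, ← map_mul, inv_mul_cancel₀ (by positivity), map_one, one_mul] at this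

theorem pOfE_mem_grDeg {e : ℕ → GrQ P} (he : ∀ l, e l ∈ grDeg P l) (k : ℕ) :
    pOfE e k ∈ grDeg P k := by
  induction k using Nat.strong_induction_on with
  | _ k ih =>
    match k with
    | 0 => rw [pOfE]; exact Submodule.zero_mem _
    | k + 1 =>
      rw [pOfE]
      rcases neg_one_pow_eq_or (GrQ P) k with hk | hk
      all_goals
        rw [hk]
        try rw [one_mul]
        try rw [neg_one_mul]; refine Submodule.neg_mem _ ?_
        refine Submodule.sub_mem _ ?_ (Submodule.sum_mem _ fun i _ => ?_)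
        · rw [← Nat.cast_succ, ← nsmul_eq_mul]
          exact nsmul_mem (he _) _
        · have hm := mul_mem_grDeg (ih ((i : ℕ) + 1) (by omega)) (he (k - (i : ℕ)))
          rw [show (i : ℕ) + 1 + (k - (i : ℕ)) = k + 1 by omega] at hm
          rcases neg_one_pow_eq_or (GrQ P) (i : ℕ) with hi | hi
          · rwa [hi, one_mul]
          · rw [hi, neg_one_mul, neg_mul]; exact Submodule.neg_mem _ hm

/-- Free elements as graded series. -/
def serGr (P : PosStructure K) (v : ι → K) : Free ι ℤ →+* PowerSeries (GrQ P) :=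
  (PowerSeries.map (coordGr P v)).comp theta

theorem coordGr_ser_gamma (v : ι → K) (n : ℕ) (F : PowerSeries (LeadRing ι ℤ)) :
    PowerSeries.map (coordGr P v) (gamma n F) = gamma n (PowerSeries.map (coordGr P v) F) :=
  map_gamma (PowerSeries.map (coordGr P v)) (fun i G => map_lam_of_map_adamsOp
    (PowerSeries.map (coordGr P v)) (natRegular_ser _)
    (fun k hk H => by rw [adamsOp_ser hk, adamsOp_ser hk, map_rescale_natCast]) i G) n F

theorem coordGr_ser_lam (v : ι → K) (n : ℕ) (F : PowerSeries (LeadRing ι ℤ)) :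
    PowerSeries.map (coordGr P v) (LambdaOps.lam n F) =
      LambdaOps.lam n (PowerSeries.map (coordGr P v) F) :=
  map_lam_of_map_adamsOp (PowerSeries.map (coordGr P v)) (natRegular_ser _)
    (fun k hk H => by rw [adamsOp_ser hk, adamsOp_ser hk, map_rescale_natCast]) n F

theorem serGr_mem (v : ι → K) (hv : ∀ a, P.aug (v a) = 0) (z : Free ι ℤ) :
    serGr P v z ∈ gradedSer P := by
  induction z using MvPolynomial.induction_on with
  | C c =>
    rw [serGr, RingHom.comp_apply, theta_C, PowerSeries.map_C, coordGr_C, map_intCast]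
    exact intCast_mem _ c
  | add p q hp hq => rw [map_add]; exact add_mem hp hq
  | mul_X p i hp =>
    rw [map_mul]
    refine mul_mem hp ?_
    obtain ⟨a, l⟩ := i
    rw [serGr, RingHom.comp_apply, theta_X, coordGr_ser_gamma]
    refine gamma_mem_gradedSer (fun r => ?_) _
    rw [PowerSeries.coeff_map, xSer, PowerSeries.coeff_mk]
    match r with
    | 0 => simp
    | r + 1 =>
      show coordGr P v (MvPolynomial.X (a, r)) ∈ _
      rw [coordGr, coe_eval₂Hom, eval₂_X]
      exact Submodule.smul_mem _ _ (pOfE_mem_grDeg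
        (fun l => gq_mem_grDeg (gamma_mem_gammaFiltration (hv a) l)) _)

/-- The sum of the coefficients up to d. -/
def totSum (d : ℕ) (F : PowerSeries (GrQ P)) : GrQ P := ∑ r ∈ range (d + 1), PowerSeries.coeff r F

theorem totSum_mul {d : ℕ} (hd : gammaFiltration P (d + 1) = ⊥) {F G : PowerSeries (GrQ P)}
    (hF : F ∈ gradedSer P) (hG : G ∈ gradedSer P) :
    totSum d (F * G) = totSum d F * totSum d G := by
  rw [totSum, totSum, totSum, sum_mul_sum, ← sum_product']
  simp only [PowerSeries.coeff_mul]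
  rw [← sum_filter_add_sum_filter_not (range (d + 1) ×ˢ range (d + 1)) (fun p => p.1 + p.2 ≤ d),
    sum_eq_zero (s := (range (d + 1) ×ˢ range (d + 1)).filter fun p => ¬p.1 + p.2 ≤ d) (fun p hp => by
      rw [mem_filter] at hp
      exact grDeg_eq_zero hd (by omega) (mul_mem_grDeg (hF p.1) (hG p.2))), add_zero, sum_sigma']
  refine sum_bij' (fun x _ => x.2) (fun p _ => (⟨p.1 + p.2, p⟩ : Σ _ : ℕ, ℕ × ℕ)) ?_ ?_ ?_ ?_ ?_
  · rintro ⟨r, a, b⟩ h
    simp only [mem_sigma, mem_range, Finset.HasAntidiagonal.mem_antidiagonal] at h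
    simp only [mem_filter, mem_product, mem_range]
    omega
  · rintro ⟨a, b⟩ h
    simp only [mem_filter, mem_product, mem_range] at h
    simp only [mem_sigma, mem_range, Finset.HasAntidiagonal.mem_antidiagonal, and_true]
    omega
  · rintro ⟨r, a, b⟩ h
    simp only [mem_sigma, Finset.HasAntidiagonal.mem_antidiagonal] at h
    simp [h.2]
  · rintro ⟨a, b⟩ _
    rfl
  · rintro ⟨r, a, b⟩ _
    rfl

/-- The Chern classes in the copy. -/
def chernQ (P : PosStructure K) (l : ℕ) (x : K) : GrQ P := gq P l (gamma l (x - (P.aug x : K)))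

theorem toQ_chern (l : ℕ) (x : K) : toQ P (chern P l x) = chernQ P l x := rfl

theorem chern_zero (x : K) : chernQ P 0 x = 1 := by
  rw [chernQ, gamma_zero_left, gq_zero_one]

theorem coeff_serGr_succ (hK : HasSplitting K P) (v : ι → K) (hv : ∀ a, P.aug (v a) = 0)
    (z : Free ι ℤ) (r : ℕ) :
    PowerSeries.coeff (r + 1) (serGr P v z) = ((r + 1).factorial : ℚ)⁻¹ •
      pOfE (fun l => chernQ P l (evalFree (K := ℤ) v z)) (r + 1) := by
  have hA := isSpecial_of_hasSplitting hK
  set z1 : Free ι ℤ := z - MvPolynomial.C (constantCoeff z) with hz1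
  have hz1W : z1 ∈ wtIdeal ι ℤ 1 := by rw [mem_wtIdeal_one_iff]; simp [z1]
  have hc0 : PowerSeries.constantCoeff (theta z1) = 0 := by
    rw [← PowerSeries.coeff_zero_eq_constantCoeff_apply]
    exact PowerSeries.X_pow_dvd_iff.1 (dvd_theta_of_mem hz1W) 0 Nat.one_pos
  have hφ : evalFree (K := ℤ) v z1 = evalFree (K := ℤ) v z - (P.aug (evalFree (K := ℤ) v z) : K) := by
    have h := aug_evalFree (K := ℤ) (augAlg P) v (fun a l => aug_gamma_eq_zero_pos hK (hv a) l) z
    rw [augAlg_apply] at h
    rw [hz1, map_sub, h]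
    simp [evalFree]
  have h := (newtonRel_lead hc0).map (coordGr P v)
  have h' := newtonRel_pOfE (e := fun l => chernQ P l (evalFree (K := ℤ) v z)) (chern_zero _)
  have heq := h.eq_p h' (N := r + 1) (fun l _ => by
    show coordGr P v (PowerSeries.coeff l (gamma l (theta z1))) =
      gq P (l) (gamma l (evalFree (K := ℤ) v z - (P.aug (evalFree (K := ℤ) v z) : K)))
    rw [← theta_gamma, coordGr_coeff_theta v hv (gamma_mem_wtIdeal hz1W l),
      evalFree_gamma hA (hK_int hA), hφ]) (r + 1) (Nat.succ_pos r) le_rfl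
  have hco : PowerSeries.coeff (r + 1) (theta z1) = PowerSeries.coeff (r + 1) (theta z) := by
    rw [hz1, map_sub, theta_C, map_sub, PowerSeries.coeff_C, if_neg (Nat.succ_ne_zero r), sub_zero]
  simp only [map_mul, map_natCast, hco] at heq
  rw [← heq, serGr, RingHom.comp_apply, PowerSeries.coeff_map, Algebra.smul_def, ← mul_assoc,
    ← map_natCast (algebraMap ℚ (GrQ P)), ← map_mul,
    inv_mul_cancel₀ (by exact_mod_cast Nat.factorial_ne_zero (r + 1)), map_one, one_mul]

theorem coeff_serGr_zero (hK : HasSplitting K P) (v : ι → K) (hv : ∀ a, P.aug (v a) = 0)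
    (z : Free ι ℤ) :
    PowerSeries.coeff 0 (serGr P v z) = (P.aug (evalFree (K := ℤ) v z) : GrQ P) := by
  have h := aug_evalFree (K := ℤ) (augAlg P) v (fun a l => aug_gamma_eq_zero_pos hK (hv a) l) z
  rw [augAlg_apply] at h
  rw [serGr, RingHom.comp_apply, PowerSeries.coeff_map, h,
    show z = MvPolynomial.C (constantCoeff z) + (z - MvPolynomial.C (constantCoeff z)) by ring,
    map_add theta, map_add (PowerSeries.coeff 0), theta_C, PowerSeries.coeff_zero_C,
    PowerSeries.X_pow_dvd_iff.1 (dvd_theta_of_mem (mem_wtIdeal_one_iff.2 (by simp))) 0 Nat.one_pos,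
    add_zero, coordGr_C]
  simp

theorem aeval_esymm_chPoly (d : ℕ) :
    aeval (esymmSubst ℚ d d) (chPoly d) =
      ∑ i : Fin d, Polynomial.aeval (MvPolynomial.X i : MvPolynomial (Fin d) ℚ) (expTrunc d) := by
  show aeval (fun i : Fin d => esymm (Fin d) ℚ ((i : ℕ) + 1)) (chPoly d) = _
  rw [← esymmAlgHom_apply, ← esymmAlgEquiv_apply (Fin d) ℚ (Fintype.card_fin d), chPoly,
    AlgEquiv.apply_symm_apply]

theorem chPoly_eq (d : ℕ) :
    chPoly d = MvPolynomial.C (d : ℚ) + ∑ r ∈ range d, ((r + 1).factorial : ℚ)⁻¹ •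
      pOfE (seqOf fun i : Fin d => (MvPolynomial.X i : MvPolynomial (Fin d) ℚ)) (r + 1) := by
  apply aeval_esymmSubst_injective ℚ (le_refl d)
  rw [aeval_esymm_chPoly, map_add, map_sum, aeval_C]
  have hp : ∀ r, aeval (esymmSubst ℚ d d)
      (pOfE (seqOf fun i : Fin d => (MvPolynomial.X i : MvPolynomial (Fin d) ℚ)) (r + 1)) =
      ∑ c : Fin d, (MvPolynomial.X c : MvPolynomial (Fin d) ℚ) ^ (r + 1) := by
    intro r
    have h := eq_map_pOfE (aeval (esymmSubst ℚ d d) : MvPolynomial (Fin d) ℚ →ₐ[ℚ] _).toRingHom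
      (seqOf_zero fun k => (MvPolynomial.X k : MvPolynomial (Fin d) ℚ))
      (newtonRel_esymm ((univ : Finset (Fin d)).val.map fun c =>
        (MvPolynomial.X c : MvPolynomial (Fin d) ℚ))) (Nat.succ_pos r) (fun t _ => by
        rw [map_seqOf, ← seqOf_esymm (fun c => (MvPolynomial.X c : MvPolynomial (Fin d) ℚ)) t]
        congr 1
        funext k
        rw [AlgHom.toRingHom_eq_coe, RingHom.coe_coe, aeval_X, esymmSubst, esymm_eq_multiset_esymm])
    refine h.trans ?_
    rw [Multiset.map_map]
    rfl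
  simp only [map_smul, hp, expTrunc, map_sum, map_mul, Polynomial.aeval_C, map_pow,
    Polynomial.aeval_X]
  rw [sum_comm, sum_range_succ', add_comm]
  congr 1
  · simp
  · refine sum_congr rfl fun r _ => ?_
    rw [smul_sum]
    exact sum_congr rfl fun c _ => by rw [Algebra.smul_def, one_div]

theorem chK_eq (d : ℕ) (x : K) :
    toQ P (chK P d x) = (P.aug x : GrQ P) + ∑ r ∈ range d, ((r + 1).factorial : ℚ)⁻¹ •
      pOfE (fun l => chernQ P l x) (r + 1) := by
  have hev : ∀ q : MvPolynomial (Fin d) ℚ, toQ P (aeval (fun i : Fin d => chern P (i.1 + 1) x) q) =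
      aeval (fun i : Fin d => chernQ P (i.1 + 1) x) q := by
    intro q
    induction q using MvPolynomial.induction_on with
    | C c => rw [aeval_C, aeval_C, AlgHom.commutes]
    | add p q hp hq => rw [map_add, map_add, map_add, hp, hq]
    | mul_X p i hp => rw [map_mul, map_mul, map_mul, hp, aeval_X, aeval_X, toQ_chern]
  rw [chK, map_add, AlgHom.commutes, hev, chPoly_eq, map_add, aeval_C, map_sum, map_sub,
    map_intCast, ← add_assoc, sub_add_cancel]
  congr 1
  refine sum_congr rfl fun r hr => ?_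
  rw [mem_range] at hr
  rw [map_smul]
  congr 1
  refine eq_map_pOfE (aeval fun i : Fin d => chernQ P (i.1 + 1) x : MvPolynomial (Fin d) ℚ →ₐ[ℚ] _).toRingHom
    (seqOf_zero _) (newtonRel_pOfE (e := fun l => chernQ P l x) (chern_zero x)) (Nat.succ_pos r)
    fun t ht => ?_
  rw [map_seqOf]
  unfold seqOf
  split_ifs with h0 h1
  · subst h0; exact (chern_zero x).symm
  · simp only [AlgHom.toRingHom_eq_coe, RingHom.coe_coe, aeval_X]
    show chernQ P (t - 1 + 1) x = _
    rw [Nat.sub_add_cancel (by omega)]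
  · omega

theorem chK_eq_totSum (hK : HasSplitting K P) (v : ι → K) (hv : ∀ a, P.aug (v a) = 0) (d : ℕ)
    (z : Free ι ℤ) : toQ P (chK P d (evalFree (K := ℤ) v z)) = totSum d (serGr P v z) := by
  rw [chK_eq, totSum, sum_range_succ', coeff_serGr_zero hK v hv, add_comm]
  exact congrArg₂ _ (sum_congr rfl fun r _ => (coeff_serGr_succ hK v hv z r).symm) rfl

theorem chK_mul (hK : HasSplitting K P) {d : ℕ} (hd : gammaFiltration P (d + 1) = ⊥) (x y : K) :
    chK P d (x * y) = chK P d x * chK P d y := by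
  apply toQ_injective
  rw [map_mul (toQ P)]
  obtain ⟨a, rfl⟩ := kerEval_surjective (P := P) x
  obtain ⟨b, rfl⟩ := kerEval_surjective (P := P) y
  rw [← map_mul (kerEval P)]
  simp only [kerEval]
  rw [chK_eq_totSum hK (kerVal P) (fun a => a.2), chK_eq_totSum hK (kerVal P) (fun a => a.2),
    chK_eq_totSum hK (kerVal P) (fun a => a.2), map_mul,
    totSum_mul hd (serGr_mem (kerVal P) (fun a => a.2) a) (serGr_mem (kerVal P) (fun a => a.2) b)]

theorem chK_one (hK : HasSplitting K P) (d : ℕ) : chK P d (1 : K) = 1 := by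
  apply toQ_injective
  rw [map_one (toQ P)]
  have h := chK_eq_totSum hK (kerVal P) (fun a => a.2) d (1 : Free {x : K // P.aug x = 0} ℤ)
  rw [map_one] at h
  rw [h, map_one, totSum, sum_range_succ', sum_eq_zero (fun r _ => by simp)]
  simp

end Groth.Agent.Lib.Lambda
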