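import Groth.Agent.Lib.Lambda.Univ
import Mathlib.RingTheory.Flat.TorsionFree
import Mathlib.RingTheory.TensorProduct.Basic

/-!
# Pre-λ-structures from Adams operations in characteristic zero; binomial rings are special
-/

set_option autoImplicit false

open Finset LambdaRing TensorProduct

noncomputable section

namespace Groth.Agent.Lib.Lambda

universe u

/-- The pre-λ-structure with given Adams operations on a ℚ-algebra. -/
@[reducible] def lambdaOpsOfAdams {K : Type u} [CommRing K] [Algebra ℚ K] (ψ : ℕ → K →+ K)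
    (hψ : ψ 1 = AddMonoidHom.id K) : LambdaOps K where
  lam n x := eOfP (fun i => ψ i x) n
  lam_zero x := (newtonRel_eOfP _).1
  lam_one x := by
    have h := (newtonRel_eOfP (fun i => ψ i x)).2 0
    simpa [(newtonRel_eOfP (fun i => ψ i x)).1, hψ] using h
  lam_add k x y := by
    have hm : NewtonRel
        (fun n => PowerSeries.coeff n (PowerSeries.mk (eOfP fun i => ψ i x) *
          PowerSeries.mk (eOfP fun i => ψ i y)))
        (fun i => ψ i x + ψ i y) :=
      (newtonRel_eOfP _).of_mul (newtonRel_eOfP _) (by ext n; simp)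
    have h := (newtonRel_eOfP (fun i => ψ i (x + y))).eq_e (natRegular_of_algebraRat K) hm
      (N := k) (fun i _ _ => map_add _ _ _) k le_rfl
    rw [h, PowerSeries.coeff_mul, Finset.Nat.sum_antidiagonal_eq_sum_range_succ_mk]
    simp

theorem adamsOp_lambdaOpsOfAdams {K : Type u} [CommRing K] [Algebra ℚ K] (ψ : ℕ → K →+ K)
    (hψ : ψ 1 = AddMonoidHom.id K) (k : ℕ) (hk : 1 ≤ k) (x : K) :
    @adamsOp K _ (lambdaOpsOfAdams ψ hψ) k x = ψ k x := by
  letI := lambdaOpsOfAdams ψ hψ
  exact (newtonRel_lam x).eq_p (newtonRel_eOfP (fun i => ψ i x)) (N := k) (fun _ _ => rfl) k hk le_rfl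

theorem lambdaOps_ext {K : Type u} [CommRing K] {L L' : LambdaOps K}
    (h : ∀ n x, @LambdaOps.lam K _ L n x = @LambdaOps.lam K _ L' n x) : L = L' := by
  obtain ⟨lam, _, _, _⟩ := L
  obtain ⟨lam', _, _, _⟩ := L'
  have : lam = lam' := funext fun n => funext fun x => h n x
  subst this
  rfl

theorem eq_lambdaOpsOfAdams {K : Type u} [CommRing K] [Algebra ℚ K] (ψ : ℕ → K →+ K)
    (hψ : ψ 1 = AddMonoidHom.id K) (L : LambdaOps K)
    (h : ∀ k : ℕ, 1 ≤ k → ∀ x : K, @adamsOp K _ L k x = ψ k x) :
    L = lambdaOpsOfAdams ψ hψ :=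
  lambdaOps_ext fun n x => (@newtonRel_lam K _ L x).eq_e (natRegular_of_algebraRat K)
    (newtonRel_eOfP (fun i => ψ i x)) (N := n) (fun i hi _ => h i hi x) n le_rfl

theorem injective_includeRight_rat (K : Type u) [CommRing K] [IsAddTorsionFree K] :
    Function.Injective (Algebra.TensorProduct.includeRight : K →ₐ[ℤ] ℚ ⊗[ℤ] K) :=
  Algebra.TensorProduct.includeRight_injective (Int.cast_injective)

theorem isSpecial_of_isBinomial (K : Type u) [CommRing K] [LambdaOps K] [BinomialRing K]
    (hKb : IsBinomial K) : IsSpecial K := by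
  haveI := BinomialRing.toIsAddTorsionFree (R := K)
  refine isSpecial_of_adamsOp_of_injective
    (Algebra.TensorProduct.includeRight : K →ₐ[ℤ] ℚ ⊗[ℤ] K).toRingHom
    (injective_includeRight_rat K) (fun k hk => adamsOp_of_isBinomial hKb hk 1) ?_ ?_
  · intro k hk x y
    simp [adamsOp_of_isBinomial hKb hk]
  · intro k k' hk hk' x
    simp [adamsOp_of_isBinomial hKb hk, adamsOp_of_isBinomial hKb hk',
      adamsOp_of_isBinomial hKb (Nat.mul_pos hk hk' : 1 ≤ k * k')]

end Groth.Agent.Lib.Lambda
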