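import Groth.Prelude.Def_KRR
import Groth.Agent.Lib.Lambda.Functional
import Groth.Agent.Lib.Lambda.ResidueChange
import Groth.Agent.Lib.Lambda.PosFil
import Mathlib.RingTheory.AdjoinRoot
import Mathlib.RingTheory.Polynomial.Vieta
import Mathlib.Algebra.Group.Submonoid.Membership

/-!
# Existence of the λ-structure on the elementary extension `K_e`
-/

set_option autoImplicit false

open Finset LambdaRing Groth.Agent.Lib.Lambda

noncomputable section

namespace Groth.Agent.Lib.Lambda.ExtLam

universe v w

/-- `∏_{a ∈ A} (1 + a t)`. -/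
def ser {S : Type w} [CommRing S] (A : Multiset S) : PowerSeries S :=
  (A.map fun a => (1 + PowerSeries.C a * PowerSeries.X : PowerSeries S)).prod

section Ser

variable {S : Type w} [CommRing S]

theorem ser_add (A B : Multiset S) : ser (A + B) = ser A * ser B := by simp [ser]

theorem ser_zero : ser (0 : Multiset S) = 1 := by simp [ser]

theorem coeff_ser (A : Multiset S) (n : ℕ) : PowerSeries.coeff n (ser A) = A.esymm n :=
  coeff_prod_one_add_C_mul_X A n

theorem isUnit_ser (A : Multiset S) : IsUnit (ser A) :=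
  PowerSeries.isUnit_iff_constantCoeff.2 (by
    rw [← PowerSeries.coeff_zero_eq_constantCoeff_apply, coeff_ser, esymm_zero_eq_one]
    exact isUnit_one)

theorem rescale_ser (c : S) (A : Multiset S) :
    PowerSeries.rescale c (ser A) = ser (A.map fun a => c * a) := by
  rw [ser, ser, map_multiset_prod, Multiset.map_map, Multiset.map_map]
  refine congrArg _ (Multiset.map_congr rfl fun a _ => ?_)
  simp only [Function.comp_apply]
  ext n
  simp only [PowerSeries.coeff_rescale, map_add, PowerSeries.coeff_C_mul, PowerSeries.coeff_X,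
    PowerSeries.coeff_one]
  rcases n with _ | _ | n <;> simp

theorem map_ser {T : Type*} [CommRing T] (f : S →+* T) (A : Multiset S) :
    PowerSeries.map f (ser A) = ser (A.map f) := by
  rw [ser, ser, map_multiset_prod, Multiset.map_map, Multiset.map_map]
  exact congrArg _ (Multiset.map_congr rfl fun a _ => by simp)

theorem rescale_map {T : Type*} [CommRing T] (f : S →+* T) (c : S) (F : PowerSeries S) :
    PowerSeries.map f (PowerSeries.rescale c F) = PowerSeries.rescale (f c) (PowerSeries.map f F) := by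
  ext n
  simp [PowerSeries.coeff_rescale]

/-- The subsets of even and of odd cardinality give the same product at a node. -/
theorem even_eq_odd_node {A : Type*} [CommRing A] {m : ℕ} (u : Fin m → A) (a : A) (k : Fin m) :
    ∏ T ∈ (univ : Finset (Fin m)).powerset with Even T.card,
        (1 + PowerSeries.C (a * (∏ t ∈ T, u t) * u k ^ (m - T.card)) * PowerSeries.X : PowerSeries A) =
      ∏ T ∈ (univ : Finset (Fin m)).powerset with ¬ Even T.card,
        (1 + PowerSeries.C (a * (∏ t ∈ T, u t) * u k ^ (m - T.card)) * PowerSeries.X : PowerSeries A) := by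
  let σ : Finset (Fin m) → Finset (Fin m) := fun T => if k ∈ T then T.erase k else insert k T
  have hσσ : ∀ T, σ (σ T) = T := fun T => by
    by_cases h : k ∈ T <;> simp [σ, h, Finset.insert_erase]
  have hpar : ∀ T, Even (σ T).card ↔ ¬ Even T.card := fun T => by
    by_cases h : k ∈ T
    · simp only [σ, h, if_true]
      rw [← Finset.card_erase_add_one h, Nat.even_add_one, not_not]
    · simp only [σ, h, if_false, Finset.card_insert_of_notMem h, Nat.even_add_one]
  have hval : ∀ T, (∏ t ∈ σ T, u t) * u k ^ (m - (σ T).card) = (∏ t ∈ T, u t) * u k ^ (m - T.card) := by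
    intro T
    have hle : T.card ≤ m := by simpa using Finset.card_le_univ T
    by_cases h : k ∈ T
    · simp only [σ, h, if_true]
      have hc := Finset.card_pos.2 ⟨k, h⟩
      rw [← Finset.mul_prod_erase T u h, Finset.card_erase_of_mem h,
        show m - (T.card - 1) = m - T.card + 1 by omega, pow_succ]
      ring
    · simp only [σ, h, if_false]
      have hlt : T.card < m := by
        have h1 : (insert k T).card ≤ m := by simpa using Finset.card_le_univ (insert k T)
        rw [Finset.card_insert_of_notMem h] at h1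
        omega
      rw [Finset.prod_insert h, Finset.card_insert_of_notMem h,
        show m - T.card = m - (T.card + 1) + 1 by omega, pow_succ]
      ring
  refine Finset.prod_nbij' σ σ ?_ ?_ (fun T _ => hσσ T) (fun T _ => hσσ T) fun T _ => ?_
  · intro T hT
    simp only [Finset.coe_filter, Set.mem_setOf_eq, Finset.mem_powerset, Finset.subset_univ, true_and,
      Finset.mem_filter] at hT ⊢
    rw [hpar]
    exact not_not.2 hT
  · intro T hT
    simp only [Finset.coe_filter, Set.mem_setOf_eq, Finset.mem_powerset, Finset.subset_univ, true_and,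
      Finset.mem_filter] at hT ⊢
    rw [hpar]
    exact hT
  · rw [mul_assoc a, mul_assoc a, hval]

theorem even_eq_odd {S : Type w} [CommRing S] {m : ℕ} (u : Fin m → S) (a z : S)
    (hz : ∏ k, (z - u k) = 0) :
    ∏ T ∈ (univ : Finset (Fin m)).powerset with Even T.card,
        (1 + PowerSeries.C (a * (∏ t ∈ T, u t) * z ^ (m - T.card)) * PowerSeries.X : PowerSeries S) =
      ∏ T ∈ (univ : Finset (Fin m)).powerset with ¬ Even T.card,
        (1 + PowerSeries.C (a * (∏ t ∈ T, u t) * z ^ (m - T.card)) * PowerSeries.X : PowerSeries S) := by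
  let U : Fin m → (MvPolynomial (Option (Fin m)) ℤ) := fun k => MvPolynomial.X (some k)
  let φ : Finset (Fin m) → PowerSeries (Polynomial (MvPolynomial (Option (Fin m)) ℤ)) := fun T =>
    1 + PowerSeries.C (Polynomial.C (MvPolynomial.X none : (MvPolynomial (Option (Fin m)) ℤ)) * (∏ t ∈ T, Polynomial.C (U t)) *
      Polynomial.X ^ (m - T.card)) * PowerSeries.X
  set D := (∏ T ∈ (univ : Finset (Fin m)).powerset with Even T.card, φ T) -
    ∏ T ∈ (univ : Finset (Fin m)).powerset with ¬ Even T.card, φ T with hD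
  have hUinj : Function.Injective U := fun x y h => Option.some_injective _ (MvPolynomial.X_injective h)
  have hdvd : ∀ n, ResidueChange.prodLin U ∣ PowerSeries.coeff n D := by
    intro n
    rw [← Polynomial.modByMonic_eq_zero_iff_dvd (ResidueChange.monic_prodLin U)]
    refine Polynomial.eq_zero_of_degree_lt_of_eval_index_eq_zero (v := U) (s := univ) hUinj.injOn ?_ fun k _ => ?_
    · refine (Polynomial.degree_modByMonic_lt _ (ResidueChange.monic_prodLin U)).trans_le ?_
      rw [ResidueChange.prodLin, Polynomial.degree_prod]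
      simp
    · rw [ResidueChange.eval_modByMonic_node]
      have : PowerSeries.map (Polynomial.evalRingHom (U k)) D = 0 := by
        rw [hD, map_sub, map_prod, map_prod, sub_eq_zero]
        simp only [φ, map_add, map_one, map_mul, PowerSeries.map_C, PowerSeries.map_X, map_prod,
          map_pow, Polynomial.coe_evalRingHom, Polynomial.eval_C, Polynomial.eval_X]
        have h := even_eq_odd_node U (MvPolynomial.X none) k
        simpa only [map_mul, map_prod, map_pow] using h
      simpa using congrArg (PowerSeries.coeff n) this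
  let χ : Polynomial (MvPolynomial (Option (Fin m)) ℤ) →+* S :=
    Polynomial.eval₂RingHom (MvPolynomial.eval₂Hom (Int.castRingHom S) fun o => o.elim a u) z
  have hχ : PowerSeries.map χ D = 0 := by
    ext n
    rw [PowerSeries.coeff_map, map_zero]
    obtain ⟨q, hq⟩ := hdvd n
    have : χ (ResidueChange.prodLin U) = 0 := by
      simp [χ, ResidueChange.prodLin, U, hz, Polynomial.eval₂_finsetProd]
    rw [hq, map_mul, this, zero_mul]
  rw [hD, map_sub, map_prod, map_prod, sub_eq_zero] at hχ
  simpa [φ, χ, U, Polynomial.eval₂_finsetProd] using hχ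

end Ser

variable {K : Type v} [CommRing K] [LambdaOps K] (P : PosStructure K) {e : K}

local notation "p" => KRR.extPoly P e

theorem extPoly_monic (he : e ∈ P.pos) : (KRR.extPoly P e).Monic :=
  (Functional.monic_and_degree P he (r := (P.aug e).toNat - 1)
    (by have := P.aug_pos e he; omega)).1

theorem natDegree_extPoly [Nontrivial K] (he : e ∈ P.pos) :
    (KRR.extPoly P e).natDegree = (P.aug e).toNat := by
  have hpos := P.aug_pos e he
  refine le_antisymm ((Functional.monic_and_degree P he (r := (P.aug e).toNat - 1) (by omega)).2.trans (by omega))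
    (Polynomial.le_natDegree_of_ne_zero ?_)
  have h : (KRR.extPoly P e).coeff (P.aug e).toNat = 1 := by
    rw [KRR.extPoly, Polynomial.finsetSum_coeff, sum_eq_single 0]
    · simp [LambdaOps.lam_zero]
    · intro i hi hne
      simp at hi
      rw [Polynomial.coeff_C_mul_X_pow, if_neg (by omega)]
    · simp
  rw [h]; exact one_ne_zero

theorem nontrivial_of_aug (P : PosStructure K) : Nontrivial K :=
  ⟨0, 1, fun h => by simpa using congrArg P.aug h⟩

/-- The coordinates of an element of `K_e` in the basis `1, ℓ, …, ℓ^(m-1)`. -/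
def coord (he : e ∈ P.pos) (x : AdjoinRoot p) (i : ℕ) : K :=
  (AdjoinRoot.modByMonicHom (extPoly_monic P he) x).coeff i

/-- `λ_t` on `K_e`. -/
def sig (he : e ∈ P.pos) (x : AdjoinRoot p) : PowerSeries (AdjoinRoot p) :=
  ∏ i ∈ range (P.aug e).toNat, PowerSeries.rescale (AdjoinRoot.root p ^ i)
    (PowerSeries.map (AdjoinRoot.of p) (lamSeries (coord P he x i)))

theorem sig_add (he : e ∈ P.pos) (x y : AdjoinRoot p) :
    sig P he (x + y) = sig P he x * sig P he y := by
  simp only [sig, coord, map_add, Polynomial.coeff_add, lamSeries_add, map_mul, prod_mul_distrib]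

theorem coeff_zero_sig (he : e ∈ P.pos) (x : AdjoinRoot p) : PowerSeries.coeff 0 (sig P he x) = 1 := by
  rw [PowerSeries.coeff_zero_eq_constantCoeff_apply, sig, map_prod]
  refine prod_eq_one fun i _ => ?_
  rw [← PowerSeries.coeff_zero_eq_constantCoeff_apply, PowerSeries.coeff_rescale, pow_zero, one_mul,
    PowerSeries.coeff_map, coeff_lamSeries, LambdaOps.lam_zero, map_one]

theorem coeff_one_prod {A ι : Type*} [CommRing A] (s : Finset ι) (f : ι → PowerSeries A)
    (h : ∀ i ∈ s, PowerSeries.constantCoeff (f i) = 1) :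
    PowerSeries.coeff 1 (∏ i ∈ s, f i) = ∑ i ∈ s, PowerSeries.coeff 1 (f i) := by
  classical
  induction s using Finset.induction_on with
  | empty => simp
  | insert a s ha ih =>
    rw [prod_insert ha, sum_insert ha, PowerSeries.coeff_one_mul, h a (by simp), map_prod,
      prod_eq_one (fun i hi => h i (by simp [hi])), ih (fun i hi => h i (by simp [hi]))]
    ring

theorem eq_sum_coord (he : e ∈ P.pos) (x : AdjoinRoot p) :
    x = ∑ i ∈ range (P.aug e).toNat, AdjoinRoot.of p (coord P he x i) * AdjoinRoot.root p ^ i := by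
  haveI := nontrivial_of_aug P
  set h := AdjoinRoot.modByMonicHom (extPoly_monic P he) x with hh
  have hdeg : h.degree < ((P.aug e).toNat : WithBot ℕ) := by
    obtain ⟨g, rfl⟩ := AdjoinRoot.mk_surjective x
    rw [hh, AdjoinRoot.modByMonicHom_mk]
    refine (Polynomial.degree_modByMonic_lt g (extPoly_monic P he)).trans_le ?_
    rw [← natDegree_extPoly P he]
    exact Polynomial.degree_le_natDegree
  conv_lhs => rw [← AdjoinRoot.mk_leftInverse (extPoly_monic P he) x, ← hh,
    h.as_sum_range' (P.aug e).toNat (by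
      rcases eq_or_ne h 0 with h0 | h0
      · rw [h0, Polynomial.natDegree_zero]; have := P.aug_pos e he; omega
      · exact (Polynomial.natDegree_lt_iff_degree_lt h0).2 hdeg)]
  rw [map_sum]
  refine sum_congr rfl fun i _ => ?_
  rw [← Polynomial.C_mul_X_pow_eq_monomial, map_mul, map_pow, AdjoinRoot.mk_X, AdjoinRoot.mk_C]
  rfl

theorem coeff_one_sig (he : e ∈ P.pos) (x : AdjoinRoot p) : PowerSeries.coeff 1 (sig P he x) = x := by
  rw [sig, coeff_one_prod]
  · conv_rhs => rw [eq_sum_coord P he x]
    refine sum_congr rfl fun i _ => ?_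
    rw [PowerSeries.coeff_rescale, PowerSeries.coeff_map, coeff_lamSeries, LambdaOps.lam_one, pow_one]
    ring
  · intro i _
    rw [← PowerSeries.coeff_zero_eq_constantCoeff_apply, PowerSeries.coeff_rescale, pow_zero, one_mul,
      PowerSeries.coeff_map, coeff_lamSeries, LambdaOps.lam_zero, map_one]

/-- The λ-structure on `K_e`. -/
@[implicit_reducible]
def ops (he : e ∈ P.pos) : LambdaOps (AdjoinRoot p) where
  lam i x := PowerSeries.coeff i (sig P he x)
  lam_zero x := coeff_zero_sig P he x
  lam_one x := coeff_one_sig P he x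
  lam_add k x y := by
    rw [sig_add, PowerSeries.coeff_mul, Finset.Nat.sum_antidiagonal_eq_sum_range_succ_mk]

theorem sig_of_mul_pow (he : e ∈ P.pos) (c : K) {i : ℕ} (hi : i < (P.aug e).toNat) :
    sig P he (AdjoinRoot.of p c * AdjoinRoot.root p ^ i) =
      PowerSeries.rescale (AdjoinRoot.root p ^ i) (PowerSeries.map (AdjoinRoot.of p) (lamSeries c)) := by
  haveI := nontrivial_of_aug P
  have hcoord : ∀ j, coord P he (AdjoinRoot.of p c * AdjoinRoot.root p ^ i) j = if j = i then c else 0 := by
    intro j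
    rw [coord, ← AdjoinRoot.mk_X, ← map_pow, ← AdjoinRoot.mk_C, ← map_mul, AdjoinRoot.modByMonicHom_mk,
      (Polynomial.modByMonic_eq_self_iff (extPoly_monic P he)).2 ?_, Polynomial.coeff_C_mul_X_pow]
    refine (Polynomial.degree_C_mul_X_pow_le i c).trans_lt ?_
    rw [Polynomial.degree_eq_natDegree (extPoly_monic P he).ne_zero, natDegree_extPoly P he]
    exact_mod_cast hi
  rw [sig, prod_eq_single i]
  · rw [hcoord, if_pos rfl]
  · intro j _ hj
    rw [hcoord, if_neg hj, lamSeries_zero, map_one, map_one]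
  · intro h
    exact absurd (mem_range.2 hi) h

/-- A splitting context: an extension `φ : K → M` in which `e = ∑ u_k`, and an injective
`ν : K_e → S` over `μ : M → S` such that `p / (T - ν ℓ)` splits with roots `w`. -/
structure Ctx (he : e ∈ P.pos) where
  M : PosLambdaRing.{v}
  φ : K →+* M.carrier
  hφ : IsExtension P M.posStr φ
  u : Fin (P.aug e).toNat → M.carrier
  hu : ∀ k, M.posStr.IsLine (u k)
  hue : ∑ k, u k = φ e
  S : Type v
  [cr : CommRing S]
  μ : M.carrier →+* S
  ν : AdjoinRoot p →+* S
  hν : ∀ c, ν (AdjoinRoot.of p c) = μ (φ c)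
  hinj : Function.Injective ν
  hroot : ∏ k, (ν (AdjoinRoot.root p) - μ (u k)) = 0
  w : Multiset S
  hw : ser (ν (AdjoinRoot.root p) ::ₘ w) = ser ((univ : Finset (Fin (P.aug e).toNat)).val.map fun k => μ (u k))
  hcard : Multiset.card w + 1 = (P.aug e).toNat

attribute [instance] Ctx.cr

variable {P}

theorem Ctx.map_lam {he : e ∈ P.pos} (c : Ctx P he) (i : ℕ) :
    c.φ (LambdaOps.lam i e) = ∑ T ∈ (univ : Finset (Fin (P.aug e).toNat)).powersetCard i, ∏ t ∈ T, c.u t := by
  rw [c.hφ.isLambdaHom, ← c.hue, ← Finset.esymm_map_val, ← Finset.sum_map_val,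
    lam_sum_lineLike _ (fun v hv => ?_)]
  obtain ⟨k, -, rfl⟩ := Multiset.mem_map.1 hv
  exact IsLine.lineLike _ (c.hu k)

theorem sum_map_product_aux {R : Type*} [CommRing R] (A B : Multiset R) :
    (A.map fun a => (B.map fun b => a * b).sum).sum = A.sum * B.sum := by
  induction A using Multiset.induction_on with
  | empty => simp
  | cons a A ih => rw [Multiset.map_cons, Multiset.sum_cons, ih, Multiset.sum_cons, add_mul,
      Multiset.sum_map_mul_left, Multiset.map_id']

/-- `f ∈ K` is a sum of lines in the context. -/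
def Ctx.Spl {he : e ∈ P.pos} (c : Ctx P he) (f : K) : Prop :=
  ∃ A : Multiset c.M.carrier, (∀ a ∈ A, c.M.posStr.IsLine a) ∧ A.sum = c.φ f

theorem Ctx.spl_mul {he : e ∈ P.pos} (c : Ctx P he) {f g : K} (hf : c.Spl f) (hg : c.Spl g) :
    c.Spl (f * g) := by
  obtain ⟨A, hA, hAs⟩ := hf
  obtain ⟨B, hB, hBs⟩ := hg
  refine ⟨A.bind fun a => B.map fun b => a * b, fun z hz => ?_, ?_⟩
  · obtain ⟨a, ha, hz⟩ := Multiset.mem_bind.1 hz
    obtain ⟨b, hb, rfl⟩ := Multiset.mem_map.1 hz
    exact IsLine.mul (hA a ha) (hB b hb)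
  · rw [Multiset.sum_bind, map_mul, ← hAs, ← hBs]
    rw [sum_map_product_aux A B]

theorem Ctx.spl_one {he : e ∈ P.pos} (c : Ctx P he) : c.Spl 1 :=
  ⟨{1}, by simp [isLine_one], by simp⟩

theorem Ctx.spl_lam {he : e ∈ P.pos} (c : Ctx P he) (i : ℕ) : c.Spl (LambdaOps.lam i e) := by
  refine ⟨((univ : Finset (Fin (P.aug e).toNat)).powersetCard i).val.map fun T => ∏ t ∈ T, c.u t, ?_, ?_⟩
  · intro a ha
    obtain ⟨T, -, rfl⟩ := Multiset.mem_map.1 ha
    exact Finset.prod_induction _ (fun z => c.M.posStr.IsLine z) (fun _ _ h1 h2 => IsLine.mul h1 h2)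
      (isLine_one _) fun t _ => c.hu t
  · rw [c.map_lam, Finset.sum_map_val]

theorem Ctx.map_sig_of_mul_pow {he : e ∈ P.pos} (c : Ctx P he) (i : ℕ) :
    ∀ (f : K) (A : Multiset c.M.carrier), (∀ a ∈ A, c.M.posStr.IsLine a) → A.sum = c.φ f →
      PowerSeries.map c.ν (sig P he (AdjoinRoot.of p f * AdjoinRoot.root p ^ i)) =
        ser (A.map fun a => c.μ a * c.ν (AdjoinRoot.root p) ^ i) := by
  induction i using Nat.strong_induction_on with
  | _ i ih =>
    intro f A hA hAs
    rcases lt_or_ge i (P.aug e).toNat with hi | hi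
    · rw [sig_of_mul_pow P he f hi, rescale_map, map_pow]
      have : PowerSeries.map c.ν (PowerSeries.map (AdjoinRoot.of p) (lamSeries f)) = ser (A.map c.μ) := by
        rw [← map_ser]
        ext n
        rw [PowerSeries.coeff_map, PowerSeries.coeff_map, PowerSeries.coeff_map, coeff_lamSeries, c.hν,
          c.hφ.isLambdaHom, ← hAs, lam_sum_lineLike A (lineLike_of_forall_isLine hA), coeff_ser]
      rw [this, rescale_ser, Multiset.map_map]
      exact congrArg ser (Multiset.map_congr rfl fun a _ => mul_comm _ _)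
    set m := (P.aug e).toNat with hm
    set z := c.ν (AdjoinRoot.root p) with hz
    set S₀ := (univ : Finset (Fin m)).powerset with hS₀
    let g : Finset (Fin m) → AdjoinRoot p := fun T =>
      AdjoinRoot.of p (f * LambdaOps.lam T.card e) * AdjoinRoot.root p ^ (i - T.card)
    -- the relation, one summand per cardinality
    have hrel : AdjoinRoot.of p f * AdjoinRoot.root p ^ i +
        ∑ s ∈ range (m + 1) with (Even s ∧ s ≠ 0), AdjoinRoot.of p (f * LambdaOps.lam s e) * AdjoinRoot.root p ^ (i - s) =
        ∑ s ∈ range (m + 1) with ¬ Even s, AdjoinRoot.of p (f * LambdaOps.lam s e) * AdjoinRoot.root p ^ (i - s) := by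
      have h0 := Functional.root_relation P e (m := m) rfl
      have h := congrArg (fun y => AdjoinRoot.of p f * AdjoinRoot.root p ^ (i - m) * y) h0
      simp only [mul_zero, mul_sum] at h
      have hterm : ∀ s ∈ range (m + 1), AdjoinRoot.of p f * AdjoinRoot.root p ^ (i - m) *
          (((-1 : K) ^ s * LambdaOps.lam s e) • AdjoinRoot.root p ^ (m - s)) =
          (-1) ^ s * (AdjoinRoot.of p (f * LambdaOps.lam s e) * AdjoinRoot.root p ^ (i - s)) := by
        intro s hs
        simp at hs
        rw [Algebra.smul_def, AdjoinRoot.algebraMap_eq, show i - s = (i - m) + (m - s) by omega, pow_add]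
        simp only [map_mul, map_pow, map_neg, map_one]
        ring
      rw [sum_congr rfl hterm, ← sum_filter_add_sum_filter_not (range (m + 1)) (fun s => Even s)] at h
      have he1 : ∀ s ∈ (range (m + 1)).filter (fun s => Even s),
          (-1) ^ s * (AdjoinRoot.of p (f * LambdaOps.lam s e) * AdjoinRoot.root p ^ (i - s)) =
            AdjoinRoot.of p (f * LambdaOps.lam s e) * AdjoinRoot.root p ^ (i - s) := fun s hs => by
        rw [(mem_filter.1 hs).2.neg_one_pow, one_mul]
      have ho1 : ∀ s ∈ (range (m + 1)).filter (fun s => ¬ Even s),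
          (-1) ^ s * (AdjoinRoot.of p (f * LambdaOps.lam s e) * AdjoinRoot.root p ^ (i - s)) =
            -(AdjoinRoot.of p (f * LambdaOps.lam s e) * AdjoinRoot.root p ^ (i - s)) := fun s hs => by
        rw [(Nat.not_even_iff_odd.1 (mem_filter.1 hs).2).neg_one_pow, neg_one_mul]
      rw [sum_congr rfl he1, sum_congr rfl ho1, sum_neg_distrib, add_neg_eq_zero] at h
      rw [← h, show (range (m + 1)).filter (fun s => Even s) =
        insert 0 ((range (m + 1)).filter (fun s => Even s ∧ s ≠ 0)) by
          ext s; simp only [mem_filter, mem_range, mem_insert]; by_cases hs : s = 0 <;> simp [hs],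
        sum_insert (by simp), LambdaOps.lam_zero, mul_one, Nat.sub_zero]
    have hmul : ∀ (t : Finset ℕ), (∀ s ∈ t, s ≠ 0 ∧ s ≤ m) →
        PowerSeries.map c.ν (sig P he (∑ s ∈ t, AdjoinRoot.of p (f * LambdaOps.lam s e) * AdjoinRoot.root p ^ (i - s))) =
        ∏ s ∈ t, ∏ T ∈ (univ : Finset (Fin m)).powersetCard s,
          ser (A.map fun a => c.μ (a * ∏ k ∈ T, c.u k) * z ^ (i - s)) := by
      intro t ht
      induction t using Finset.induction_on with
      | empty =>
        rw [sum_empty, prod_empty]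
        have h0 := sig_add P he (0 : AdjoinRoot p) 0
        rw [add_zero] at h0
        have hu0 : IsUnit (sig P he (0 : AdjoinRoot p)) := PowerSeries.isUnit_iff_constantCoeff.2 (by
          rw [← PowerSeries.coeff_zero_eq_constantCoeff_apply, coeff_zero_sig]; exact isUnit_one)
        rw [hu0.mul_eq_left.1 h0.symm, map_one]
      | insert s t hs iht =>
        obtain ⟨hs0, hsm⟩ := ht s (by simp)
        rw [sum_insert hs, prod_insert hs, sig_add, map_mul, iht fun s' hs' => ht s' (by simp [hs'])]
        congr 1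
        rw [ih (i - s) (by omega) (f * LambdaOps.lam s e)
          (((univ : Finset (Fin m)).powersetCard s).val.bind fun T => A.map fun a => a * ∏ k ∈ T, c.u k)]
        · rw [ser, Multiset.map_bind, Multiset.map_bind, Multiset.prod_bind, ← Finset.prod_map_val]
          refine congrArg Multiset.prod (Multiset.map_congr rfl fun T _ => ?_)
          rw [ser, Multiset.map_map, Multiset.map_map, Multiset.map_map]
          rfl
        · intro a ha
          obtain ⟨T, -, ha⟩ := Multiset.mem_bind.1 ha
          obtain ⟨b, hb, rfl⟩ := Multiset.mem_map.1 ha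
          exact IsLine.mul (hA b hb) (Finset.prod_induction _ (fun y => c.M.posStr.IsLine y)
            (fun _ _ h1 h2 => IsLine.mul h1 h2) (isLine_one _) fun k _ => c.hu k)
        · rw [Multiset.sum_bind, map_mul, c.map_lam, mul_sum, ← Finset.sum_map_val, ← hAs]
          refine congrArg Multiset.sum (Multiset.map_congr rfl fun T _ => ?_)
          rw [Multiset.sum_map_mul_right, Multiset.map_id']
    have hsplitT : ∀ (q : ℕ → Prop) [DecidablePred q],
        ∏ s ∈ range (m + 1) with q s, ∏ T ∈ (univ : Finset (Fin m)).powersetCard s,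
          ser (A.map fun a => c.μ (a * ∏ k ∈ T, c.u k) * z ^ (i - s)) =
        ∏ T ∈ S₀ with q T.card, ser (A.map fun a => c.μ (a * ∏ k ∈ T, c.u k) * z ^ (i - T.card)) := by
      intro q _
      rw [prod_sigma']
      refine prod_bij' (fun x _ => x.2) (fun T _ => ⟨T.card, T⟩) ?_ ?_ ?_ ?_ ?_
      · intro x hx
        simp at hx
        simp [hS₀, hx.2, hx.1.2]
      · intro T hT
        simp [hS₀] at hT
        have hle : T.card ≤ m := by simpa using Finset.card_le_univ T
        simp [hT]
        omega
      · rintro ⟨s, T⟩ hx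
        simp at hx
        obtain ⟨-, rfl⟩ := hx
        rfl
      · intro T hT; rfl
      · rintro ⟨s, T⟩ hx
        simp at hx
        obtain ⟨-, rfl⟩ := hx
        rfl
    have h := congrArg (fun y => PowerSeries.map c.ν (sig P he y)) hrel
    simp only [sig_add] at h
    rw [map_mul (PowerSeries.map c.ν)] at h
    rw [hmul _ (fun s hs => by simp at hs; exact ⟨hs.2.2, by omega⟩),
      hmul _ (fun s hs => by simp at hs; exact ⟨fun h0 => (Nat.not_even_iff_odd.2 hs.2) (h0 ▸ Even.zero), by omega⟩),
      hsplitT, hsplitT] at h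
    have key : ser (A.map fun a => c.μ a * z ^ i) *
        (∏ T ∈ S₀ with (Even T.card ∧ T.card ≠ 0), ser (A.map fun a => c.μ (a * ∏ k ∈ T, c.u k) * z ^ (i - T.card))) =
        ∏ T ∈ S₀ with ¬ Even T.card, ser (A.map fun a => c.μ (a * ∏ k ∈ T, c.u k) * z ^ (i - T.card)) := by
      have e1 : ser (A.map fun a => c.μ a * z ^ i) *
          (∏ T ∈ S₀ with (Even T.card ∧ T.card ≠ 0), ser (A.map fun a => c.μ (a * ∏ k ∈ T, c.u k) * z ^ (i - T.card))) =
          ∏ T ∈ S₀ with Even T.card, ser (A.map fun a => c.μ (a * ∏ k ∈ T, c.u k) * z ^ (i - T.card)) := by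
        rw [show S₀.filter (fun T => Even T.card) =
          insert (∅ : Finset (Fin m)) (S₀.filter (fun T => Even T.card ∧ T.card ≠ 0)) by
            ext T; simp only [hS₀, mem_filter, mem_powerset, subset_univ, true_and, mem_insert]
            by_cases hT : T = ∅ <;> simp [hT],
          prod_insert (by simp)]
        simp
      rw [e1]
      simp only [ser, Multiset.map_map, Function.comp_def]
      rw [← Finset.prod_map_val, ← Finset.prod_map_val, Multiset.prod_map_prod_map, Multiset.prod_map_prod_map (filter _ S₀).val]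
      refine congrArg Multiset.prod (Multiset.map_congr rfl fun a _ => ?_)
      have heo := even_eq_odd (fun k => c.μ (c.u k)) (c.μ a * z ^ (i - m)) z c.hroot
      have hterm : ∀ T : Finset (Fin m), c.μ (a * ∏ k ∈ T, c.u k) * z ^ (i - T.card) =
          c.μ a * z ^ (i - m) * (∏ k ∈ T, c.μ (c.u k)) * z ^ (m - T.card) := by
        intro T
        have hle : T.card ≤ m := by simpa using Finset.card_le_univ T
        rw [map_mul, map_prod, show i - T.card = (i - m) + (m - T.card) by omega, pow_add]
        ring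
      simp only [hterm]
      exact heo
    have hunit : IsUnit (∏ T ∈ S₀ with (Even T.card ∧ T.card ≠ 0),
        ser (A.map fun a => c.μ (a * ∏ k ∈ T, c.u k) * z ^ (i - T.card))) :=
      IsUnit.prod_iff.2 fun T _ => isUnit_ser _
    exact hunit.mul_right_cancel (h.trans key.symm)


/-- Sums of `o(f) ℓ^i` with `f` split in the context. -/
def Ctx.sub {he : e ∈ P.pos} (c : Ctx P he) : AddSubgroup (AdjoinRoot p) :=
  AddSubgroup.closure {x | ∃ (f : K) (i : ℕ), c.Spl f ∧ x = AdjoinRoot.of p f * AdjoinRoot.root p ^ i}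

theorem Ctx.gen_mem {he : e ∈ P.pos} (c : Ctx P he) {f : K} (hf : c.Spl f) (i : ℕ) :
    AdjoinRoot.of p f * AdjoinRoot.root p ^ i ∈ c.sub :=
  AddSubgroup.subset_closure ⟨f, i, hf, rfl⟩

theorem Ctx.sub_mul {he : e ∈ P.pos} (c : Ctx P he) {x y : AdjoinRoot p} (hx : x ∈ c.sub)
    (hy : y ∈ c.sub) : x * y ∈ c.sub := by
  suffices c.sub ≤ c.sub.comap (AddMonoidHom.mulRight y) from this hx
  rw [Ctx.sub, AddSubgroup.closure_le]
  rintro _ ⟨f, i, hf, rfl⟩
  show AdjoinRoot.of p f * AdjoinRoot.root p ^ i * y ∈ c.sub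
  suffices c.sub ≤ c.sub.comap (AddMonoidHom.mulLeft (AdjoinRoot.of p f * AdjoinRoot.root p ^ i)) from this hy
  rw [Ctx.sub, AddSubgroup.closure_le]
  rintro _ ⟨g, j, hg, rfl⟩
  show AdjoinRoot.of p f * AdjoinRoot.root p ^ i * (AdjoinRoot.of p g * AdjoinRoot.root p ^ j) ∈ c.sub
  rw [show AdjoinRoot.of p f * AdjoinRoot.root p ^ i * (AdjoinRoot.of p g * AdjoinRoot.root p ^ j) =
    AdjoinRoot.of p (f * g) * AdjoinRoot.root p ^ (i + j) by rw [map_mul, pow_add]; ring]
  exact c.gen_mem (c.spl_mul hf hg) _

theorem sig_zero (he : e ∈ P.pos) : sig P he (0 : AdjoinRoot p) = 1 := by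
  have h0 := sig_add P he (0 : AdjoinRoot p) 0
  rw [add_zero] at h0
  have hu0 : IsUnit (sig P he (0 : AdjoinRoot p)) := PowerSeries.isUnit_iff_constantCoeff.2 (by
    rw [← PowerSeries.coeff_zero_eq_constantCoeff_apply, coeff_zero_sig]; exact isUnit_one)
  exact hu0.mul_eq_left.1 h0.symm

theorem isUnit_sig (he : e ∈ P.pos) (x : AdjoinRoot p) : IsUnit (sig P he x) :=
  PowerSeries.isUnit_iff_constantCoeff.2 (by
    rw [← PowerSeries.coeff_zero_eq_constantCoeff_apply, coeff_zero_sig]; exact isUnit_one)

theorem Ctx.map_rescale_prod {he : e ∈ P.pos} (c : Ctx P he) (A : Multiset c.S) (x y : AdjoinRoot p) :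
    (A.map fun a => PowerSeries.rescale a (PowerSeries.map c.ν (sig P he (x + y)))).prod =
      (A.map fun a => PowerSeries.rescale a (PowerSeries.map c.ν (sig P he x))).prod *
        (A.map fun a => PowerSeries.rescale a (PowerSeries.map c.ν (sig P he y))).prod := by
  rw [← Multiset.prod_map_mul]
  simp only [sig_add, map_mul]

theorem Ctx.map_rescale_zero {he : e ∈ P.pos} (c : Ctx P he) (A : Multiset c.S) :
    (A.map fun a => PowerSeries.rescale a (PowerSeries.map c.ν (sig P he (0 : AdjoinRoot p)))).prod = 1 := by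
  simp [sig_zero]

/-- Multiplication by `o(f) ℓ^i` on `λ_t`, on the span. -/
theorem Ctx.map_sig_mul_gen {he : e ∈ P.pos} (c : Ctx P he) {f : K} {A : Multiset c.M.carrier}
    (hA : ∀ a ∈ A, c.M.posStr.IsLine a) (hAs : A.sum = c.φ f) (i : ℕ) {z : AdjoinRoot p}
    (hz : z ∈ c.sub) :
    PowerSeries.map c.ν (sig P he (AdjoinRoot.of p f * AdjoinRoot.root p ^ i * z)) =
      ((A.map fun a => c.μ a * c.ν (AdjoinRoot.root p) ^ i).map
        fun a => PowerSeries.rescale a (PowerSeries.map c.ν (sig P he z))).prod := by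
  induction hz using AddSubgroup.closure_induction with
  | mem z hz =>
    obtain ⟨g, j, ⟨B, hB, hBs⟩, rfl⟩ := hz
    rw [show AdjoinRoot.of p f * AdjoinRoot.root p ^ i * (AdjoinRoot.of p g * AdjoinRoot.root p ^ j) =
      AdjoinRoot.of p (f * g) * AdjoinRoot.root p ^ (i + j) by rw [map_mul, pow_add]; ring,
      c.map_sig_of_mul_pow (i + j) (f * g) (A.bind fun a => B.map fun b => a * b),
      c.map_sig_of_mul_pow j g B hB hBs]
    · simp only [rescale_ser, Multiset.map_map]
      rw [ser, Multiset.map_bind, Multiset.map_bind, Multiset.prod_bind]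
      refine congrArg Multiset.prod (Multiset.map_congr rfl fun a _ => ?_)
      simp only [ser, Function.comp_apply, Multiset.map_map]
      refine congrArg Multiset.prod (Multiset.map_congr rfl fun b _ => ?_)
      simp only [Function.comp_apply, map_mul, pow_add]
      ring_nf
    · intro a ha
      obtain ⟨a', ha', ha⟩ := Multiset.mem_bind.1 ha
      obtain ⟨b, hb, rfl⟩ := Multiset.mem_map.1 ha
      exact IsLine.mul (hA a' ha') (hB b hb)
    · rw [Multiset.sum_bind, map_mul, ← hAs, ← hBs, sum_map_product_aux A B]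
  | zero => rw [mul_zero, sig_zero, map_one]; simp
  | add x y _ _ hx hy => rw [mul_add, sig_add, map_mul, hx, hy, c.map_rescale_prod]
  | neg x _ hx =>
    refine ((isUnit_sig he (AdjoinRoot.of p f * AdjoinRoot.root p ^ i * x)).map (PowerSeries.map c.ν)).mul_left_cancel ?_
    conv_rhs => rw [hx]
    rw [← map_mul, ← sig_add, ← c.map_rescale_prod, mul_neg, add_neg_cancel, add_neg_cancel, sig_zero,
      map_one]
    simp

/-- `x` lies in the span and behaves as a sum of `n` line elements `A`. -/
def Ctx.Good {he : e ∈ P.pos} (c : Ctx P he) (x : AdjoinRoot p) (A : Multiset c.S) : Prop :=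
  x ∈ c.sub ∧ PowerSeries.map c.ν (sig P he x) = ser A

theorem Ctx.good_gen {he : e ∈ P.pos} (c : Ctx P he) {f : K} {A : Multiset c.M.carrier}
    (hA : ∀ a ∈ A, c.M.posStr.IsLine a) (hAs : A.sum = c.φ f) (i : ℕ) :
    c.Good (AdjoinRoot.of p f * AdjoinRoot.root p ^ i) (A.map fun a => c.μ a * c.ν (AdjoinRoot.root p) ^ i) :=
  ⟨c.gen_mem ⟨A, hA, hAs⟩ i, c.map_sig_of_mul_pow i f A hA hAs⟩

theorem Ctx.good_add {he : e ∈ P.pos} (c : Ctx P he) {x y : AdjoinRoot p} {A B : Multiset c.S}
    (hx : c.Good x A) (hy : c.Good y B) : c.Good (x + y) (A + B) :=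
  ⟨add_mem hx.1 hy.1, by rw [sig_add, map_mul, hx.2, hy.2, ser_add]⟩

theorem Ctx.good_mul {he : e ∈ P.pos} (c : Ctx P he) {x y : AdjoinRoot p} {A B : Multiset c.S}
    (hx : c.Good x A) (hy : c.Good y B) : c.Good (x * y) (B.bind fun b => A.map fun a => b * a) := by
  refine ⟨c.sub_mul hx.1 hy.1, ?_⟩
  have key : ∀ z ∈ c.sub, PowerSeries.map c.ν (sig P he (z * y)) =
      (B.map fun b => PowerSeries.rescale b (PowerSeries.map c.ν (sig P he z))).prod := by
    intro z hz
    induction hz using AddSubgroup.closure_induction with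
    | mem z hz =>
      obtain ⟨f, i, ⟨C, hC, hCs⟩, rfl⟩ := hz
      rw [c.map_sig_mul_gen hC hCs i hy.1, hy.2, c.map_sig_of_mul_pow i f C hC hCs]
      simp only [rescale_ser]
      simp only [ser, Multiset.map_map, Function.comp_def]
      rw [Multiset.prod_map_prod_map]
      refine congrArg Multiset.prod (Multiset.map_congr rfl fun b _ => ?_)
      refine congrArg Multiset.prod (Multiset.map_congr rfl fun a _ => ?_)
      rw [mul_comm b]
    | zero => rw [zero_mul, sig_zero, map_one]; simp
    | add a b _ _ ha hb => rw [add_mul, sig_add, map_mul, ha, hb, c.map_rescale_prod]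
    | neg a _ ha =>
      refine ((isUnit_sig he (a * y)).map (PowerSeries.map c.ν)).mul_left_cancel ?_
      conv_rhs => rw [ha]
      rw [← map_mul, ← sig_add, ← c.map_rescale_prod, neg_mul, add_neg_cancel, add_neg_cancel, sig_zero,
        map_one]
      simp
  rw [key x hx.1, hx.2]
  simp only [rescale_ser]
  rw [ser, Multiset.map_bind, Multiset.prod_bind]
  rfl

theorem Ctx.good_root {he : e ∈ P.pos} (c : Ctx P he) :
    c.Good (AdjoinRoot.root p) {c.ν (AdjoinRoot.root p)} := by
  simpa using c.good_gen (f := (1 : K)) (A := {1}) (by simp [isLine_one]) (by simp) 1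

theorem Ctx.good_e_sub {he : e ∈ P.pos} (c : Ctx P he) :
    c.Good (AdjoinRoot.of p e - AdjoinRoot.root p) c.w := by
  have hge := c.good_gen (f := e) (A := (univ : Finset (Fin (P.aug e).toNat)).val.map c.u)
    (fun a ha => by
      obtain ⟨k, -, rfl⟩ := Multiset.mem_map.1 ha
      exact c.hu k)
    (by rw [Finset.sum_map_val, c.hue]) 0
  simp only [pow_zero, mul_one, Multiset.map_map, Function.comp_def] at hge
  have hr := c.good_root
  refine ⟨sub_mem hge.1 hr.1, ?_⟩
  refine ((isUnit_sig he (AdjoinRoot.root p)).map (PowerSeries.map c.ν)).mul_left_cancel ?_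
  rw [← map_mul, ← sig_add, add_sub_cancel, hge.2, hr.2, ← ser_add, Multiset.singleton_add, c.hw]

theorem of_injective {R : Type v} [CommRing R] [Nontrivial R] {q : Polynomial R} (hq : q.Monic)
    (hd : q.natDegree ≠ 0) : Function.Injective (AdjoinRoot.of q) := by
  rw [injective_iff_map_eq_zero]
  intro c hc
  rw [← AdjoinRoot.mk_C, AdjoinRoot.mk_eq_zero, ← Polynomial.modByMonic_eq_zero_iff_dvd hq,
    (Polynomial.modByMonic_eq_self_iff hq).2 ?_, Polynomial.C_eq_zero] at hc
  · exact hc
  · refine (Polynomial.degree_C_le).trans_lt ?_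
    rw [Polynomial.degree_eq_natDegree hq.ne_zero]
    exact_mod_cast Nat.pos_of_ne_zero hd

theorem exists_split_poly : ∀ (n : ℕ) (R : Type v) [CommRing R] (q : Polynomial R), q.Monic →
    q.natDegree = n → ∃ (S : Type v) (_ : CommRing S) (f : R →+* S), Function.Injective f ∧
      ∃ w : Multiset S, Multiset.card w = n ∧ q.map f = (w.map fun a => Polynomial.X - Polynomial.C a).prod := by
  intro n
  induction n with
  | zero =>
    intro R _ q hq hn
    exact ⟨R, inferInstance, RingHom.id R, Function.injective_id, 0, rfl,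
      by simp [hq.natDegree_eq_zero.1 hn]⟩
  | succ n ih =>
    intro R _ q hq hn
    rcases subsingleton_or_nontrivial R with hs | hs
    · rw [Subsingleton.elim q 1, Polynomial.natDegree_one] at hn
      omega
    have hinj : Function.Injective (AdjoinRoot.of q) := of_injective hq (by omega)
    haveI : Nontrivial (AdjoinRoot q) := hinj.nontrivial
    set q₁ := q.map (AdjoinRoot.of q) /ₘ (Polynomial.X - Polynomial.C (AdjoinRoot.root q)) with hq₁
    have hdiv : (Polynomial.X - Polynomial.C (AdjoinRoot.root q)) * q₁ = q.map (AdjoinRoot.of q) :=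
      Polynomial.mul_divByMonic_eq_iff_isRoot.2 (by
        rw [Polynomial.IsRoot, Polynomial.eval_map]; exact AdjoinRoot.eval₂_root q)
    have hm₁ : q₁.Monic := (Polynomial.monic_X_sub_C _).of_mul_monic_left (hdiv ▸ hq.map _)
    have hd₁ : q₁.natDegree = n := by
      have := congrArg Polynomial.natDegree hdiv
      rw [(Polynomial.monic_X_sub_C _).natDegree_mul hm₁, Polynomial.natDegree_X_sub_C,
        hq.natDegree_map, hn] at this
      omega
    obtain ⟨S, _, g, hg, w, hwc, hw⟩ := ih (AdjoinRoot q) q₁ hm₁ hd₁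
    refine ⟨S, inferInstance, g.comp (AdjoinRoot.of q), hg.comp hinj, g (AdjoinRoot.root q) ::ₘ w,
      by simp [hwc], ?_⟩
    rw [← Polynomial.map_map, ← hdiv, Polynomial.map_mul, hw]
    simp

theorem exists_ctx (hK : HasSplitting K P) (he : e ∈ P.pos) (l : List K) (hl : ∀ f ∈ l, f ∈ P.pos) :
    ∃ c : Ctx P he, ∀ f ∈ l, c.Spl f := by
  obtain ⟨M, φ, -, hφ, hs⟩ := exists_split hK (e :: l) (by simp [he]; exact hl)
  obtain ⟨s, hsl, hse⟩ := hs e (by simp)
  have hcard := card_eq_toNat_aug hφ hsl hse
  set m := (P.aug e).toNat with hm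
  have hm1 : 1 ≤ m := by have := P.aug_pos e he; omega
  obtain ⟨u, hue⟩ : ∃ u : Fin m → M.carrier, (univ : Finset (Fin m)).val.map u = s := by
    have hlen : m = s.toList.length := by simp [hcard]
    refine ⟨fun i => s.toList.get (i.cast hlen), ?_⟩
    conv_rhs => rw [← Multiset.coe_toList s]
    rw [Fin.univ_val_map, ← List.ofFn_congr hlen.symm, List.ofFn_get]
  have hul : ∀ k, M.posStr.IsLine (u k) := fun k => hsl _ (hue ▸ Multiset.mem_map.2 ⟨k, Finset.mem_univ k, rfl⟩)
  have hlam : ∀ i, φ (LambdaOps.lam i e) = s.esymm i := fun i => by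
    rw [hφ.isLambdaHom, ← hse, lam_sum_lineLike s (lineLike_of_forall_isLine hsl)]
  have hpL : (KRR.extPoly P e).map φ = ResidueChange.prodLin u := by
    have hmm : (univ : Finset (Fin m)).val.map (fun k => Polynomial.X - Polynomial.C (u k)) =
        s.map fun t => Polynomial.X - Polynomial.C t := by rw [← hue, Multiset.map_map]; rfl
    rw [ResidueChange.prodLin, ← Finset.prod_map_val, hmm, Multiset.prod_X_sub_X_eq_sum_esymm, hcard,
      KRR.extPoly, ← hm, Polynomial.map_sum]
    refine sum_congr rfl fun i _ => ?_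
    rw [Polynomial.map_mul, Polynomial.map_C, Polynomial.map_pow, Polynomial.map_X, map_mul, map_pow,
      map_neg, map_one, hlam, map_mul, map_pow, map_neg, map_one, mul_assoc]
  haveI := nontrivial_of_aug M.posStr
  set pL := ResidueChange.prodLin u with hpLdef
  have hpLm : pL.Monic := ResidueChange.monic_prodLin u
  have hpLd : pL.natDegree = m := by
    rw [hpLdef, ResidueChange.prodLin, Polynomial.natDegree_prod_of_monic _ _ fun k _ => Polynomial.monic_X_sub_C (u k)]
    simp
  let b : AdjoinRoot p →+* AdjoinRoot pL :=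
    AdjoinRoot.lift ((AdjoinRoot.of pL).comp φ) (AdjoinRoot.root pL) (by
      rw [← Polynomial.eval₂_map, hpL]; exact AdjoinRoot.eval₂_root pL)
  have hb_mk : ∀ h : Polynomial K, b (AdjoinRoot.mk p h) = AdjoinRoot.mk pL (h.map φ) := by
    intro h
    induction h using Polynomial.induction_on' with
    | add a c ha hc => simp only [map_add, Polynomial.map_add, ha, hc]
    | monomial i c =>
      rw [Polynomial.map_monomial, ← Polynomial.C_mul_X_pow_eq_monomial,
        ← Polynomial.C_mul_X_pow_eq_monomial]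
      simp [b, AdjoinRoot.lift_of, AdjoinRoot.lift_root]
  have hbinj : Function.Injective b := by
    intro x y hxy
    obtain ⟨f, rfl⟩ := AdjoinRoot.mk_surjective x
    obtain ⟨g, rfl⟩ := AdjoinRoot.mk_surjective y
    rw [hb_mk, hb_mk, AdjoinRoot.mk_eq_mk, ← Polynomial.map_sub,
      ← Polynomial.modByMonic_eq_zero_iff_dvd hpLm, ← hpL, ← Polynomial.map_modByMonic φ (extPoly_monic P he),
      Polynomial.map_eq_zero_iff hφ.injective, Polynomial.modByMonic_eq_zero_iff_dvd (extPoly_monic P he)] at hxy
    exact AdjoinRoot.mk_eq_mk.2 hxy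
  set q₁ := pL.map (AdjoinRoot.of pL) /ₘ (Polynomial.X - Polynomial.C (AdjoinRoot.root pL)) with hq₁
  have hdiv : (Polynomial.X - Polynomial.C (AdjoinRoot.root pL)) * q₁ = pL.map (AdjoinRoot.of pL) :=
    Polynomial.mul_divByMonic_eq_iff_isRoot.2 (by
      rw [Polynomial.IsRoot, Polynomial.eval_map]; exact AdjoinRoot.eval₂_root pL)
  have hofinj : Function.Injective (AdjoinRoot.of pL) := of_injective hpLm (by omega)
  haveI : Nontrivial (AdjoinRoot pL) := hofinj.nontrivial
  have hm₁ : q₁.Monic := (Polynomial.monic_X_sub_C _).of_mul_monic_left (hdiv ▸ hpLm.map _)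
  have hd₁ : q₁.natDegree = m - 1 := by
    have := congrArg Polynomial.natDegree hdiv
    rw [(Polynomial.monic_X_sub_C _).natDegree_mul hm₁, Polynomial.natDegree_X_sub_C,
      hpLm.natDegree_map, hpLd] at this
    omega
  obtain ⟨S, _, g, hg, w, hwc, hw⟩ := exists_split_poly (m - 1) (AdjoinRoot pL) q₁ hm₁ hd₁
  have hgpL : pL.map (g.comp (AdjoinRoot.of pL)) =
      ResidueChange.prodLin (fun k => g (AdjoinRoot.of pL (u k))) :=
    ResidueChange.map_prodLin (g.comp (AdjoinRoot.of pL)) u
  have hprod : ((g (AdjoinRoot.root pL) ::ₘ w).map fun a => Polynomial.X - Polynomial.C a).prod =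
      (((univ : Finset (Fin m)).val.map fun k => g (AdjoinRoot.of pL (u k))).map fun a => Polynomial.X - Polynomial.C a).prod := by
    rw [Multiset.map_cons, Multiset.prod_cons, ← hw, Multiset.map_map]
    have := congrArg (Polynomial.map g) hdiv
    rw [Polynomial.map_mul, Polynomial.map_sub, Polynomial.map_X, Polynomial.map_C] at this
    rw [this, Polynomial.map_map, hgpL, ResidueChange.prodLin, ← Finset.prod_map_val]
    exact congrArg Multiset.prod (Multiset.map_congr rfl fun k _ => by simp)
  refine ⟨{ M := M, φ := φ, hφ := hφ, u := u, hu := hul,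
            hue := by rw [← Finset.sum_map_val, hue, hse]
            S := S, μ := g.comp (AdjoinRoot.of pL), ν := g.comp b,
            hν := fun c => congrArg g (AdjoinRoot.lift_of _), hinj := hg.comp hbinj,
            hroot := ?_, w := w, hw := ?_, hcard := by rw [hwc]; omega }, fun f hf => ?_⟩
  · have h := congrArg g (AdjoinRoot.eval₂_root pL)
    rw [Polynomial.hom_eval₂, ← Polynomial.eval_map, hgpL, ResidueChange.prodLin, Polynomial.eval_prod,
      map_zero] at h
    simpa [b, AdjoinRoot.lift_root] using h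
  · have hbr : g.comp b (AdjoinRoot.root p) = g (AdjoinRoot.root pL) := congrArg g (AdjoinRoot.lift_root _)
    rw [hbr]
    ext n
    rw [coeff_ser, coeff_ser]
    set A := g (AdjoinRoot.root pL) ::ₘ w with hA
    have hAc : Multiset.card A = m := by rw [hA, Multiset.card_cons, hwc]; omega
    have hBc : Multiset.card ((univ : Finset (Fin m)).val.map fun k => g (AdjoinRoot.of pL (u k))) = m := by simp
    rcases lt_or_ge m n with hn | hn
    · rw [esymm_eq_zero_of_card_lt _ (by omega), esymm_eq_zero_of_card_lt]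
      exact hBc.trans_lt hn
    · have h1 := congrArg (fun q : Polynomial S => q.coeff (m - n)) hprod
      rw [Multiset.prod_X_sub_C_coeff _ (by omega), Multiset.prod_X_sub_C_coeff _ (by omega), hAc, hBc,
        show m - (m - n) = n by omega] at h1
      exact (isUnit_one.neg.pow n).mul_left_cancel h1
  · obtain ⟨t, ht, hts⟩ := hs f (by simp [hf])
    exact ⟨t, ht, hts⟩

theorem prod_map_product_aux {R : Type*} [CommRing R] (A B : Multiset R) :
    (B.map fun b => (A.map fun a => b * a).prod).prod =
      A.prod ^ Multiset.card B * B.prod ^ Multiset.card A := by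
  induction B using Multiset.induction_on with
  | empty => simp
  | cons b B ih =>
    rw [Multiset.map_cons, Multiset.prod_cons, ih, Multiset.prod_cons, Multiset.card_cons, pow_succ,
      mul_pow, Multiset.prod_map_mul, Multiset.map_const', Multiset.prod_replicate, Multiset.map_id']
    ring

variable (P) in
/-- The generators of the positive elements of `K_e`. -/
def posGen (e : K) : Set (AdjoinRoot (KRR.extPoly P e)) :=
  (AdjoinRoot.of (KRR.extPoly P e) '' P.pos ∪ {AdjoinRoot.root (KRR.extPoly P e)}) ∪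
    {x | 2 ≤ P.aug e ∧ x = AdjoinRoot.of (KRR.extPoly P e) e - AdjoinRoot.root (KRR.extPoly P e)}

variable (P) in
/-- The positive elements of `K_e`. -/
def posSet (e : K) : AddSubsemigroup (AdjoinRoot (KRR.extPoly P e)) :=
  AddSubsemigroup.closure (Submonoid.closure (posGen P e) : Set (AdjoinRoot (KRR.extPoly P e)))

theorem posSet_mul {x y : AdjoinRoot p} (hx : x ∈ posSet P e) (hy : y ∈ posSet P e) :
    x * y ∈ posSet P e := by
  induction hx using AddSubsemigroup.closure_induction with
  | mem a ha =>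
    induction hy using AddSubsemigroup.closure_induction with
    | mem b hb => exact AddSubsemigroup.subset_closure (mul_mem ha hb)
    | add b c _ _ hb hc => rw [mul_add]; exact add_mem hb hc
  | add a b _ _ ha hb => rw [add_mul]; exact add_mem ha hb

/-- The augmentation of `K_e`. -/
def augE (hK : HasSplitting K P) (he : e ∈ P.pos) : AdjoinRoot p →+* ℤ :=
  AdjoinRoot.lift P.aug 1 (by
    have hm : 1 ≤ (P.aug e).toNat := by have := P.aug_pos e he; omega
    rw [KRR.extPoly, Polynomial.eval₂_finsetSum]
    simp only [Polynomial.eval₂_mul, Polynomial.eval₂_C, Polynomial.eval₂_X_pow, one_pow, mul_one,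
      Polynomial.eval₂_pow, Polynomial.eval₂_neg, Polynomial.eval₂_one, Polynomial.eval₂_X,
      map_mul, map_pow, map_neg, map_one, aug_lam_of_split hK he]
    have := Int.alternating_sum_range_choose (n := (P.aug e).toNat)
    rw [if_neg (by omega)] at this
    exact this)

/-- What holds of every positive element. -/
def Nice (hK : HasSplitting K P) (he : e ∈ P.pos) (x : AdjoinRoot p) : Prop :=
  ∃ n : ℕ, augE hK he x = n ∧ 0 < n ∧ IsUnit (PowerSeries.coeff n (sig P he x)) ∧
    ∃ l : List K, (∀ f ∈ l, f ∈ P.pos) ∧ ∀ c : Ctx P he, (∀ f ∈ l, c.Spl f) →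
      ∃ A : Multiset c.S, c.Good x A ∧ Multiset.card A = n

theorem coeff_card_eq {he : e ∈ P.pos} (c : Ctx P he) {x : AdjoinRoot p} {A : Multiset c.S}
    (h : c.Good x A) : c.ν (PowerSeries.coeff (Multiset.card A) (sig P he x)) = A.prod := by
  rw [← PowerSeries.coeff_map, h.2, coeff_ser, esymm_card_eq_prod]

theorem nice_add (hK : HasSplitting K P) (he : e ∈ P.pos) {x y : AdjoinRoot p} (hx : Nice hK he x)
    (hy : Nice hK he y) : Nice hK he (x + y) := by
  obtain ⟨n, hn, hn0, hu, l, hl, hc⟩ := hx
  obtain ⟨m, hm, -, hv, l', hl', hc'⟩ := hy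
  have hll : ∀ f ∈ l ++ l', f ∈ P.pos := fun f hf => (List.mem_append.1 hf).elim (hl f) (hl' f)
  refine ⟨n + m, by rw [map_add, hn, hm]; push_cast; ring, by omega, ?_, l ++ l', hll, fun c h => ?_⟩
  · obtain ⟨c, h⟩ := exists_ctx hK he _ hll
    obtain ⟨A, hA, rfl⟩ := hc c fun f hf => h f (List.mem_append_left _ hf)
    obtain ⟨B, hB, rfl⟩ := hc' c fun f hf => h f (List.mem_append_right _ hf)
    have := c.hinj (a₁ := PowerSeries.coeff (Multiset.card A + Multiset.card B) (sig P he (x + y)))
      (a₂ := PowerSeries.coeff (Multiset.card A) (sig P he x) * PowerSeries.coeff (Multiset.card B) (sig P he y)) (by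
      rw [map_mul, coeff_card_eq c hA, coeff_card_eq c hB, ← Multiset.card_add, coeff_card_eq c (c.good_add hA hB),
        Multiset.prod_add])
    rw [this]
    exact hu.mul hv
  · obtain ⟨A, hA, rfl⟩ := hc c fun f hf => h f (List.mem_append_left _ hf)
    obtain ⟨B, hB, rfl⟩ := hc' c fun f hf => h f (List.mem_append_right _ hf)
    exact ⟨A + B, c.good_add hA hB, Multiset.card_add A B⟩

theorem nice_mul (hK : HasSplitting K P) (he : e ∈ P.pos) {x y : AdjoinRoot p} (hx : Nice hK he x)
    (hy : Nice hK he y) : Nice hK he (x * y) := by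
  obtain ⟨n, hn, hn0, hu, l, hl, hc⟩ := hx
  obtain ⟨m, hm, hm0, hv, l', hl', hc'⟩ := hy
  have hll : ∀ f ∈ l ++ l', f ∈ P.pos := fun f hf => (List.mem_append.1 hf).elim (hl f) (hl' f)
  have hcardmul : ∀ {S : Type v} [CommRing S] (A B : Multiset S),
      Multiset.card (B.bind fun b => A.map fun a => b * a) = Multiset.card A * Multiset.card B := by
    intro S _ A B
    simp [Multiset.card_bind, mul_comm]
  refine ⟨n * m, by rw [map_mul, hn, hm]; push_cast; ring, Nat.mul_pos hn0 hm0, ?_, l ++ l', hll, fun c h => ?_⟩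
  · obtain ⟨c, h⟩ := exists_ctx hK he _ hll
    obtain ⟨A, hA, rfl⟩ := hc c fun f hf => h f (List.mem_append_left _ hf)
    obtain ⟨B, hB, rfl⟩ := hc' c fun f hf => h f (List.mem_append_right _ hf)
    have := c.hinj (a₁ := PowerSeries.coeff (Multiset.card A * Multiset.card B) (sig P he (x * y)))
      (a₂ := PowerSeries.coeff (Multiset.card A) (sig P he x) ^ Multiset.card B *
        PowerSeries.coeff (Multiset.card B) (sig P he y) ^ Multiset.card A) (by
      rw [map_mul, map_pow, map_pow, coeff_card_eq c hA, coeff_card_eq c hB, ← hcardmul A B,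
        coeff_card_eq c (c.good_mul hA hB), Multiset.prod_bind]
      exact prod_map_product_aux A B)
    rw [this]
    exact (hu.pow _).mul (hv.pow _)
  · obtain ⟨A, hA, rfl⟩ := hc c fun f hf => h f (List.mem_append_left _ hf)
    obtain ⟨B, hB, rfl⟩ := hc' c fun f hf => h f (List.mem_append_right _ hf)
    exact ⟨_, c.good_mul hA hB, hcardmul A B⟩

theorem nice_of (hK : HasSplitting K P) (he : e ∈ P.pos) {f : K} (hf : f ∈ P.pos) :
    Nice hK he (AdjoinRoot.of p f) := by
  refine ⟨(P.aug f).toNat, by rw [augE, AdjoinRoot.lift_of]; exact (toNat_aug_cast P hf).symm,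
    by have := P.aug_pos f hf; omega, ?_, [f], by simp [hf], fun c h => ?_⟩
  · have hm : 0 < (P.aug e).toNat := by have := P.aug_pos e he; omega
    have h := sig_of_mul_pow P he f hm
    rw [pow_zero, mul_one, PowerSeries.rescale_one] at h
    rw [h, RingHom.id_apply, PowerSeries.coeff_map, coeff_lamSeries]
    exact (P.isUnit_lam f hf).map _
  · obtain ⟨A, hA, hAs⟩ := h f (by simp)
    refine ⟨_, by simpa using c.good_gen hA hAs 0, ?_⟩
    rw [Multiset.card_map, card_eq_toNat_aug c.hφ hA hAs]

theorem nice_root (hK : HasSplitting K P) (he : e ∈ P.pos) : Nice hK he (AdjoinRoot.root p) := by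
  refine ⟨1, by rw [augE, AdjoinRoot.lift_root]; rfl, one_pos, ?_, [], by simp, fun c _ =>
    ⟨_, c.good_root, by simp⟩⟩
  rw [coeff_one_sig]
  exact Functional.root_isUnit P he (r := (P.aug e).toNat - 1) (by have := P.aug_pos e he; omega)

theorem nice_e_sub (hK : HasSplitting K P) (he : e ∈ P.pos) (h2 : 2 ≤ P.aug e) :
    Nice hK he (AdjoinRoot.of p e - AdjoinRoot.root p) := by
  have hn := toNat_aug_cast P he
  refine ⟨(P.aug e).toNat - 1, ?_, by omega, ?_, [], by simp, fun c _ =>
    ⟨c.w, c.good_e_sub, by have := c.hcard; omega⟩⟩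
  · rw [map_sub, augE, AdjoinRoot.lift_of, AdjoinRoot.lift_root]; omega
  obtain ⟨c, -⟩ := exists_ctx hK he [] (by simp)
  obtain ⟨k, hk, -, hu, l, hl, -⟩ := nice_of hK he he
  have hke : k = (P.aug e).toNat := by
    rw [augE, AdjoinRoot.lift_of] at hk; omega
  refine isUnit_of_mul_isUnit_right (x := AdjoinRoot.root p) ?_
  have hge : c.Good (AdjoinRoot.root p + (AdjoinRoot.of p e - AdjoinRoot.root p)) ({c.ν (AdjoinRoot.root p)} + c.w) :=
    c.good_add c.good_root c.good_e_sub
  rw [add_sub_cancel] at hge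
  have hcard : Multiset.card ({c.ν (AdjoinRoot.root p)} + c.w) = (P.aug e).toNat := by
    rw [Multiset.card_add, Multiset.card_singleton]; have := c.hcard; omega
  have := c.hinj (a₁ := AdjoinRoot.root p * PowerSeries.coeff ((P.aug e).toNat - 1) (sig P he (AdjoinRoot.of p e - AdjoinRoot.root p)))
    (a₂ := PowerSeries.coeff (P.aug e).toNat (sig P he (AdjoinRoot.of p e))) (by
    have h1 : (P.aug e).toNat - 1 = Multiset.card c.w := by have := c.hcard; omega
    rw [map_mul, h1, coeff_card_eq c c.good_e_sub, ← hcard, coeff_card_eq c hge, Multiset.prod_add,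
      Multiset.prod_singleton])
  rw [this, ← hke]
  exact hu

theorem nice_of_mem (hK : HasSplitting K P) (he : e ∈ P.pos) {x : AdjoinRoot p} (hx : x ∈ posSet P e) :
    Nice hK he x := by
  induction hx using AddSubsemigroup.closure_induction with
  | mem a ha =>
    induction ha using Submonoid.closure_induction with
    | mem a ha =>
      rcases ha with (⟨f, hf, rfl⟩ | rfl) | ⟨h2, rfl⟩
      · exact nice_of hK he hf
      · exact nice_root hK he
      · exact nice_e_sub hK he h2
    | one => exact map_one (AdjoinRoot.of p) ▸ nice_of hK he (one_mem_pos P)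
    | mul a b _ _ ha hb => exact nice_mul hK he ha hb
  | add a b _ _ ha hb => exact nice_add hK he ha hb

theorem of_mem_posSet {f : K} (hf : f ∈ P.pos) : AdjoinRoot.of p f ∈ posSet P e :=
  AddSubsemigroup.subset_closure (Submonoid.subset_closure (Or.inl (Or.inl ⟨f, hf, rfl⟩)))

theorem root_mem_posSet : AdjoinRoot.root p ∈ posSet P e :=
  AddSubsemigroup.subset_closure (Submonoid.subset_closure (Or.inl (Or.inr rfl)))

theorem exists_sub_posSet (x : AdjoinRoot p) : ∃ a b, a ∈ posSet P e ∧ b ∈ posSet P e ∧ x = a - b := by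
  have h1 : (1 : AdjoinRoot p) ∈ posSet P e := map_one (AdjoinRoot.of p) ▸ of_mem_posSet (one_mem_pos P)
  obtain ⟨h, rfl⟩ := AdjoinRoot.mk_surjective x
  induction h using Polynomial.induction_on' with
  | add a b ha hb =>
    obtain ⟨a₁, b₁, ha₁, hb₁, ea⟩ := ha
    obtain ⟨a₂, b₂, ha₂, hb₂, eb⟩ := hb
    exact ⟨a₁ + a₂, b₁ + b₂, add_mem ha₁ ha₂, add_mem hb₁ hb₂, by rw [map_add, ea, eb]; ring⟩
  | monomial i c =>
    obtain ⟨f₁, f₂, hf₁, hf₂, rfl⟩ := P.exists_sub c
    have hpow : AdjoinRoot.root p ^ i ∈ posSet P e := by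
      induction i with
      | zero => rwa [pow_zero]
      | succ i ih => rw [pow_succ]; exact posSet_mul ih root_mem_posSet
    refine ⟨_, _, posSet_mul (of_mem_posSet hf₁) hpow, posSet_mul (of_mem_posSet hf₂) hpow, ?_⟩
    rw [← Polynomial.C_mul_X_pow_eq_monomial, map_mul, map_pow, AdjoinRoot.mk_X, AdjoinRoot.mk_C, map_sub,
      sub_mul]

/-- The positive structure on `K_e`. -/
def posStr (hK : HasSplitting K P) (he : e ∈ P.pos) :
    @PosStructure (AdjoinRoot p) _ (ops P he) :=
  letI := ops P he
  { aug := augE hK he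
    aug_surjective := fun n => ⟨(n : AdjoinRoot p), map_intCast _ n⟩
    pos := posSet P e
    add_mem := fun _ _ ha hb => add_mem ha hb
    mul_mem := fun _ _ ha hb => posSet_mul ha hb
    natCast_mem := fun n hn => map_natCast (AdjoinRoot.of p) n ▸ of_mem_posSet (P.natCast_mem n hn)
    exists_sub := exists_sub_posSet
    aug_pos := fun x hx => by
      obtain ⟨n, hn, hn0, -⟩ := nice_of_mem hK he hx
      rw [hn]; exact_mod_cast hn0
    lam_eq_zero := fun x hx i hi => by
      obtain ⟨n, hn, -, -, l, hl, hc⟩ := nice_of_mem hK he hx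
      obtain ⟨c, h⟩ := exists_ctx hK he l hl
      obtain ⟨A, hA, hAc⟩ := hc c h
      rw [hn] at hi
      refine c.hinj ?_
      show c.ν (PowerSeries.coeff i (sig P he x)) = c.ν 0
      rw [← PowerSeries.coeff_map, hA.2, coeff_ser, esymm_eq_zero_of_card_lt _ (by omega), map_zero]
    isUnit_lam := fun x hx => by
      obtain ⟨n, hn, -, hu, -⟩ := nice_of_mem hK he hx
      rw [hn, Int.toNat_natCast]
      exact hu }

theorem exists_lambdaOps (hK : HasSplitting K P) (he : e ∈ P.pos) :
    ∃ (inst : LambdaOps (AdjoinRoot p)) (Pe : @PosStructure _ _ inst),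
      (∀ (i : ℕ) (x : K), @LambdaOps.lam _ _ inst i (AdjoinRoot.of p x) = AdjoinRoot.of p (LambdaOps.lam i x)) ∧
      (∀ i : ℕ, 2 ≤ i → @LambdaOps.lam _ _ inst i (AdjoinRoot.root p) = 0) ∧
      @IsExtension K _ _ _ _ inst P Pe (AdjoinRoot.of p) ∧
      @PosStructure.IsLine _ _ inst Pe (AdjoinRoot.root p) ∧
      (2 ≤ P.aug e → AdjoinRoot.of p e - AdjoinRoot.root p ∈ (@PosStructure.pos _ _ inst Pe)) := by
  letI := ops P he
  have hm : 0 < (P.aug e).toNat := by have := P.aug_pos e he; omega
  have hlam : ∀ (i : ℕ) (x : K), LambdaOps.lam i (AdjoinRoot.of p x) = AdjoinRoot.of p (LambdaOps.lam i x) := by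
    intro i x
    show PowerSeries.coeff i (sig P he (AdjoinRoot.of p x)) = _
    have h := sig_of_mul_pow P he x hm
    rw [pow_zero, mul_one, PowerSeries.rescale_one] at h
    rw [h, RingHom.id_apply, PowerSeries.coeff_map, coeff_lamSeries]
  haveI := nontrivial_of_aug P
  refine ⟨ops P he, posStr hK he, hlam, fun i hi => ?_, ⟨fun i x => (hlam i x).symm, ?_, ?_, ?_⟩,
    ⟨root_mem_posSet, ?_⟩, fun h2 => ?_⟩
  · exact (posStr hK he).lam_eq_zero _ root_mem_posSet i (by
      show augE hK he (AdjoinRoot.root p) < i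
      rw [augE, AdjoinRoot.lift_root]; exact_mod_cast hi)
  · exact of_injective (extPoly_monic P he) (by rw [natDegree_extPoly P he]; exact hm.ne')
  · intro x
    show augE hK he (AdjoinRoot.of p x) = _
    rw [augE, AdjoinRoot.lift_of]
  · exact fun f hf => of_mem_posSet hf
  · show augE hK he (AdjoinRoot.root p) = 1
    rw [augE, AdjoinRoot.lift_root]
  · exact AddSubsemigroup.subset_closure (Submonoid.subset_closure (Or.inr ⟨h2, rfl⟩))

end Groth.Agent.Lib.Lambda.ExtLam
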