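import Groth.Agent.Lib.Lambda.SplitSpecial
import Mathlib.LinearAlgebra.Eigenspace.Basic
import Mathlib.Algebra.Polynomial.Derivative

/-!
# Eigenspace decomposition from a filtration
-/

set_option autoImplicit false

open Finset LambdaRing TensorProduct

noncomputable section

namespace Groth.Agent.Lib.Lambda

universe u

section Abstract

variable {𝕜 : Type*} [Field 𝕜] {V : Type*} [AddCommGroup V] [Module 𝕜 V]
variable (T : Module.End 𝕜 V) (F : ℕ → Submodule 𝕜 V) (c : ℕ → 𝕜)

theorem eigen_mem_fil (h0 : F 0 = ⊤) (hc : Function.Injective c)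
    (hT : ∀ n, ∀ x ∈ F n, T x - c n • x ∈ F (n + 1)) {m : ℕ} {x : V}
    (hx : T x = c m • x) : ∀ i, i ≤ m → x ∈ F i := by
  intro i
  induction i with
  | zero => intro _; rw [h0]; trivial
  | succ i ih =>
    intro hi
    have h := hT i x (ih (by omega))
    rw [hx, ← sub_smul] at h
    have hne : c m - c i ≠ 0 := sub_ne_zero.2 fun e => by have := hc e; omega
    simpa [smul_smul, inv_mul_cancel₀ hne] using (F (i + 1)).smul_mem (c m - c i)⁻¹ h

theorem eigen_eq_zero_of_mem_succ (d : ℕ) (hd : ∀ n, d < n → F n = ⊥) (hc : Function.Injective c)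
    (hT : ∀ n, ∀ x ∈ F n, T x - c n • x ∈ F (n + 1)) {m : ℕ} {x : V}
    (hx : T x = c m • x) (hxm : x ∈ F (m + 1)) : x = 0 := by
  have key : ∀ k, x ∈ F (m + 1 + k) := by
    intro k
    induction k with
    | zero => exact hxm
    | succ k ih =>
      have h := hT _ x ih
      rw [hx, ← sub_smul] at h
      have hne : c m - c (m + 1 + k) ≠ 0 := sub_ne_zero.2 fun e => by have := hc e; omega
      show x ∈ F (m + 1 + k + 1)
      simpa [smul_smul, inv_mul_cancel₀ hne] using (F _).smul_mem (c m - c (m + 1 + k))⁻¹ h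
  have := key d
  rwa [hd _ (by omega), Submodule.mem_bot] at this

theorem exists_eigen_decomp (d : ℕ) (hd : ∀ n, d < n → F n = ⊥) (hc : Function.Injective c)
    (hT : ∀ n, ∀ x ∈ F n, T x - c n • x ∈ F (n + 1)) :
    ∀ k n, d + 1 ≤ n + k → ∀ x ∈ F n, ∃ y : ℕ → V,
      (∀ m, T (y m) = c m • y m) ∧ (∀ m, (m < n ∨ d < m) → y m = 0) ∧
      x = ∑ m ∈ range (d + 1), y m := by
  intro k
  induction k with
  | zero =>
    intro n hn x hx
    rw [hd n (by omega), Submodule.mem_bot] at hx
    exact ⟨0, fun m => by simp, fun m _ => rfl, by simp [hx]⟩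
  | succ k ih =>
    intro n hn x hx
    rcases Nat.lt_or_ge d n with hdn | hdn
    · rw [hd n hdn, Submodule.mem_bot] at hx
      exact ⟨0, fun m => by simp, fun m _ => rfl, by simp [hx]⟩
    obtain ⟨y, hy1, hy2, hy3⟩ := ih (n + 1) (by omega) _ (hT n x hx)
    set y' : ℕ → V := fun m => (c m - c n)⁻¹ • y m with hy'
    have hy'1 : ∀ m, T (y' m) = c m • y' m := fun m => by
      simp only [hy', map_smul, hy1]
      rw [smul_comm]
    refine ⟨fun m => if m = n then x - ∑ i ∈ range (d + 1), y' i else y' m, ?_, ?_, ?_⟩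
    · intro m
      by_cases hm : m = n
      · subst hm
        simp only [if_true, map_sub, map_sum, smul_sub, smul_sum]
        have : T x = c m • x + ∑ i ∈ range (d + 1), y i := by rw [← hy3]; abel
        rw [this]
        have e : ∀ i, T (y' i) = c m • y' i + y i := by
          intro i
          by_cases hi : i = m
          · subst hi
            rw [hy'1, hy2 i (Or.inl (Nat.lt_succ_self i)), add_zero]
          · rw [hy'1]
            simp only [hy', smul_smul]
            rw [show c i * (c i - c m)⁻¹ = c m * (c i - c m)⁻¹ + 1 by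
              rw [← sub_eq_iff_eq_add', ← sub_mul,
                mul_inv_cancel₀ (sub_ne_zero.2 fun h => hi (hc h))], add_smul, one_smul]
        simp only [e, sum_add_distrib]
        abel
      · simp only [if_neg hm]; exact hy'1 m
    · intro m hm
      simp only []
      rw [if_neg (show ¬ m = n by omega)]
      simp [hy', hy2 m (by omega)]
    · have hyn : y' n = 0 := by simp [hy', hy2 n (Or.inl (Nat.lt_succ_self n))]
      rw [sum_eq_sum_sdiff_singleton_add (show n ∈ range (d + 1) by simp; omega), if_pos rfl,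
        sum_congr rfl (fun m hm => by rw [if_neg (by simp at hm; omega)]),
        sum_eq_sum_sdiff_singleton_add (show n ∈ range (d + 1) by simp; omega) y', hyn, add_zero]
      abel

end Abstract

variable {K : Type u} [CommRing K] [LambdaOps K] {P : PosStructure K}

/-- The filtration spanned in ℚ ⊗ K. -/
def ratFil (P : PosStructure K) (n : ℕ) : Submodule ℚ (ℚ ⊗[ℤ] K) :=
  Submodule.span ℚ ((fun x : K => (1 : ℚ) ⊗ₜ[ℤ] x) '' (gammaFiltration P n : Set K))

theorem ratFil_zero : ratFil P 0 = ⊤ := by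
  rw [ratFil, eq_top_iff]
  intro x _
  induction x using TensorProduct.induction_on with
  | zero => exact zero_mem _
  | tmul q y =>
    rw [show q ⊗ₜ[ℤ] y = q • ((1 : ℚ) ⊗ₜ[ℤ] y) by rw [smul_tmul', smul_eq_mul, mul_one]]
    exact Submodule.smul_mem _ _ (Submodule.subset_span ⟨y, mem_gammaFiltration_zero y, rfl⟩)
  | add a b ha hb => exact add_mem (ha trivial) (hb trivial)

theorem ratFil_eq_bot {d : ℕ} (hd : gammaFiltration P (d + 1) = ⊥) (n : ℕ) (hn : d < n) :
    ratFil P n = ⊥ := by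
  rw [ratFil, Submodule.span_eq_bot]
  rintro _ ⟨x, hx, rfl⟩
  have h : x ∈ gammaFiltration P (d + 1) := gammaFiltration_anti hn hx
  rw [hd, AddSubgroup.mem_bot] at h
  simp [h]

theorem ratFil_step (hK : HasSplitting K P) {j : ℕ} (hj : 1 ≤ j)
    (Ψ : ℚ ⊗[ℤ] K →ₗ[ℚ] ℚ ⊗[ℤ] K) (hΨ : ∀ x : K, Ψ (1 ⊗ₜ[ℤ] x) = 1 ⊗ₜ[ℤ] adams P j x)
    (n : ℕ) (x : ℚ ⊗[ℤ] K) (hx : x ∈ ratFil P n) :
    Ψ x - (j : ℚ) ^ n • x ∈ ratFil P (n + 1) := by
  induction hx using Submodule.span_induction with
  | mem y hy =>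
    obtain ⟨z, hz, rfl⟩ := hy
    rw [hΨ, show (j : ℚ) ^ n • ((1 : ℚ) ⊗ₜ[ℤ] z) = (1 : ℚ) ⊗ₜ[ℤ] ((j : K) ^ n * z) by
      rw [← Nat.cast_pow, Nat.cast_smul_eq_nsmul, ← Nat.cast_pow, ← nsmul_eq_mul, tmul_smul],
      ← tmul_sub]
    exact Submodule.subset_span ⟨_, adams_sub_pow_mul_mem hK hj hz, rfl⟩
  | zero => simp
  | add a b _ _ ha hb => rw [map_add, smul_add, add_sub_add_comm]; exact add_mem ha hb
  | smul r a _ ha => rw [map_smul, smul_comm, ← smul_sub]; exact Submodule.smul_mem _ _ ha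

theorem pow_natCast_injective {j : ℕ} (hj : 2 ≤ j) : Function.Injective fun n : ℕ => (j : ℚ) ^ n :=
  fun a b h => Nat.pow_right_injective hj (show j ^ a = j ^ b by simp only at h; exact_mod_cast h)

end Groth.Agent.Lib.Lambda
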