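import Groth.Agent.Lib.Lambda.Univ
import Groth.Agent.Lib.Lambda.Char0
import Mathlib.Algebra.Ring.Subring.Basic

/-!
# Closure properties in special λ-rings
-/

set_option autoImplicit false

open PowerSeries Finset LambdaRing

noncomputable section

namespace Groth.Agent.Lib.Lambda

universe u v

variable {A : Type u} [CommRing A] [LambdaOps A]

theorem lam_neg (k : ℕ) (x : A) :
    LambdaOps.lam (k + 1) (-x) =
      -∑ i ∈ range (k + 1), LambdaOps.lam (i + 1) x * LambdaOps.lam (k - i) (-x) := by
  have h := LambdaOps.lam_add (k + 1) x (-x)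
  rw [add_neg_cancel, lam_zero_right (Nat.succ_ne_zero k), sum_range_succ'] at h
  simp only [Nat.add_sub_add_right, LambdaOps.lam_zero, one_mul, Nat.sub_zero] at h
  linear_combination -h

theorem aeval_mem_subring {σ : Type v} (S : Subring A) (f : σ → A) (hf : ∀ i, f i ∈ S)
    (P : MvPolynomial σ ℤ) : MvPolynomial.aeval f P ∈ S := by
  induction P using MvPolynomial.induction_on with
  | C a => simpa using intCast_mem S a
  | add p q hp hq => simpa using add_mem hp hq
  | mul_X p i hp => simpa using mul_mem hp (hf i)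

/-- The elements of a subring all of whose λ^n lie in it. -/
def lamStable (hA : IsSpecial A) (S : Subring A) : Subring A where
  carrier := {z | ∀ n, LambdaOps.lam n z ∈ S}
  zero_mem' n := by
    rcases eq_or_ne n 0 with rfl | hn
    · rw [LambdaOps.lam_zero]; exact one_mem S
    · rw [lam_zero_right hn]; exact zero_mem S
  one_mem' n := by
    match n with
    | 0 => rw [LambdaOps.lam_zero]; exact one_mem S
    | 1 => rw [LambdaOps.lam_one]; exact one_mem S
    | n + 2 => rw [hA.lam_one_eq_zero (n + 2) (by omega)]; exact zero_mem S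
  add_mem' := by
    intro a b ha hb n
    rw [LambdaOps.lam_add]
    exact sum_mem fun i _ => mul_mem (ha i) (hb (n - i))
  neg_mem' := by
    intro a ha n
    induction n using Nat.strong_induction_on with
    | _ n ih =>
      match n with
      | 0 => rw [LambdaOps.lam_zero]; exact one_mem S
      | n + 1 =>
        rw [lam_neg]
        exact neg_mem (sum_mem fun i hi => mul_mem (ha (i + 1)) (ih (n - i) (by omega)))
  mul_mem' := by
    intro a b ha hb n
    obtain ⟨P, hP⟩ := exists_isMulPoly n
    rw [hA.lam_mul n P hP]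
    refine aeval_mem_subring S _ ?_ P
    rintro (i | i)
    · exact ha _
    · exact hb _

theorem mem_lamStable {hA : IsSpecial A} {S : Subring A} {z : A} :
    z ∈ lamStable hA S ↔ ∀ n, LambdaOps.lam n z ∈ S := Iff.rfl

theorem lam_mem_lamStable (hA : IsSpecial A) {S : Subring A} {z : A} (hz : z ∈ lamStable hA S)
    (k : ℕ) : LambdaOps.lam k z ∈ lamStable hA S := by
  intro n
  obtain ⟨Q, hQ⟩ := exists_isCompPoly k n
  rw [hA.lam_lam k n Q hQ]
  exact aeval_mem_subring S _ (fun i => hz _) Q

theorem lamStable_le (hA : IsSpecial A) (S : Subring A) : lamStable hA S ≤ S :=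
  fun z hz => by simpa [LambdaOps.lam_one] using hz 1

theorem gamma_mem_of_lam_mem {S : Subring A} {z : A} (hz : ∀ k, LambdaOps.lam k z ∈ S) (k : ℕ) :
    gamma k z ∈ S := by
  unfold gamma
  split_ifs with h
  · exact one_mem S
  · refine sum_mem fun j _ => mul_mem (natCast_mem S _) ?_
    split_ifs
    · exact zero_mem S
    · exact hz j

theorem lam_eq_gamma_sub (k : ℕ) (z : A) :
    LambdaOps.lam (k + 1) z = gamma (k + 1) z -
      ∑ j ∈ range k, (k.choose j : A) * LambdaOps.lam (j + 1) z := by
  unfold gamma
  rw [if_neg (Nat.succ_ne_zero k), sum_range_succ']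
  simp only [if_true, mul_zero, add_zero, Nat.succ_ne_zero, if_false, Nat.add_sub_cancel]
  rw [sum_range_succ, Nat.choose_self, Nat.cast_one, one_mul]
  ring

theorem lam_mem_of_gamma_mem {S : Subring A} {z : A} (hz : ∀ k, gamma (k + 1) z ∈ S) (k : ℕ) :
    LambdaOps.lam k z ∈ S := by
  induction k using Nat.strong_induction_on with
  | _ k ih =>
    match k with
    | 0 => rw [LambdaOps.lam_zero]; exact one_mem S
    | k + 1 =>
      rw [lam_eq_gamma_sub]
      exact sub_mem (hz k) (sum_mem fun j hj => mul_mem (natCast_mem S _)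
        (ih (j + 1) (by rw [mem_range] at hj; omega)))

theorem gamma_mem_lamStable (hA : IsSpecial A) {S : Subring A} {z : A}
    (hz : z ∈ lamStable hA S) (k : ℕ) : gamma k z ∈ lamStable hA S :=
  gamma_mem_of_lam_mem (fun j => lam_mem_lamStable hA hz j) k

variable {B : Type v} [CommRing B] [LambdaOps B]

theorem map_aeval_int {σ : Type*} (φ : A →+* B) (f : σ → A) (P : MvPolynomial σ ℤ) :
    φ (MvPolynomial.aeval f P) = MvPolynomial.aeval (fun i => φ (f i)) P := by
  induction P using MvPolynomial.induction_on with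
  | C a => simp
  | add p q hp hq => simp [hp, hq]
  | mul_X p i hp => simp [hp]

/-- The elements on which a ring map between special λ-rings commutes with all λ^n. -/
def lamEqLocus (hA : IsSpecial A) (hB : IsSpecial B) (φ : A →+* B) : Subring A where
  carrier := {z | ∀ n, φ (LambdaOps.lam n z) = LambdaOps.lam n (φ z)}
  zero_mem' n := by
    rcases eq_or_ne n 0 with rfl | hn
    · simp [LambdaOps.lam_zero]
    · simp [lam_zero_right hn]
  one_mem' n := by
    match n with
    | 0 => simp [LambdaOps.lam_zero]
    | 1 => simp [LambdaOps.lam_one]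
    | n + 2 =>
      rw [map_one, hA.lam_one_eq_zero (n + 2) (by omega), hB.lam_one_eq_zero (n + 2) (by omega),
        map_zero]
  add_mem' := by
    intro a b ha hb n
    rw [map_add, LambdaOps.lam_add, LambdaOps.lam_add, map_sum]
    exact sum_congr rfl fun i _ => by rw [map_mul, ha, hb]
  neg_mem' := by
    intro a ha n
    induction n using Nat.strong_induction_on with
    | _ n ih =>
      match n with
      | 0 => simp [LambdaOps.lam_zero]
      | n + 1 =>
        rw [map_neg φ a, lam_neg, lam_neg, map_neg, map_sum]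
        refine congrArg Neg.neg (sum_congr rfl fun i hi => ?_)
        rw [map_mul, ha, ih (n - i) (by omega), map_neg φ a]
  mul_mem' := by
    intro a b ha hb n
    obtain ⟨P, hP⟩ := exists_isMulPoly n
    rw [map_mul, hA.lam_mul n P hP, hB.lam_mul n P hP, map_aeval_int]
    congr 2
    funext i
    rcases i with i | i
    · exact ha _
    · exact hb _

theorem mem_lamEqLocus {hA : IsSpecial A} {hB : IsSpecial B} {φ : A →+* B} {z : A} :
    z ∈ lamEqLocus hA hB φ ↔ ∀ n, φ (LambdaOps.lam n z) = LambdaOps.lam n (φ z) := Iff.rfl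

theorem lam_mem_lamEqLocus (hA : IsSpecial A) (hB : IsSpecial B) {φ : A →+* B} {z : A}
    (hz : z ∈ lamEqLocus hA hB φ) (k : ℕ) : LambdaOps.lam k z ∈ lamEqLocus hA hB φ := by
  intro n
  obtain ⟨Q, hQ⟩ := exists_isCompPoly k n
  rw [hA.lam_lam k n Q hQ, hz k, hB.lam_lam k n Q hQ, map_aeval_int]
  congr 2
  funext i
  exact hz _

theorem gamma_mem_lamEqLocus (hA : IsSpecial A) (hB : IsSpecial B) {φ : A →+* B} {z : A}
    (hz : z ∈ lamEqLocus hA hB φ) (k : ℕ) : gamma k z ∈ lamEqLocus hA hB φ :=
  gamma_mem_of_lam_mem (fun j => lam_mem_lamEqLocus hA hB hz j) k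

theorem isSpecial_of_injective (φ : A →+* B) (hφ : Function.Injective φ)
    (h : ∀ n x, φ (LambdaOps.lam n x) = LambdaOps.lam n (φ x)) (hB : IsSpecial B) :
    IsSpecial A := by
  refine ⟨fun n hn => hφ ?_, fun n P hP x y => hφ ?_, fun i j Q hQ x => hφ ?_⟩
  · rw [h, map_one, hB.lam_one_eq_zero n hn, map_zero]
  · rw [h, map_mul, hB.lam_mul n P hP, map_aeval_int]
    congr 2
    funext k
    rcases k with k | k <;> exact (h _ _).symm
  · rw [h, h, hB.lam_lam i j Q hQ, map_aeval_int]
    congr 2
    funext k
    exact (h _ _).symm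

/-- Integers have binomial λ-operations in any pre-λ-ring with λ_t(1) = 1 + t. -/
theorem lam_intCast (h1 : LineLike (1 : A)) (m : ℤ) (n : ℕ) :
    LambdaOps.lam n (m : A) = ((Ring.choose m n : ℤ) : A) := by
  let L : ℤ → A⟦X⟧ := fun a => PowerSeries.mk fun i => ((Ring.choose a i : ℤ) : A)
  have hadd : ∀ a b, L (a + b) = L a * L b := by
    intro a b
    ext k
    simp only [L, coeff_mk, coeff_mul]
    rw [Ring.add_choose_eq k (Commute.all a b), Int.cast_sum]
    exact sum_congr rfl fun p _ => Int.cast_mul _ _
  have hone : L 1 = lamSeries (1 : A) := by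
    ext k
    simp only [L, coeff_mk]
    rw [coeff_lamSeries, ← Nat.cast_one, Ring.choose_natCast, Int.cast_natCast]
    have := lam_natCast h1 1 k
    rw [Nat.cast_one] at this
    exact this.symm
  have hzero : L 0 = 1 := by
    ext k
    simp only [L, coeff_mk, coeff_one, Ring.choose_zero_ite]
    split_ifs <;> simp
  suffices L m = lamSeries (m : A) by
    have := congrArg (coeff n) this
    simpa [L, coeff_lamSeries] using this.symm
  induction m using Int.induction_on with
  | zero => rw [hzero, Int.cast_zero, lamSeries_zero]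
  | succ i ih => rw [hadd, ih, hone, Int.cast_add, Int.cast_one, lamSeries_add]
  | pred i ih =>
    apply (isUnit_lamSeries (1 : A)).mul_right_cancel
    rw [← lamSeries_add]
    conv_lhs => rw [← hone, ← hadd]
    rw [sub_add_cancel, ih, Int.cast_sub, Int.cast_one, sub_add_cancel]

end Groth.Agent.Lib.Lambda
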