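import Groth.Agent.Lib.Lambda.TestRing
import Groth.Agent.Lib.Lambda.Special
import Groth.Agent.Lib.Lambda.AlgFil

/-!
# The free λ-algebra over a binomial ring, with its weight filtration
-/

set_option autoImplicit false

open Finset LambdaRing TensorProduct
open MvPolynomial hiding X
open PowerSeries (rescale)

noncomputable section

namespace Groth.Agent.Lib.Lambda

universe u v w

attribute [local instance] serLambdaOps

/-- The rationalisation of a ring. -/
def RatK (K : Type u) [CommRing K] : Type u := ℚ ⊗[ℤ] K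

instance instCommRingRatK (K : Type u) [CommRing K] : CommRing (RatK K) :=
  inferInstanceAs (CommRing (ℚ ⊗[ℤ] K))

instance instAlgebraRatRatK (K : Type u) [CommRing K] : Algebra ℚ (RatK K) :=
  inferInstanceAs (Algebra ℚ (ℚ ⊗[ℤ] K))

/-- The map into the rationalisation. -/
def jK (K : Type u) [CommRing K] : K →+* RatK K :=
  (Algebra.TensorProduct.includeRight : K →ₐ[ℤ] ℚ ⊗[ℤ] K).toRingHom

theorem jK_injective (K : Type u) [CommRing K] [BinomialRing K] : Function.Injective (jK K) :=
  haveI := BinomialRing.toIsAddTorsionFree (R := K)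
  injective_includeRight_rat K

/-- The ring of coordinates. -/
abbrev LeadRing (ι : Type w) (K : Type u) [CommRing K] : Type _ := MvPolynomial (ι × ℕ) (RatK K)

/-- The free ring on the γ^{l+1}(x_a). -/
abbrev Free (ι : Type w) (K : Type u) [CommRing K] : Type _ := MvPolynomial (ι × ℕ) K

variable {ι : Type w} {K : Type u} [CommRing K]

/-- The generic element x_a in the test ring. -/
def xSer (K : Type u) [CommRing K] (a : ι) : PowerSeries (LeadRing ι K) :=
  PowerSeries.mk fun r => match r with
    | 0 => 0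
    | r + 1 => MvPolynomial.X (a, r)

theorem constantCoeff_xSer (a : ι) :
    PowerSeries.constantCoeff (xSer K a : PowerSeries (LeadRing ι K)) = 0 := by
  rw [← PowerSeries.coeff_zero_eq_constantCoeff_apply, xSer, PowerSeries.coeff_mk]

/-- The embedding into the test ring. -/
def theta : Free ι K →+* PowerSeries (LeadRing ι K) :=
  eval₂Hom ((PowerSeries.C (R := LeadRing ι K)).comp ((MvPolynomial.C).comp (jK K)))
    fun p => gamma (p.2 + 1) (xSer K p.1)

/-- The leading form. -/
def lead : Free ι K →+* LeadRing ι K :=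
  eval₂Hom ((MvPolynomial.C).comp (jK K))
    fun p => PowerSeries.coeff (p.2 + 1) (gamma (p.2 + 1) (xSer K p.1))

theorem theta_C (c : K) :
    theta (MvPolynomial.C c : Free ι K) = PowerSeries.C (MvPolynomial.C (jK K c)) := by
  simp [theta]

theorem theta_X (a : ι) (l : ℕ) :
    theta (MvPolynomial.X (a, l) : Free ι K) = gamma (l + 1) (xSer K a) := by
  simp [theta]

theorem theta_X_zero (a : ι) : theta (MvPolynomial.X (a, 0) : Free ι K) = xSer K a := by
  rw [theta_X, zero_add, gamma_one_left]

/-- The weight: γ^{l+1}(x_a) has weight l+1. -/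
def wt (s : ι × ℕ →₀ ℕ) : ℕ := Finsupp.weight (fun p : ι × ℕ => p.2 + 1) s

theorem wt_add (s t : ι × ℕ →₀ ℕ) : wt (s + t) = wt s + wt t := map_add _ s t

theorem wt_single (p : ι × ℕ) (k : ℕ) : wt (Finsupp.single p k) = k * (p.2 + 1) := by
  simp [wt, Finsupp.weight_apply]

theorem wt_eq_zero {s : ι × ℕ →₀ ℕ} (h : wt s = 0) : s = 0 := by
  ext p
  by_contra hp
  have hle := Finsupp.le_weight (fun q : ι × ℕ => q.2 + 1) (s := p) (Nat.succ_ne_zero _) s
  have hs : s p ≠ 0 := hp
  unfold wt at h
  omega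

/-- The ideal of elements of weight at least m. -/
def wtIdeal (ι : Type w) (K : Type u) [CommRing K] (m : ℕ) : Ideal (Free ι K) where
  carrier := {z | ∀ s, wt s < m → coeff s z = 0}
  zero_mem' := fun s _ => coeff_zero s
  add_mem' := fun {a b} ha hb s hs => by rw [coeff_add, ha s hs, hb s hs, add_zero]
  smul_mem' := fun c z hz s hs => by
    classical
    rw [smul_eq_mul, coeff_mul]
    refine sum_eq_zero fun p hp => ?_
    rw [Finset.HasAntidiagonal.mem_antidiagonal] at hp
    rw [hz p.2 (lt_of_le_of_lt (by rw [← hp, wt_add]; omega) hs), mul_zero]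

theorem mem_wtIdeal {m : ℕ} {z : Free ι K} :
    z ∈ wtIdeal ι K m ↔ ∀ s, wt s < m → coeff s z = 0 := Iff.rfl

theorem mem_wtIdeal_iff_support {m : ℕ} {z : Free ι K} :
    z ∈ wtIdeal ι K m ↔ ∀ s ∈ z.support, m ≤ wt s := by
  rw [mem_wtIdeal]
  constructor
  · intro h s hs
    by_contra hlt
    exact mem_support_iff.1 hs (h s (by omega))
  · intro h s hs
    by_contra hne
    exact absurd (h s (mem_support_iff.2 hne)) (by omega)

theorem wtIdeal_zero : wtIdeal ι K 0 = ⊤ :=
  eq_top_iff.2 fun z _ s hs => absurd hs (Nat.not_lt_zero _)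

theorem mem_wtIdeal_one_iff {z : Free ι K} :
    z ∈ wtIdeal ι K 1 ↔ constantCoeff z = 0 := by
  rw [mem_wtIdeal, constantCoeff_eq]
  constructor
  · intro h; exact h 0 (by simp [wt])
  · intro h s hs
    rw [wt_eq_zero (by omega : wt s = 0)]
    exact h

theorem monomial_mem_wtIdeal {m : ℕ} {s : ι × ℕ →₀ ℕ} (h : m ≤ wt s) (c : K) :
    monomial s c ∈ wtIdeal ι K m := by
  classical
  intro t ht
  rw [coeff_monomial, if_neg (by rintro rfl; omega)]

theorem theta_monomial (s : ι × ℕ →₀ ℕ) (c : K) :
    (PowerSeries.X : PowerSeries (LeadRing ι K)) ^ wt s ∣ theta (monomial s c) ∧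
      PowerSeries.coeff (wt s) (theta (monomial s c)) = lead (monomial s c) := by
  classical
  induction s using Finsupp.induction with
  | zero =>
    rw [monomial_zero', theta_C]
    constructor
    · simp [wt]
    · simp [wt, lead]
  | single_add p k s hp hk ih =>
    rw [monomial_single_add, map_mul, map_pow, wt_add, wt_single, map_mul lead, map_pow lead]
    obtain ⟨ih1, ih2⟩ := ih
    have key : ∀ k : ℕ, (PowerSeries.X : PowerSeries (LeadRing ι K)) ^ (k * (p.2 + 1)) ∣
          gamma (p.2 + 1) (xSer K p.1) ^ k ∧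
        PowerSeries.coeff (k * (p.2 + 1)) (gamma (p.2 + 1) (xSer K p.1 : PowerSeries (LeadRing ι K)) ^ k) =
          PowerSeries.coeff (p.2 + 1) (gamma (p.2 + 1) (xSer K p.1)) ^ k := by
      intro k
      induction k with
      | zero => simp
      | succ k ihk =>
        rw [Nat.succ_mul, pow_succ, pow_add]
        refine ⟨mul_dvd_mul ihk.1 (X_pow_dvd_gamma (constantCoeff_xSer _) _), ?_⟩
        rw [coeff_mul_of_dvd ihk.1 (X_pow_dvd_gamma (constantCoeff_xSer _) _), ihk.2, pow_succ]
    obtain ⟨p1, p2⟩ := p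
    rw [theta_X, show lead (MvPolynomial.X (p1, p2) : Free ι K) =
      PowerSeries.coeff (p2 + 1) (gamma (p2 + 1) (xSer K p1)) by simp [lead]]
    refine ⟨?_, ?_⟩
    · rw [pow_add]
      exact mul_dvd_mul (key k).1 ih1
    · rw [coeff_mul_of_dvd (key k).1 ih1, ih2, (key k).2]

theorem dvd_theta_of_mem {m : ℕ} {z : Free ι K} (hz : z ∈ wtIdeal ι K m) :
    (PowerSeries.X : PowerSeries (LeadRing ι K)) ^ m ∣ theta z := by
  rw [as_sum z, map_sum]
  refine Finset.dvd_sum fun s hs => ?_
  exact (pow_dvd_pow _ (mem_wtIdeal_iff_support.1 hz s hs)).trans (theta_monomial s _).1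

theorem coeff_theta {r : ℕ} {z : Free ι K} (hz : z ∈ wtIdeal ι K r) :
    PowerSeries.coeff r (theta z) =
      lead (weightedHomogeneousComponent (fun p : ι × ℕ => p.2 + 1) r z) := by
  rw [weightedHomogeneousComponent_apply, map_sum, sum_filter]
  conv_lhs => rw [as_sum z, map_sum, map_sum]
  refine sum_congr rfl fun s hs => ?_
  have h1 := theta_monomial s (coeff s z)
  split_ifs with h
  · rw [← h]; exact h1.2
  · exact PowerSeries.X_pow_dvd_iff.1 h1.1 r
      (lt_of_le_of_ne (mem_wtIdeal_iff_support.1 hz s hs) (Ne.symm h))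

/-- The inverse change of coordinates. -/
def leadInv : LeadRing ι K →ₐ[RatK K] LeadRing ι K :=
  aeval fun p : ι × ℕ => (((p.2 + 1).factorial : ℚ)⁻¹) •
    pOfE (fun k => match k with
      | 0 => 1
      | k + 1 => MvPolynomial.X (p.1, k)) (p.2 + 1)

theorem leadInv_coeff_gamma (a : ι) (l : ℕ) :
    leadInv (PowerSeries.coeff (l + 1) (gamma (l + 1) (xSer K a : PowerSeries (LeadRing ι K)))) =
      MvPolynomial.X (a, l) := by
  have h := (newtonRel_lead (constantCoeff_xSer (K := K) a)).map (leadInv (ι := ι) (K := K)).toRingHom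
  have h' := newtonRel_pOfE (e := fun k => match k with
    | 0 => (1 : LeadRing ι K)
    | k + 1 => MvPolynomial.X (a, k)) rfl
  refine h.eq_e (natRegular_of_algebraRat _) h' (N := l + 1) (fun i hi _ => ?_) (l + 1) le_rfl
  obtain ⟨r, rfl⟩ : ∃ r, i = r + 1 := ⟨i - 1, by omega⟩
  show leadInv (((r + 1).factorial : LeadRing ι K) * PowerSeries.coeff (r + 1) (xSer K a)) = _
  rw [xSer, PowerSeries.coeff_mk, map_mul, map_natCast, leadInv, aeval_X, mul_smul_comm,
    Algebra.smul_def, ← mul_assoc, ← map_natCast (algebraMap ℚ (LeadRing ι K)), ← map_mul,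
    inv_mul_cancel₀ (by exact_mod_cast Nat.factorial_ne_zero (r + 1)), map_one, one_mul]

theorem leadInv_lead (z : Free ι K) : leadInv (lead z) = MvPolynomial.map (jK K) z := by
  induction z using MvPolynomial.induction_on with
  | C c => simp [lead]
  | add p q hp hq => simp only [map_add, hp, hq]
  | mul_X p i hp =>
    simp only [map_mul, hp, map_X]
    congr 1
    rw [show lead (MvPolynomial.X i : Free ι K) =
      PowerSeries.coeff (i.2 + 1) (gamma (i.2 + 1) (xSer K i.1)) by simp [lead]]
    exact leadInv_coeff_gamma i.1 i.2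

variable [BinomialRing K]

theorem lead_injective : Function.Injective (lead : Free ι K →+* LeadRing ι K) := by
  intro p q h
  apply MvPolynomial.map_injective (jK K) (jK_injective K)
  rw [← leadInv_lead, ← leadInv_lead, h]

theorem mem_wtIdeal_of_dvd {m : ℕ} {z : Free ι K}
    (h : (PowerSeries.X : PowerSeries (LeadRing ι K)) ^ m ∣ theta z) : z ∈ wtIdeal ι K m := by
  induction m with
  | zero => rw [wtIdeal_zero]; trivial
  | succ m ih =>
    have hm := ih ((pow_dvd_pow _ (Nat.le_succ m)).trans h)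
    have h0 : weightedHomogeneousComponent (fun p : ι × ℕ => p.2 + 1) m z = 0 := by
      apply lead_injective
      rw [← coeff_theta hm, map_zero]
      exact PowerSeries.X_pow_dvd_iff.1 h m (Nat.lt_succ_self m)
    intro s hs
    rcases Nat.lt_succ_iff_lt_or_eq.1 hs with hlt | heq
    · exact hm s hlt
    · classical
      have := congrArg (coeff s) h0
      rw [coeff_weightedHomogeneousComponent, coeff_zero] at this
      unfold wt at heq
      rwa [if_pos heq] at this

theorem mem_wtIdeal_iff_dvd {m : ℕ} {z : Free ι K} :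
    z ∈ wtIdeal ι K m ↔ (PowerSeries.X : PowerSeries (LeadRing ι K)) ^ m ∣ theta z :=
  ⟨dvd_theta_of_mem, mem_wtIdeal_of_dvd⟩

theorem theta_injective : Function.Injective (theta : Free ι K →+* PowerSeries (LeadRing ι K)) := by
  rw [injective_iff_map_eq_zero]
  intro z hz
  refine MvPolynomial.ext _ _ fun s => ?_
  rw [coeff_zero]
  exact mem_wtIdeal_of_dvd (m := wt s + 1) (by rw [hz]; exact dvd_zero _) s (Nat.lt_succ_self _)

theorem theta_mem_lamStable (z : Free ι K) :
    theta z ∈ lamStable (isSpecial_ser (LeadRing ι K)) (theta (ι := ι) (K := K)).range := by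
  induction z using MvPolynomial.induction_on with
  | C c =>
    intro n
    rw [theta_C, ← RingHom.comp_apply MvPolynomial.C (jK K), lam_C_ser]
    exact ⟨MvPolynomial.C (Ring.choose c n), theta_C _⟩
  | add p q hp hq => rw [map_add]; exact add_mem hp hq
  | mul_X p i hp =>
    rw [map_mul]
    refine mul_mem hp ?_
    obtain ⟨a, l⟩ := i
    rw [theta_X]
    refine gamma_mem_lamStable _ ?_ _
    exact fun n => lam_mem_of_gamma_mem (S := (theta (ι := ι) (K := K)).range)
      (fun k => ⟨MvPolynomial.X (a, k), theta_X a k⟩) n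

theorem exists_theta_eq_lam (n : ℕ) (z : Free ι K) :
    ∃ y : Free ι K, theta y = LambdaOps.lam n (theta z) :=
  theta_mem_lamStable z n

/-- The λ-operations of the free ring. -/
@[reducible] def freeLambdaOps (ι : Type w) (K : Type u) [CommRing K] [BinomialRing K] :
    LambdaOps (Free ι K) where
  lam n z := (exists_theta_eq_lam n z).choose
  lam_zero z := theta_injective (by
    rw [(exists_theta_eq_lam 0 z).choose_spec, LambdaOps.lam_zero, map_one])
  lam_one z := theta_injective (by rw [(exists_theta_eq_lam 1 z).choose_spec, LambdaOps.lam_one])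
  lam_add k x y := theta_injective (by
    rw [(exists_theta_eq_lam k (x + y)).choose_spec, map_add theta, LambdaOps.lam_add, map_sum]
    exact sum_congr rfl fun i _ => by
      rw [map_mul, (exists_theta_eq_lam i x).choose_spec,
        (exists_theta_eq_lam (k - i) y).choose_spec])

attribute [local instance] freeLambdaOps

theorem theta_lam (n : ℕ) (z : Free ι K) :
    theta (LambdaOps.lam n z) = LambdaOps.lam n (theta z) :=
  (exists_theta_eq_lam n z).choose_spec

theorem theta_gamma (n : ℕ) (z : Free ι K) : theta (gamma n z) = gamma n (theta z) :=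
  map_gamma theta theta_lam n z

theorem theta_adamsOp (n : ℕ) (z : Free ι K) : theta (adamsOp n z) = adamsOp n (theta z) :=
  map_adamsOp theta theta_lam n z

theorem isSpecial_free (ι : Type w) (K : Type u) [CommRing K] [BinomialRing K] :
    IsSpecial (Free ι K) :=
  isSpecial_of_injective theta theta_injective theta_lam (isSpecial_ser _)

theorem gamma_X (a : ι) (l : ℕ) :
    gamma (l + 1) (MvPolynomial.X (a, 0) : Free ι K) = MvPolynomial.X (a, l) :=
  theta_injective (by rw [theta_gamma, theta_X_zero, theta_X])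

theorem lam_C_free (c : K) (n : ℕ) :
    LambdaOps.lam n (MvPolynomial.C c : Free ι K) = MvPolynomial.C (Ring.choose c n) :=
  theta_injective (by rw [theta_lam, theta_C, ← RingHom.comp_apply MvPolynomial.C (jK K),
    lam_C_ser, RingHom.comp_apply, theta_C])

theorem gamma_mem_wtIdeal {z : Free ι K} (hz : z ∈ wtIdeal ι K 1) (r : ℕ) :
    gamma r z ∈ wtIdeal ι K r := by
  rw [mem_wtIdeal_iff_dvd, theta_gamma]
  refine X_pow_dvd_gamma ?_ r
  rw [← PowerSeries.coeff_zero_eq_constantCoeff_apply]
  exact PowerSeries.X_pow_dvd_iff.1 (dvd_theta_of_mem hz) 0 Nat.one_pos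

theorem gamma_mem_wtIdeal_of_mem {z : Free ι K} {m : ℕ} (hz : z ∈ wtIdeal ι K m) {r : ℕ}
    (hr : 1 ≤ r) : gamma r z ∈ wtIdeal ι K m := by
  rw [mem_wtIdeal_iff_dvd, theta_gamma]
  exact X_pow_dvd_gamma_of_dvd (dvd_theta_of_mem hz) hr

theorem mul_mem_wtIdeal {a b : ℕ} {y z : Free ι K} (hy : y ∈ wtIdeal ι K a)
    (hz : z ∈ wtIdeal ι K b) : y * z ∈ wtIdeal ι K (a + b) := by
  rw [mem_wtIdeal_iff_dvd, map_mul, pow_add]
  exact mul_dvd_mul (dvd_theta_of_mem hy) (dvd_theta_of_mem hz)

/-- γ^m z ≡ (-1)^{m-1}(m-1)! z on weight ≥ m. -/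
theorem gamma_sub_mem_wtIdeal {z : Free ι K} {m : ℕ} (hm : 1 ≤ m) (hz : z ∈ wtIdeal ι K m) :
    gamma m z - (-1) ^ (m - 1) * ((m - 1).factorial : Free ι K) * z ∈ wtIdeal ι K (m + 1) := by
  have hd := dvd_theta_of_mem hz
  rw [mem_wtIdeal_iff_dvd, map_sub, map_mul, map_mul, map_pow, map_neg, map_one, map_natCast,
    theta_gamma, PowerSeries.X_pow_dvd_iff]
  intro r hr
  have e : (-1 : PowerSeries (LeadRing ι K)) ^ (m - 1) * ((m - 1).factorial : PowerSeries _) =
      PowerSeries.C ((-1) ^ (m - 1) * ((m - 1).factorial : LeadRing ι K)) := by simp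
  rw [map_sub, e, PowerSeries.coeff_C_mul]
  rcases Nat.lt_succ_iff_lt_or_eq.1 hr with hlt | rfl
  · rw [PowerSeries.X_pow_dvd_iff.1 (X_pow_dvd_gamma_of_dvd hd hm) r hlt,
      PowerSeries.X_pow_dvd_iff.1 hd r hlt, mul_zero, sub_zero]
  · rw [coeff_gamma_self hm hd, sub_self]

/-- ψ^j ≡ j^m on weight ≥ m. -/
theorem adamsOp_sub_mem_wtIdeal {z : Free ι K} {m j : ℕ} (hj : 1 ≤ j)
    (hz : z ∈ wtIdeal ι K m) :
    adamsOp j z - (j : Free ι K) ^ m * z ∈ wtIdeal ι K (m + 1) := by
  rw [mem_wtIdeal_iff_dvd, map_sub, map_mul, map_pow, map_natCast, theta_adamsOp,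
    PowerSeries.X_pow_dvd_iff]
  intro r hr
  have e : (j : PowerSeries (LeadRing ι K)) ^ m = PowerSeries.C ((j : LeadRing ι K) ^ m) := by simp
  rw [map_sub, coeff_adamsOp_ser hj, e, PowerSeries.coeff_C_mul]
  rcases Nat.lt_succ_iff_lt_or_eq.1 hr with hlt | rfl
  · rw [PowerSeries.X_pow_dvd_iff.1 (dvd_theta_of_mem hz) r hlt, mul_zero, mul_zero, sub_zero]
  · rw [sub_self]

/-! ### The universal property -/

variable {A : Type v} [CommRing A] [LambdaOps A] [Algebra K A]

/-- Evaluation at a family of elements. -/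
def evalFree (v : ι → A) : Free ι K →ₐ[K] A := aeval fun p => gamma (p.2 + 1) (v p.1)

theorem evalFree_X (v : ι → A) (a : ι) (l : ℕ) :
    evalFree (K := K) v (MvPolynomial.X (a, l)) = gamma (l + 1) (v a) := by
  simp [evalFree]

theorem evalFree_X_zero (v : ι → A) (a : ι) :
    evalFree (K := K) v (MvPolynomial.X (a, 0)) = v a := by
  rw [evalFree_X, zero_add, gamma_one_left]

theorem evalFree_lam (hA : IsSpecial A)
    (hK : ∀ n (c : K), algebraMap K A (Ring.choose c n) = LambdaOps.lam n (algebraMap K A c))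
    (v : ι → A) (n : ℕ) (z : Free ι K) :
    evalFree v (LambdaOps.lam n z) = LambdaOps.lam n (evalFree v z) := by
  suffices z ∈ lamEqLocus (isSpecial_free ι K) hA (evalFree (K := K) v).toRingHom from this n
  induction z using MvPolynomial.induction_on with
  | C c =>
    intro n
    rw [lam_C_free]
    simp [evalFree, hK]
  | add p q hp hq => exact add_mem hp hq
  | mul_X p i hp =>
    refine mul_mem hp ?_
    obtain ⟨a, l⟩ := i
    rw [← gamma_X]
    refine gamma_mem_lamEqLocus _ hA ?_ _
    have key : ∀ k, evalFree v (LambdaOps.lam k (MvPolynomial.X (a, 0) : Free ι K)) =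
        LambdaOps.lam k (v a) := by
      intro k
      induction k using Nat.strong_induction_on with
      | _ k ih =>
        match k with
        | 0 => simp [LambdaOps.lam_zero]
        | k + 1 =>
          rw [lam_eq_gamma_sub, lam_eq_gamma_sub, gamma_X, map_sub, map_sum, evalFree_X]
          congr 1
          refine sum_congr rfl fun j hj => ?_
          rw [mem_range] at hj
          rw [map_mul, map_natCast, ih (j + 1) (by omega)]
    intro n
    show evalFree v _ = LambdaOps.lam n (evalFree v _)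
    rw [key, evalFree_X_zero]

theorem evalFree_gamma (hA : IsSpecial A)
    (hK : ∀ n (c : K), algebraMap K A (Ring.choose c n) = LambdaOps.lam n (algebraMap K A c))
    (v : ι → A) (n : ℕ) (z : Free ι K) :
    evalFree v (gamma n z) = gamma n (evalFree v z) :=
  map_gamma (evalFree (K := K) v).toRingHom (evalFree_lam hA hK v) n z

theorem evalFree_adamsOp (hA : IsSpecial A)
    (hK : ∀ n (c : K), algebraMap K A (Ring.choose c n) = LambdaOps.lam n (algebraMap K A c))
    (v : ι → A) (n : ℕ) (z : Free ι K) :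
    evalFree v (adamsOp n z) = adamsOp n (evalFree v z) :=
  map_adamsOp (evalFree (K := K) v).toRingHom (evalFree_lam hA hK v) n z

theorem evalFree_monomial_mem (ε : A →ₐ[K] K) (v : ι → A) (hv : ∀ a, ε (v a) = 0)
    (s : ι × ℕ →₀ ℕ) (c : K) :
    evalFree v (monomial s c) ∈ gammaFil (ε : A →+* K) (wt s) := by
  induction s using Finsupp.induction with
  | zero =>
    have : (1 : A) ∈ gammaFil (ε : A →+* K) 0 := by
      simpa using prod_gamma_mem_gammaFil (ε : A →+* K) (n := 0) (l := []) (by simp) (by simp)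
    have h := Ideal.mul_mem_left _ (evalFree v (monomial 0 c)) this
    simpa [wt] using h
  | single_add p k s hp hk ih =>
    rw [monomial_single_add, map_mul, map_pow, wt_add, wt_single]
    refine mul_mem_gammaFil _ ?_ ih
    obtain ⟨a, l⟩ := p
    rw [evalFree_X]
    clear hk
    induction k with
    | zero =>
      simpa using prod_gamma_mem_gammaFil (ε : A →+* K) (n := 0) (l := []) (by simp) (by simp)
    | succ k ihk =>
      rw [pow_succ, Nat.succ_mul]
      exact mul_mem_gammaFil _ ihk (gamma_mem_gammaFil _ (hv a) (l + 1))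

theorem map_wtIdeal_le (ε : A →ₐ[K] K) (v : ι → A) (hv : ∀ a, ε (v a) = 0) {m : ℕ}
    {z : Free ι K} (hz : z ∈ wtIdeal ι K m) : evalFree v z ∈ gammaFil (ε : A →+* K) m := by
  rw [as_sum z, map_sum]
  exact Ideal.sum_mem _ fun s hs =>
    gammaFil_anti _ (mem_wtIdeal_iff_support.1 hz s hs) (evalFree_monomial_mem ε v hv s _)

theorem aug_evalFree (ε : A →ₐ[K] K) (v : ι → A) (hv : ∀ a l, ε (gamma (l + 1) (v a)) = 0)
    (z : Free ι K) : ε (evalFree v z) = constantCoeff z := by
  induction z using MvPolynomial.induction_on with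
  | C c => simp [evalFree]
  | add p q hp hq => simp only [map_add, hp, hq]
  | mul_X p i hp => simp [evalFree, hv]

/-- The γ-filtration is the image of the weight filtration. -/
theorem gammaFil_eq_map (hA : IsSpecial A)
    (hK : ∀ n (c : K), algebraMap K A (Ring.choose c n) = LambdaOps.lam n (algebraMap K A c))
    (ε : A →ₐ[K] K) (v : ι → A) (hv : ∀ a l, ε (gamma (l + 1) (v a)) = 0)
    (hsurj : Function.Surjective (evalFree (K := K) v)) (m : ℕ) :
    gammaFil (ε : A →+* K) m = Ideal.map (evalFree (K := K) v).toRingHom (wtIdeal ι K m) := by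
  refine le_antisymm (gammaFil_le fun l hl hs => ?_) (Ideal.map_le_iff_le_comap.2 fun z hz => ?_)
  · suffices ∃ z ∈ wtIdeal ι K m, evalFree v z = (l.map fun p => gamma p.1 p.2).prod by
      obtain ⟨z, hz, hze⟩ := this
      rw [← hze]
      exact Ideal.mem_map_of_mem _ hz
    suffices ∃ z ∈ wtIdeal ι K (l.map Prod.fst).sum,
        evalFree v z = (l.map fun p => gamma p.1 p.2).prod by
      obtain ⟨z, hz, hze⟩ := this
      exact ⟨z, fun s hsm => hz s (lt_of_lt_of_le hsm hs), hze⟩
    clear hs
    induction l with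
    | nil => exact ⟨1, by simp [wtIdeal_zero], by simp⟩
    | cons p l ih =>
      obtain ⟨z, hz, hze⟩ := ih fun q hq => hl q (List.mem_cons_of_mem _ hq)
      obtain ⟨y, hy⟩ := hsurj p.2
      have hy1 : y ∈ wtIdeal ι K 1 := by
        rw [mem_wtIdeal_one_iff, ← aug_evalFree ε v hv, hy]
        exact hl p List.mem_cons_self
      refine ⟨gamma p.1 y * z, ?_, ?_⟩
      · simp only [List.map_cons, List.sum_cons]
        exact mul_mem_wtIdeal (gamma_mem_wtIdeal hy1 _) hz
      · rw [map_mul, evalFree_gamma hA hK, hy, hze]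
        simp
  · refine map_wtIdeal_le ε v (fun a => ?_) hz
    have := hv a 0
    rwa [zero_add, gamma_one_left] at this

theorem exists_of_mem_gammaFil (hA : IsSpecial A)
    (hK : ∀ n (c : K), algebraMap K A (Ring.choose c n) = LambdaOps.lam n (algebraMap K A c))
    (ε : A →ₐ[K] K) (v : ι → A) (hv : ∀ a l, ε (gamma (l + 1) (v a)) = 0)
    (hsurj : Function.Surjective (evalFree (K := K) v)) {m : ℕ} {x : A}
    (hx : x ∈ gammaFil (ε : A →+* K) m) : ∃ z ∈ wtIdeal ι K m, evalFree v z = x := by
  rw [gammaFil_eq_map hA hK ε v hv hsurj] at hx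
  obtain ⟨z, hz, hze⟩ := (Ideal.mem_map_iff_of_surjective _ hsurj).1 hx
  exact ⟨z, hz, hze⟩

section Aug

variable [LambdaOps K]

theorem hK_of_isLambdaAlg (hKb : IsBinomial K) (hlam : IsLambdaAlg K A) (n : ℕ) (c : K) :
    algebraMap K A (Ring.choose c n) = LambdaOps.lam n (algebraMap K A c) := by
  rw [← hKb n c, hlam]

theorem aug_gamma_eq_zero {ε : A →ₐ[K] K} (hε : IsAugLambdaAlg K A ε) {x : A} (hx : ε x = 0)
    (l : ℕ) : ε (gamma (l + 1) x) = 0 := by
  have := map_gamma (ε : A →+* K) hε.map_lam (l + 1) x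
  rw [RingHom.coe_coe] at this
  rw [this, hx, gamma_zero_right (Nat.succ_ne_zero l)]

theorem evalFree_ker_surjective (ε : A →ₐ[K] K) :
    Function.Surjective (evalFree (K := K) fun a : {x : A // ε x = 0} => a.1) := by
  intro x
  refine ⟨MvPolynomial.C (ε x) + MvPolynomial.X (⟨x - algebraMap K A (ε x), by simp⟩, 0), ?_⟩
  rw [map_add, evalFree_X_zero]
  simp [evalFree]

theorem gamma_sub_factorial_mul_mem (hKb : IsBinomial K) (hA : IsSpecial A)
    (ε : A →ₐ[K] K) (hε : IsAugLambdaAlg K A ε) {m : ℕ} (hm : 1 ≤ m) {z : A}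
    (hz : z ∈ gammaFil (ε : A →+* K) m) :
    gamma m z - (-1 : A) ^ (m - 1) * ((m - 1).factorial : A) * z ∈
      gammaFil (ε : A →+* K) (m + 1) := by
  have hK := hK_of_isLambdaAlg hKb hε.isLambdaAlg
  set v := fun a : {x : A // ε x = 0} => a.1 with hv
  have hv' : ∀ a l, ε (gamma (l + 1) (v a)) = 0 := fun a l => aug_gamma_eq_zero hε a.2 l
  obtain ⟨y, hy, rfl⟩ := exists_of_mem_gammaFil hA hK ε v hv' (evalFree_ker_surjective ε) hz
  rw [gammaFil_eq_map hA hK ε v hv' (evalFree_ker_surjective ε)]
  have := Ideal.mem_map_of_mem (evalFree (K := K) v).toRingHom (gamma_sub_mem_wtIdeal hm hy)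
  simpa [evalFree_gamma hA hK] using this

end Aug

end Groth.Agent.Lib.Lambda
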