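import Groth.Agent.Lib.Lambda.Free
import Mathlib.RingTheory.MvPolynomial.Ideal

/-!
# Elements of bounded rank in free λ-rings
-/

set_option autoImplicit false

open Finset LambdaRing
open MvPolynomial hiding X

noncomputable section

namespace Groth.Agent.Lib.Lambda

universe u v w

attribute [local instance] serLambdaOps freeLambdaOps

variable {ι₀ : Type w} {K : Type u} [CommRing K]

/-- Coordinates with `D` extra roots. -/
abbrev RootRing (ι₀ : Type w) (K : Type u) [CommRing K] (D : ℕ) : Type _ :=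
  MvPolynomial ((ι₀ × ℕ) ⊕ Fin D) (RatK K)

/-- Substituting power sums of `D` roots for the coordinates of the distinguished variable. -/
def rootMap (ι₀ : Type w) (K : Type u) [CommRing K] (D : ℕ) :
    LeadRing (ι₀ ⊕ Unit) K →ₐ[RatK K] RootRing ι₀ K D :=
  aeval fun p => match p with
    | (Sum.inl a, l) => MvPolynomial.X (Sum.inl (a, l))
    | (Sum.inr _, l) => (((l + 1).factorial : ℚ)⁻¹) •
        ∑ i : Fin D, MvPolynomial.X (Sum.inr i) ^ (l + 1)

/-- `rootMap` on power series. -/
def rootSer (ι₀ : Type w) (K : Type u) [CommRing K] (D : ℕ) :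
    PowerSeries (LeadRing (ι₀ ⊕ Unit) K) →+* PowerSeries (RootRing ι₀ K D) :=
  PowerSeries.map (rootMap ι₀ K D).toRingHom

theorem rootSer_lam (D n : ℕ) (F : PowerSeries (LeadRing (ι₀ ⊕ Unit) K)) :
    rootSer ι₀ K D (LambdaOps.lam n F) = LambdaOps.lam n (rootSer ι₀ K D F) := by
  refine map_lam_of_map_adamsOp _ (natRegular_ser _) (fun k hk G => ?_) n F
  rw [adamsOp_ser hk, adamsOp_ser hk, rootSer, map_rescale_natCast]

theorem rootSer_gamma (D n : ℕ) (F : PowerSeries (LeadRing (ι₀ ⊕ Unit) K)) :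
    rootSer ι₀ K D (gamma n F) = gamma n (rootSer ι₀ K D F) :=
  map_gamma (rootSer ι₀ K D) (rootSer_lam D) n F

/-- exp of a root. -/
def rootLine (ι₀ : Type w) (K : Type u) [CommRing K] {D : ℕ} (i : Fin D) :
    PowerSeries (RootRing ι₀ K D) :=
  PowerSeries.rescale (MvPolynomial.X (Sum.inr i)) (PowerSeries.exp (RootRing ι₀ K D))

theorem rootSer_xSer_inr (D : ℕ) :
    rootSer ι₀ K D (xSer K (Sum.inr ())) =
      ((Finset.univ : Finset (Fin D)).val.map (rootLine ι₀ K)).sum -
        (Multiset.card ((Finset.univ : Finset (Fin D)).val.map (rootLine ι₀ K)) :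
          PowerSeries (RootRing ι₀ K D)) := by
  rw [Finset.sum_map_val, Multiset.card_map, Finset.card_val, card_univ, Fintype.card_fin]
  refine PowerSeries.ext fun r => ?_
  rw [rootSer, PowerSeries.coeff_map, map_sub, map_sum, xSer, PowerSeries.coeff_mk]
  rw [show (D : PowerSeries (RootRing ι₀ K D)) = PowerSeries.C (D : RootRing ι₀ K D) by simp,
    PowerSeries.coeff_C]
  match r with
  | 0 =>
    simp [rootLine, PowerSeries.coeff_rescale, PowerSeries.coeff_exp]
  | r + 1 =>
    rw [if_neg (Nat.succ_ne_zero r), sub_zero]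
    show rootMap ι₀ K D (MvPolynomial.X (Sum.inr (), r)) = _
    rw [rootMap, aeval_X]
    show (((r + 1).factorial : ℚ)⁻¹) • _ = _
    rw [smul_sum]
    refine sum_congr rfl fun i _ => ?_
    rw [rootLine, PowerSeries.coeff_rescale, PowerSeries.coeff_exp, Algebra.smul_def, one_div,
      mul_comm]

theorem rootSer_theta_inr_eq_zero {D l : ℕ} (hl : D ≤ l) :
    rootSer ι₀ K D (theta (MvPolynomial.X (Sum.inr (), l) : Free (ι₀ ⊕ Unit) K)) = 0 := by
  rw [theta_X, rootSer_gamma, rootSer_xSer_inr,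
    gamma_sum_sub_card ((isSpecial_ser _).lam_one_eq_zero) _ (fun u hu => by
      obtain ⟨i, -, rfl⟩ := Multiset.mem_map.1 hu
      exact lineLike_exp _)]
  exact esymm_eq_zero_of_card_lt _ (by simp; omega)

/-- The variables surviving rank ≤ D. -/
def goodIncl {ι₀ : Type w} (D : ℕ) : (ι₀ × ℕ) ⊕ Fin D → (ι₀ ⊕ Unit) × ℕ :=
  Sum.elim (fun p => (Sum.inl p.1, p.2)) (fun i => (Sum.inr (), (i : ℕ)))

theorem goodIncl_injective (D : ℕ) : Function.Injective (goodIncl (ι₀ := ι₀) D) := by
  rintro (⟨a, b⟩ | a) (⟨c, e⟩ | c) h <;> simp [goodIncl, Prod.ext_iff, Fin.val_inj] at h ⊢ <;> exact h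

/-- The substitution of elementary symmetric functions of the roots. -/
def rootEsymm (ι₀ : Type w) (R : Type v) [CommRing R] (D : ℕ) :
    MvPolynomial ((ι₀ × ℕ) ⊕ Fin D) R →ₐ[R] MvPolynomial ((ι₀ × ℕ) ⊕ Fin D) R :=
  aeval (Sum.elim (fun p => MvPolynomial.X (Sum.inl p))
    fun i => rename Sum.inr (esymm (Fin D) R ((i : ℕ) + 1)))

theorem rootEsymm_injective (R : Type v) [CommRing R] (D : ℕ) :
    Function.Injective (rootEsymm ι₀ R D) := by
  have key : ∀ q, sumAlgEquiv R (ι₀ × ℕ) (Fin D) (rootEsymm ι₀ R D q) =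
      map (aeval (esymmSubst R D D) : MvPolynomial (Fin D) R →ₐ[R] _).toRingHom
        (sumAlgEquiv R (ι₀ × ℕ) (Fin D) q) := by
    intro q
    induction q using MvPolynomial.induction_on with
    | C c => simp [rootEsymm]
    | add p q hp hq => simp only [map_add, hp, hq]
    | mul_X p i hp =>
      simp only [map_mul, hp]
      congr 1
      rcases i with i | i
      · simp [rootEsymm]
      · simp only [rootEsymm, aeval_X, Sum.elim_inr, sumAlgEquiv_X_inr, map_C]
        rw [show sumAlgEquiv R (ι₀ × ℕ) (Fin D) (rename Sum.inr (esymm (Fin D) R ((i : ℕ) + 1))) =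
          MvPolynomial.C (esymm (Fin D) R ((i : ℕ) + 1)) from
          congrArg (fun f : MvPolynomial (Fin D) R →ₐ[R] _ => f (esymm (Fin D) R ((i : ℕ) + 1)))
            (sumAlgEquiv_comp_rename_inr R (ι₀ × ℕ) (Fin D))]
        simp [esymmSubst]
  intro p q h
  apply (sumAlgEquiv R (ι₀ × ℕ) (Fin D)).injective
  apply MvPolynomial.map_injective _ (aeval_esymmSubst_injective R le_rfl)
  rw [← key, ← key, h]

/-- Undoing the coordinates of the free variables. -/
def rootInv (ι₀ : Type w) (K : Type u) [CommRing K] (D : ℕ) :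
    RootRing ι₀ K D →ₐ[RatK K] RootRing ι₀ K D :=
  aeval (Sum.elim
    (fun p => (((p.2 + 1).factorial : ℚ)⁻¹) • pOfE (fun k => match k with
      | 0 => 1
      | k + 1 => MvPolynomial.X (Sum.inl (p.1, k))) (p.2 + 1))
    fun i => MvPolynomial.X (Sum.inr i))

theorem rootInv_rootMap_lead {D : ℕ} (q : MvPolynomial ((ι₀ × ℕ) ⊕ Fin D) K) :
    rootInv ι₀ K D (rootMap ι₀ K D (lead (rename (goodIncl D) q))) =
      rootEsymm ι₀ (RatK K) D (MvPolynomial.map (jK K) q) := by
  have cancel : ∀ (r : ℕ) (z : RootRing ι₀ K D),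
      ((r + 1).factorial : RootRing ι₀ K D) * (((r + 1).factorial : ℚ)⁻¹ • z) = z := by
    intro r z
    rw [mul_smul_comm, Algebra.smul_def, ← mul_assoc,
      ← map_natCast (algebraMap ℚ (RootRing ι₀ K D)), ← map_mul,
      inv_mul_cancel₀ (by exact_mod_cast Nat.factorial_ne_zero (r + 1)), map_one, one_mul]
  have key : ∀ i : (ι₀ × ℕ) ⊕ Fin D,
      rootInv ι₀ K D (rootMap ι₀ K D (PowerSeries.coeff ((goodIncl D i).2 + 1)
        (gamma ((goodIncl D i).2 + 1) (xSer K (goodIncl D i).1)))) =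
      rootEsymm ι₀ (RatK K) D (MvPolynomial.X i) := by
    intro i
    have h := ((newtonRel_lead (constantCoeff_xSer (K := K) (goodIncl D i).1)).map
      (rootMap ι₀ K D).toRingHom).map (rootInv ι₀ K D).toRingHom
    rcases i with ⟨a, l⟩ | i
    · rw [rootEsymm, aeval_X, Sum.elim_inl]
      have h' := newtonRel_pOfE (e := fun k => match k with
        | 0 => (1 : RootRing ι₀ K D)
        | k + 1 => MvPolynomial.X (Sum.inl (a, k))) rfl
      refine h.eq_e (natRegular_of_algebraRat _) h' (N := l + 1) (fun r hr _ => ?_) (l + 1) le_rfl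
      obtain ⟨r, rfl⟩ : ∃ t, r = t + 1 := ⟨r - 1, by omega⟩
      show rootInv ι₀ K D (rootMap ι₀ K D (((r + 1).factorial : LeadRing (ι₀ ⊕ Unit) K) *
        PowerSeries.coeff (r + 1) (xSer K (Sum.inl a)))) = _
      rw [xSer, PowerSeries.coeff_mk, map_mul, map_natCast, map_mul, map_natCast, rootMap, aeval_X,
        rootInv, aeval_X, Sum.elim_inl, cancel]
    · rw [rootEsymm, aeval_X, Sum.elim_inr]
      have h' := newtonRel_esymm ((Finset.univ : Finset (Fin D)).val.map fun c =>
        (MvPolynomial.X (Sum.inr c) : RootRing ι₀ K D))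
      refine (h.eq_e (natRegular_of_algebraRat _) h' (N := (i : ℕ) + 1) (fun r hr _ => ?_)
        ((i : ℕ) + 1) le_rfl).trans ?_
      · obtain ⟨r, rfl⟩ : ∃ t, r = t + 1 := ⟨r - 1, by omega⟩
        show rootInv ι₀ K D (rootMap ι₀ K D (((r + 1).factorial : LeadRing (ι₀ ⊕ Unit) K) *
          PowerSeries.coeff (r + 1) (xSer K (Sum.inr ())))) = _
        rw [xSer, PowerSeries.coeff_mk, map_mul, map_natCast, rootMap, aeval_X]
        show rootInv ι₀ K D (((r + 1).factorial : RootRing ι₀ K D) *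
          (((r + 1).factorial : ℚ)⁻¹ • _)) = _
        rw [cancel, map_sum, Multiset.map_map]
        exact sum_congr rfl fun c _ => by simp [rootInv]
      · rw [esymm_eq_multiset_esymm]
        simp only [Multiset.esymm, map_multiset_sum, Multiset.powersetCard_map, Multiset.map_map,
          Function.comp_def, map_multiset_prod, rename_X]
  induction q using MvPolynomial.induction_on with
  | C c => simp [lead]
  | add p q hp hq => simp only [map_add, hp, hq]
  | mul_X p i hp =>
    simp only [map_mul, hp, rename_X, map_X]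
    refine congrArg (fun y => rootEsymm ι₀ (RatK K) D (MvPolynomial.map (jK K) p) * y) ?_
    rw [show lead (MvPolynomial.X (goodIncl D i) : Free (ι₀ ⊕ Unit) K) =
      PowerSeries.coeff ((goodIncl D i).2 + 1) (gamma ((goodIncl D i).2 + 1)
        (xSer K (goodIncl D i).1)) by simp [lead]]
    exact key i

variable [BinomialRing K]

theorem eq_zero_of_rootSer_theta {D : ℕ} (q : MvPolynomial ((ι₀ × ℕ) ⊕ Fin D) K)
    (h : rootSer ι₀ K D (theta (rename (goodIncl D) q)) = 0) : q = 0 := by
  set w : (ι₀ × ℕ) ⊕ Fin D → ℕ := fun i => (goodIncl D i).2 + 1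
  set z : Free (ι₀ ⊕ Unit) K := rename (goodIncl D) q with hz
  suffices ∀ m, z ∈ wtIdeal (ι₀ ⊕ Unit) K m by
    have hz0 : z = 0 := MvPolynomial.ext _ _ fun s => by
      rw [coeff_zero]; exact this (wt s + 1) s (Nat.lt_succ_self _)
    apply rename_injective _ (goodIncl_injective (ι₀ := ι₀) D)
    rw [← hz, hz0, map_zero]
  intro m
  induction m with
  | zero => rw [wtIdeal_zero]; trivial
  | succ m ih =>
    have hc : weightedHomogeneousComponent (fun p : (ι₀ ⊕ Unit) × ℕ => p.2 + 1) m z =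
        rename (goodIncl D) (weightedHomogeneousComponent w m q) := by
      have e : ∀ p : MvPolynomial ((ι₀ × ℕ) ⊕ Fin D) K,
          rename (goodIncl D) p = aeval (fun i => MvPolynomial.X (goodIncl D i)) p := fun p => by
        induction p using MvPolynomial.induction_on with
        | C c => simp
        | add p q hp hq => simp only [map_add, hp, hq]
        | mul_X p i hp => simp [hp]
      rw [hz, e, e]
      exact component_aeval w _ (fun i => MvPolynomial.X (goodIncl D i))
        (fun i => isWeightedHomogeneous_X K _ _) q m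
    have h0 : weightedHomogeneousComponent w m q = 0 := by
      apply MvPolynomial.map_injective (jK K) (jK_injective K)
      apply rootEsymm_injective (ι₀ := ι₀) (RatK K) D
      rw [map_zero, map_zero, ← rootInv_rootMap_lead, ← hc, ← coeff_theta ih]
      have := congrArg (PowerSeries.coeff m) h
      rw [rootSer, PowerSeries.coeff_map, map_zero] at this
      exact (congrArg (rootInv ι₀ K D) this).trans (map_zero _)
    intro s hs
    rcases Nat.lt_succ_iff_lt_or_eq.1 hs with hlt | heq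
    · exact ih s hlt
    · classical
      have := congrArg (coeff s) hc
      rw [h0, map_zero, coeff_weightedHomogeneousComponent, coeff_zero] at this
      unfold wt at heq
      rwa [if_pos heq] at this

/-- The ideal of the γ^{l+1} n, l ≥ D, of the distinguished variable. -/
def rankIdeal (ι₀ : Type w) (K : Type u) [CommRing K] (D : ℕ) : Ideal (Free (ι₀ ⊕ Unit) K) :=
  Ideal.span (MvPolynomial.X '' {p : (ι₀ ⊕ Unit) × ℕ | p.1 = Sum.inr () ∧ D ≤ p.2})

theorem rootSer_theta_of_mem {D : ℕ} {z : Free (ι₀ ⊕ Unit) K} (hz : z ∈ rankIdeal ι₀ K D) :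
    rootSer ι₀ K D (theta z) = 0 := by
  suffices rankIdeal ι₀ K D ≤ RingHom.ker ((rootSer ι₀ K D).comp theta) from this hz
  rw [rankIdeal, Ideal.span_le]
  rintro _ ⟨⟨a, l⟩, ⟨ha, hl⟩, rfl⟩
  obtain rfl : a = Sum.inr () := ha
  exact rootSer_theta_inr_eq_zero hl

theorem mem_rankIdeal_of_rootSer {D : ℕ} {z : Free (ι₀ ⊕ Unit) K}
    (h : rootSer ι₀ K D (theta z) = 0) : z ∈ rankIdeal ι₀ K D := by
  set kill : Free (ι₀ ⊕ Unit) K →ₐ[K] MvPolynomial ((ι₀ × ℕ) ⊕ Fin D) K :=
    aeval fun p => match p with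
      | (Sum.inl a, l) => MvPolynomial.X (Sum.inl (a, l))
      | (Sum.inr _, l) => if hl : l < D then MvPolynomial.X (Sum.inr ⟨l, hl⟩) else 0 with hkill
  have key : ∀ y : Free (ι₀ ⊕ Unit) K, y - rename (goodIncl D) (kill y) ∈ rankIdeal ι₀ K D := by
    intro y
    induction y using MvPolynomial.induction_on with
    | C c => simp [kill]
    | add p q hp hq => rw [map_add, map_add, add_sub_add_comm]; exact add_mem hp hq
    | mul_X p i hp =>
      rw [map_mul, map_mul]
      have hi : MvPolynomial.X i - rename (goodIncl D) (kill (MvPolynomial.X i)) ∈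
          rankIdeal ι₀ K D := by
        obtain ⟨a | a, l⟩ := i
        · simp [kill, goodIncl]
        · by_cases hl : l < D
          · simp [kill, goodIncl, hl]
          · simp only [kill, aeval_X, hl, dite_false, map_zero, sub_zero]
            exact Ideal.subset_span ⟨_, ⟨rfl, by omega⟩, rfl⟩
      have e : p * MvPolynomial.X i - rename (goodIncl D) (kill p) *
          rename (goodIncl D) (kill (MvPolynomial.X i)) =
          (p - rename (goodIncl D) (kill p)) * MvPolynomial.X i + rename (goodIncl D) (kill p) *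
            (MvPolynomial.X i - rename (goodIncl D) (kill (MvPolynomial.X i))) := by ring
      rw [e]
      exact add_mem (Ideal.mul_mem_right _ _ hp) (Ideal.mul_mem_left _ _ hi)
  have h0 : kill z = 0 := by
    apply eq_zero_of_rootSer_theta
    have := rootSer_theta_of_mem (key z)
    rwa [map_sub, map_sub, h, zero_sub, neg_eq_zero] at this
  simpa [h0] using key z

theorem lam_mem_rankIdeal {D : ℕ} {z : Free (ι₀ ⊕ Unit) K} (hz : z ∈ rankIdeal ι₀ K D) {n : ℕ}
    (hn : n ≠ 0) : LambdaOps.lam n z ∈ rankIdeal ι₀ K D := by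
  apply mem_rankIdeal_of_rootSer
  rw [theta_lam, rootSer_lam, rootSer_theta_of_mem hz, lam_zero_right hn]

theorem gamma_mem_rankIdeal {D : ℕ} {z : Free (ι₀ ⊕ Unit) K} (hz : z ∈ rankIdeal ι₀ K D) {n : ℕ}
    (hn : n ≠ 0) : gamma n z ∈ rankIdeal ι₀ K D := by
  apply mem_rankIdeal_of_rootSer
  rw [theta_gamma, rootSer_gamma, rootSer_theta_of_mem hz, gamma_zero_right hn]

variable {A : Type v} [CommRing A] [LambdaOps A] [Algebra K A]

theorem exists_evalFree_eq_top_mul {d : ℕ} (hd : 1 ≤ d) (v : ι₀ → A) (N : A)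
    (hN : ∀ l, d ≤ l → gamma (l + 1) N = 0) {m : ℕ} {z : Free (ι₀ ⊕ Unit) K}
    (hz : z ∈ rankIdeal ι₀ K (d - 1)) (hzw : z ∈ wtIdeal (ι₀ ⊕ Unit) K m) :
    ∃ q ∈ wtIdeal (ι₀ ⊕ Unit) K (m - d),
      evalFree (K := K) (Sum.elim v fun _ => N) z =
        gamma d N * evalFree (K := K) (Sum.elim v fun _ => N) q := by
  classical
  set φ := evalFree (K := K) (Sum.elim v fun _ => N) with hφ
  rw [rankIdeal, mem_ideal_span_X_image] at hz
  rw [as_sum z, map_sum]
  refine Finset.sum_induction _ (fun y => ∃ q ∈ wtIdeal (ι₀ ⊕ Unit) K (m - d), y = gamma d N * φ q)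
    ?_ ⟨0, zero_mem _, by simp⟩ fun s hs => ?_
  · rintro a b ⟨p, hp, rfl⟩ ⟨q, hq, rfl⟩
    exact ⟨p + q, add_mem hp hq, by rw [map_add, mul_add]⟩
  obtain ⟨⟨a, l⟩, ⟨ha, hl⟩, hne⟩ := hz s hs
  obtain rfl : a = Sum.inr () := ha
  have hsplit : s = Finsupp.single (Sum.inr (), l) 1 +
      (s - Finsupp.single (Sum.inr (), l) 1) :=
    (add_tsub_cancel_of_le (Finsupp.single_le_iff.2 (Nat.one_le_iff_ne_zero.2 hne))).symm
  generalize hc : coeff s z = c
  have hw : m ≤ wt s := mem_wtIdeal_iff_support.1 hzw s hs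
  rw [hsplit, wt_add, wt_single] at hw
  rw [hsplit, monomial_single_add, pow_one, map_mul, hφ, evalFree_X]
  rcases Nat.eq_or_lt_of_le hl with heq | hlt
  · refine ⟨monomial (s - Finsupp.single (Sum.inr (), l) 1) c, monomial_mem_wtIdeal (by omega) c, ?_⟩
    show gamma (l + 1) N * _ = _
    rw [show l + 1 = d by omega]
  · refine ⟨0, zero_mem _, ?_⟩
    show gamma (l + 1) N * _ = _
    rw [hN l (by omega)]
    simp

theorem gamma_sub_natCast_vanish (h1 : LineLike (1 : A)) (N : A) (d : ℕ)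
    (hN : ∀ k, d < k → LambdaOps.lam k N = 0) (l : ℕ) (hl : d ≤ l) :
    gamma (l + 1) (N - (d : A)) = 0 :=
  gamma_sub_natCast_eq_zero h1 N d hN (Nat.lt_succ_of_le hl)

theorem lamMinusOne_eq_gamma (h1 : LineLike (1 : A)) (N : A) (d : ℕ)
    (hN : ∀ k, d < k → LambdaOps.lam k N = 0) :
    ∑ i ∈ range (d + 1), (-1 : A) ^ i * LambdaOps.lam i N =
      (-1) ^ d * gamma d (N - (d : A)) := by
  rw [gamma_top_sub_natCast h1 N d hN, ← mul_assoc, ← pow_add, Even.neg_one_pow ⟨d, rfl⟩, one_mul]

end Groth.Agent.Lib.Lambda
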