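import Groth.Agent.Lib.Lambda.Newton
import Mathlib.Algebra.Group.ForwardDiff

/-!
# The recursion for the γ-operations in terms of Adams operations
-/

set_option autoImplicit false

open PowerSeries Finset LambdaRing

noncomputable section

namespace Groth.Agent.Lib.Lambda

universe u

variable {K : Type u} [CommRing K] [LambdaOps K]

/-- The coefficients of the logarithmic derivative of γ_t. -/
def gOp (i : ℕ) (z : K) : K :=
  ∑ k ∈ range i, (-1) ^ k * (i.choose (k + 1) : K) * adamsOp (k + 1) z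

theorem derivative_uSer (R : Type*) [CommRing R] : derivative R (uSer R) = (mk 1 : R⟦X⟧) ^ 2 := by
  ext n
  rw [coeff_derivative, uSer, coeff_succ_X_mul, show (2 : ℕ) = 1 + 1 from rfl,
    mk_one_pow_eq_mk_choose_add, coeff_mk, coeff_mk, Pi.one_apply, one_mul, Nat.choose_one_right]
  push_cast
  ring

theorem coeff_uSer_pow_mul_sq (R : Type*) [CommRing R] (k l : ℕ) :
    coeff l (uSer R ^ k * (mk 1 : R⟦X⟧) ^ 2) =
      if k ≤ l then ((l + 1).choose (k + 1) : R) else 0 := by
  rw [uSer, mul_pow, mul_assoc, ← pow_add, coeff_X_pow_mul', show k + 2 = (k + 1) + 1 from rfl,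
    mk_one_pow_eq_mk_choose_add]
  split_ifs with h
  · rw [coeff_mk]
    congr 2
    omega
  · rfl

theorem derivative_gammaSeries (z : K) :
    derivative K (gammaSeries z) = (PowerSeries.mk fun l => gOp (l + 1) z) * gammaSeries z := by
  have hU := hasSubst_uSer K
  rw [gammaSeries_eq_subst, derivative_subst hU, derivative_uSer, ← logDerivSeries_mul,
    subst_mul hU, mul_right_comm]
  congr 1
  ext l
  rw [coeff_mk]
  unfold gOp
  have hcoef : ∀ a, a ≤ l → coeff a ((logDerivSeries z).subst (uSer K)) =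
      ∑ d ∈ range (l + 1), coeff d (logDerivSeries z) * coeff a (uSer K ^ d) := by
    intro a ha
    rw [coeff_subst' hU]
    simp only [smul_eq_mul]
    refine finsum_eq_sum_of_support_subset _ fun d hd => ?_
    simp only [Finset.coe_range, Set.mem_Iio]
    by_contra hlt
    apply hd
    obtain ⟨e, rfl⟩ : ∃ e, d = e + 1 := ⟨d - 1, by omega⟩
    show _ * _ = _
    rw [coeff_uSer_pow, if_neg (by omega), mul_zero]
  rw [coeff_mul, sum_congr rfl (fun p hp => by
    rw [hcoef p.1 (by rw [mem_antidiagonal] at hp; omega), sum_mul]), sum_comm]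
  refine sum_congr rfl fun d hd => ?_
  rw [mem_range] at hd
  simp only [mul_assoc]
  rw [← mul_sum, ← coeff_mul, coeff_uSer_pow_mul_sq, if_pos (by omega), coeff_logDerivSeries]
  ring

theorem succ_mul_gamma (l : ℕ) (z : K) :
    ((l : K) + 1) * gamma (l + 1) z = ∑ i ∈ range (l + 1), gOp (i + 1) z * gamma (l - i) z := by
  have h := congrArg (coeff l) (derivative_gammaSeries z)
  rw [coeff_derivative, coeff_gammaSeries, coeff_mul,
    Finset.Nat.sum_antidiagonal_eq_sum_range_succ_mk] at h
  rw [mul_comm, h]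
  simp [coeff_gammaSeries]

/-- The numbers `Σ_{k<i} (-1)^k C(i,k+1) (k+1)^r`. -/
def altPow (i r : ℕ) : ℤ :=
  ∑ k ∈ range i, (-1) ^ k * (i.choose (k + 1) : ℤ) * ((k + 1 : ℕ) : ℤ) ^ r

theorem altPow_of_ne_zero {i r : ℕ} (hr : r ≠ 0) (hri : r ≤ i) :
    altPow i r = if r = i then (-1) ^ (i + 1) * (i.factorial : ℤ) else 0 := by
  have h := fwdDiff_iter_eq_sum_shift (M := ℤ) (G := ℤ) 1 (fun x : ℤ => x ^ r) i 0
  rw [sum_range_succ'] at h
  simp only [smul_eq_mul, nsmul_one, zero_add, Nat.cast_zero, zero_pow hr, mul_zero, add_zero] at h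
  have h2 : altPow i r = (-1) ^ (i + 1) * (fwdDiff (1 : ℤ))^[i] (fun x : ℤ => x ^ r) 0 := by
    rw [h, altPow, mul_sum]
    refine sum_congr rfl fun k hk => ?_
    rw [mem_range] at hk
    rw [← mul_assoc, ← mul_assoc, ← pow_add]
    congr 2
    rw [show i + 1 + (i - (k + 1)) = k + 2 * (i - k) by omega, pow_add, pow_mul, neg_one_sq,
      one_pow, mul_one]
  rw [h2]
  split_ifs with hi
  · subst hi
    rw [fwdDiff_iter_eq_factorial]
    rfl
  · rw [fwdDiff_iter_pow_eq_zero_of_lt (lt_of_le_of_ne hri hi)]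
    simp

end Groth.Agent.Lib.Lambda
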