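import Groth.Prelude.Def_KGr
import Groth.Agent.Lib.Lambda.PosFil

/-!
# Classes in the graded ring of the γ-filtration
-/

set_option autoImplicit false

open Finset LambdaRing TensorProduct LaurentPolynomial KGr

noncomputable section

namespace Groth.Agent.Lib.Lambda

universe u

variable {K : Type u} [CommRing K] [LambdaOps K] {P : PosStructure K}

theorem mem_rees_of_mem {n : ℕ} {x : K} (hx : x ∈ gammaFiltration P n) :
    C x * T (-(n : ℤ)) ∈ rees P :=
  Subring.subset_closure (Set.mem_insert_of_mem _ ⟨n, x, hx, rfl⟩)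

/-- The class in Gr of an element of the n-th step. -/
def grZMk (n : ℕ) (x : K) (hx : x ∈ gammaFiltration P n) : GrZ P :=
  Ideal.Quotient.mk (Ideal.span {tGen P}) ⟨C x * T (-(n : ℤ)), mem_rees_of_mem hx⟩

theorem grK_eq {n : ℕ} {x : K} (hx : x ∈ gammaFiltration P n) :
    grK P (n : ℤ) x = (1 : ℚ) ⊗ₜ[ℤ] grZMk n x hx := by
  have h : ∃ N : ℕ, 1 ≤ N ∧ C ((N : K) * x) * T (-(n : ℤ)) ∈ rees P :=
    ⟨1, le_rfl, by rw [Nat.cast_one, one_mul]; exact mem_rees_of_mem hx⟩
  rw [grK, dif_pos h]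
  have hne : ((h.choose : ℕ) : ℚ) ≠ 0 := Nat.cast_ne_zero.2 (by have := h.choose_spec.1; omega)
  have hmk : Ideal.Quotient.mk (Ideal.span {tGen P})
      ⟨C ((h.choose : K) * x) * T (-(n : ℤ)), h.choose_spec.2⟩ =
      ((h.choose : ℕ) : ℤ) • grZMk n x hx := by
    rw [grZMk, ← map_zsmul]
    congr 1
    apply Subtype.ext
    show C ((h.choose : K) * x) * T (-(n : ℤ)) = ((h.choose : ℕ) : ℤ) • (C x * T (-(n : ℤ)))
    rw [zsmul_eq_mul, map_mul, map_natCast, Int.cast_natCast, mul_assoc]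
  rw [hmk, tmul_smul, smul_tmul', zsmul_eq_mul, Int.cast_natCast, mul_one_div, div_self hne]

theorem grK_add {n : ℕ} {x y : K} (hx : x ∈ gammaFiltration P n) (hy : y ∈ gammaFiltration P n) :
    grK P (n : ℤ) (x + y) = grK P (n : ℤ) x + grK P (n : ℤ) y := by
  rw [grK_eq hx, grK_eq hy, grK_eq (add_mem hx hy), ← tmul_add, grZMk, grZMk, grZMk, ← map_add]
  congr 2
  exact Subtype.ext (show C (x + y) * T (-(n : ℤ)) = C x * T (-(n : ℤ)) + C y * T (-(n : ℤ)) by
    rw [map_add, add_mul])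

theorem grK_zero (n : ℕ) : grK P (n : ℤ) (0 : K) = 0 := by
  have h := grK_add (P := P) (n := n) (zero_mem _) (zero_mem _)
  rw [add_zero] at h
  exact left_eq_add.1 h

theorem grK_zsmul {n : ℕ} {x : K} (hx : x ∈ gammaFiltration P n) (c : ℤ) :
    grK P (n : ℤ) ((c : K) * x) = (c : Gr P) * grK P (n : ℤ) x := by
  have hcx : (c : K) * x ∈ gammaFiltration P n := mul_mem_gammaFiltration_left _ hx
  rw [grK_eq hx, grK_eq hcx, ← zsmul_eq_mul ((1 : ℚ) ⊗ₜ[ℤ] grZMk n x hx) c, ← tmul_smul, grZMk,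
    grZMk, ← map_zsmul]
  congr 2
  apply Subtype.ext
  show C ((c : K) * x) * T (-(n : ℤ)) = c • (C x * T (-(n : ℤ)))
  rw [zsmul_eq_mul, map_mul, map_intCast, mul_assoc]

theorem grK_mul {a b : ℕ} {x y : K} (hx : x ∈ gammaFiltration P a) (hy : y ∈ gammaFiltration P b) :
    grK P (a : ℤ) x * grK P (b : ℤ) y = grK P ((a + b : ℕ) : ℤ) (x * y) := by
  rw [grK_eq hx, grK_eq hy, grK_eq (mul_mem_gammaFiltration hx hy),
    Algebra.TensorProduct.tmul_mul_tmul, one_mul, grZMk, grZMk, grZMk, ← map_mul]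
  congr 2
  apply Subtype.ext
  show C x * T (-(a : ℤ)) * (C y * T (-(b : ℤ))) = C (x * y) * T (-((a + b : ℕ) : ℤ))
  rw [map_mul, Nat.cast_add, neg_add, T_add]
  ring

theorem grK_zero_one : grK P ((0 : ℕ) : ℤ) (1 : K) = 1 := by
  rw [grK_eq (mem_gammaFiltration_zero _), Algebra.TensorProduct.one_def, grZMk,
    ← map_one (Ideal.Quotient.mk (Ideal.span {tGen P}))]
  congr 2
  apply Subtype.ext
  show C (1 : K) * T (-((0 : ℕ) : ℤ)) = 1
  simp

theorem grK_eq_zero_of_mem_succ {n : ℕ} {x : K} (hx : x ∈ gammaFiltration P (n + 1)) :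
    grK P (n : ℤ) x = 0 := by
  have hx' := gammaFiltration_anti (Nat.le_succ n) hx
  rw [grK_eq hx', grZMk, Ideal.Quotient.eq_zero_iff_mem.2, tmul_zero]
  refine Ideal.mem_span_singleton.2 ⟨⟨C x * T (-((n + 1 : ℕ) : ℤ)), mem_rees_of_mem hx⟩, ?_⟩
  apply Subtype.ext
  show C x * T (-(n : ℤ)) = T 1 * (C x * T (-((n + 1 : ℕ) : ℤ)))
  rw [mul_left_comm, ← T_add]
  congr 2
  push_cast
  ring

theorem grK_intCast_mul_one (c : ℤ) : grK P ((0 : ℕ) : ℤ) (c : K) = (c : Gr P) := by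
  have := grK_zsmul (P := P) (n := 0) (mem_gammaFiltration_zero 1) c
  rwa [mul_one, grK_zero_one, mul_one] at this

/-- A copy of ℚ Gr with a single ring structure. -/
def GrQ (P : PosStructure K) : Type u := Gr P

instance instCommRingGrQ : CommRing (GrQ P) := inferInstanceAs (CommRing (Gr P))

instance instAlgebraRatGrQ : Algebra ℚ (GrQ P) := inferInstanceAs (Algebra ℚ (Gr P))

/-- The identification. -/
def toQ (P : PosStructure K) : Gr P →ₐ[ℚ] GrQ P where
  toFun := id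
  map_one' := rfl
  map_mul' _ _ := rfl
  map_zero' := rfl
  map_add' _ _ := rfl
  commutes' _ := rfl

theorem toQ_injective : Function.Injective (toQ P) := fun _ _ h => h

/-- The class of an element in degree n. -/
def gq (P : PosStructure K) (n : ℕ) (x : K) : GrQ P := toQ P (grK P (n : ℤ) x)

theorem gq_add {n : ℕ} {x y : K} (hx : x ∈ gammaFiltration P n) (hy : y ∈ gammaFiltration P n) :
    gq P n (x + y) = gq P n x + gq P n y := by rw [gq, grK_add hx hy, map_add]; rfl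

theorem gq_zero (n : ℕ) : gq P n (0 : K) = 0 := by rw [gq, grK_zero, map_zero]

theorem gq_mul {a b : ℕ} {x y : K} (hx : x ∈ gammaFiltration P a) (hy : y ∈ gammaFiltration P b) :
    gq P a x * gq P b y = gq P (a + b) (x * y) := by
  rw [gq, gq, gq, ← map_mul, grK_mul hx hy]

theorem gq_zero_one : gq P 0 (1 : K) = 1 := by rw [gq, grK_zero_one, map_one]

theorem gq_intCast (c : ℤ) : gq P 0 (c : K) = (c : GrQ P) := by
  rw [gq, grK_intCast_mul_one, map_intCast]

theorem gq_eq_zero_of_mem_succ {n : ℕ} {x : K} (hx : x ∈ gammaFiltration P (n + 1)) :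
    gq P n x = 0 := by rw [gq, grK_eq_zero_of_mem_succ hx, map_zero]

/-- The degree n part of ℚ Gr. -/
def grDeg (P : PosStructure K) (n : ℕ) : Submodule ℚ (GrQ P) :=
  Submodule.span ℚ ((fun x : K => gq P n x) '' (gammaFiltration P n : Set K))

theorem gq_mem_grDeg {n : ℕ} {x : K} (hx : x ∈ gammaFiltration P n) :
    gq P n x ∈ grDeg P n := Submodule.subset_span ⟨x, hx, rfl⟩

theorem one_mem_grDeg : (1 : GrQ P) ∈ grDeg P 0 := by
  rw [← gq_zero_one (P := P)]
  exact gq_mem_grDeg (mem_gammaFiltration_zero _)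

theorem mul_mem_grDeg {a b : ℕ} {x y : GrQ P} (hx : x ∈ grDeg P a) (hy : y ∈ grDeg P b) :
    x * y ∈ grDeg P (a + b) := by
  suffices grDeg P a * grDeg P b ≤ grDeg P (a + b) from this (Submodule.mul_mem_mul hx hy)
  rw [grDeg, grDeg, Submodule.span_mul_span, Submodule.span_le]
  rintro z ⟨_, ⟨x, hx, rfl⟩, _, ⟨y, hy, rfl⟩, rfl⟩
  show gq P a x * gq P b y ∈ grDeg P (a + b)
  rw [gq_mul hx hy]
  exact gq_mem_grDeg (mul_mem_gammaFiltration hx hy)

theorem grDeg_eq_zero {d : ℕ} (hd : gammaFiltration P (d + 1) = ⊥) {n : ℕ} (hn : d < n) {z : GrQ P}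
    (hz : z ∈ grDeg P n) : z = 0 := by
  suffices grDeg P n = ⊥ by rwa [this, Submodule.mem_bot] at hz
  rw [grDeg, Submodule.span_eq_bot]
  rintro _ ⟨x, hx, rfl⟩
  have h : x ∈ gammaFiltration P (d + 1) := gammaFiltration_anti hn hx
  rw [hd, AddSubgroup.mem_bot] at h
  subst h
  exact gq_zero n

end Groth.Agent.Lib.Lambda
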