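import Groth.Agent.Lib.Lambda.PosFil
import Groth.Prelude.Def_W4bkmilneecrracsp2Inv

/-!
# Involutions and top γ-operations
-/

set_option autoImplicit false

open Finset LambdaRing

noncomputable section

namespace Groth.Agent.Lib.Lambda

universe u

theorem esymm_eq_esymm_inv_mul_prod {A : Type u} [CommRing A] (w : A → A) (s : Multiset A)
    (hw : ∀ a ∈ s, w a * a = 1) (i : ℕ) (hi : i ≤ Multiset.card s) :
    s.esymm i = (s.map w).esymm (Multiset.card s - i) * s.prod := by
  induction s using Multiset.induction_on generalizing i with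
  | empty =>
    obtain rfl : i = 0 := by simpa using hi
    simp [Multiset.esymm]
  | cons a s ih =>
    have hwa := hw a (Multiset.mem_cons_self a s)
    have hws : ∀ b ∈ s, w b * b = 1 := fun b hb => hw b (Multiset.mem_cons_of_mem hb)
    rw [Multiset.card_cons] at hi ⊢
    rw [Multiset.map_cons, Multiset.prod_cons]
    match i with
    | 0 =>
      rw [esymm_zero_eq_one, Nat.sub_zero, esymm_cons_succ,
        esymm_eq_zero_of_card_lt (s.map w) (by simp), zero_add]
      have := ih hws 0 (Nat.zero_le _)
      rw [esymm_zero_eq_one, Nat.sub_zero] at this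
      calc (1 : A) = (w a * a) * 1 := by rw [hwa, mul_one]
        _ = _ := by rw [this]; ring
    | i + 1 =>
      rw [esymm_cons_succ, Nat.add_sub_add_right, ih hws i (by omega)]
      rcases Nat.lt_or_ge i (Multiset.card s) with hlt | hge
      · rw [ih hws (i + 1) hlt]
        obtain ⟨k, hk⟩ : ∃ k, Multiset.card s - i = k + 1 :=
          ⟨Multiset.card s - i - 1, by omega⟩
        rw [hk, esymm_cons_succ, show Multiset.card s - (i + 1) = k by omega]
        linear_combination -((s.map w).esymm k * s.prod) * hwa
      · rw [esymm_eq_zero_of_card_lt s (Nat.lt_succ_of_le hge),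
          show Multiset.card s - i = 0 by omega, esymm_zero_eq_one, esymm_zero_eq_one]
        ring

theorem sum_neg_one_pow_esymm {A : Type u} [CommRing A] (s : Multiset A) (n : ℕ)
    (hn : Multiset.card s ≤ n) :
    ∑ i ∈ range (n + 1), (-1) ^ i * s.esymm i = (s.map fun a => 1 - a).prod := by
  induction s using Multiset.induction_on generalizing n with
  | empty =>
    rw [sum_range_succ', sum_eq_zero (fun i _ => by rw [esymm_eq_zero_of_card_lt _ (by simp)]; simp)]
    simp [esymm_zero_eq_one]
  | cons a s ih =>
    rw [Multiset.card_cons] at hn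
    obtain ⟨k, rfl⟩ : ∃ k, n = k + 1 := ⟨n - 1, by omega⟩
    rw [sum_range_succ', Multiset.map_cons, Multiset.prod_cons]
    simp only [esymm_cons_succ, mul_add, sum_add_distrib]
    have h1 : ∑ i ∈ range (k + 1), (-1 : A) ^ (i + 1) * (a * s.esymm i) =
        -a * ∑ i ∈ range (k + 1), (-1) ^ i * s.esymm i := by
      rw [mul_sum]
      refine sum_congr rfl fun i _ => ?_
      rw [pow_succ]
      ring
    have h2 := ih (k + 1) (by omega)
    rw [sum_range_succ', esymm_zero_eq_one] at h2
    rw [h1, esymm_zero_eq_one, ih k (by omega)]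
    linear_combination h2

theorem prod_sub_one_eq {A : Type u} [CommRing A] (w : A → A) (s : Multiset A)
    (hw : ∀ a ∈ s, w a * a = 1) :
    (s.map fun a => a - 1).prod = ((s.map w).map fun a => 1 - a).prod * s.prod := by
  induction s using Multiset.induction_on with
  | empty => simp
  | cons a s ih =>
    simp only [Multiset.map_cons, Multiset.prod_cons]
    rw [ih fun b hb => hw b (Multiset.mem_cons_of_mem hb)]
    linear_combination
      (((s.map w).map fun x => 1 - x).prod * s.prod) * hw a (Multiset.mem_cons_self a s)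

variable {K : Type u} [CommRing K] [LambdaOps K] {P : PosStructure K} {inv : K → K}

theorem exists_inv_split (hV : IsInvolution P inv) (hS : HasInvSplitting P inv) {e : K}
    (he : e ∈ P.pos) :
    ∃ (L : PosLambdaRing.{u}) (w : L.carrier → L.carrier) (f : K →+* L.carrier)
      (s : Multiset L.carrier), IsExtension P L.posStr f ∧
        (∀ u ∈ s, L.posStr.IsLine u) ∧ s.sum = f e ∧
        (∀ u ∈ s, w u * u = 1) ∧ (∀ u ∈ s, L.posStr.IsLine (w u)) ∧
        (s.map w).sum = f (inv e) ∧ Multiset.card s = (P.aug e).toNat := by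
  obtain ⟨L, w, f, hf, hw, hfw, s, hs, hse⟩ := hS e he
  refine ⟨L, w, f, s, hf, hs, hse, fun u hu => hw.inv_mul_self u (hs u hu),
    fun u hu => hw.inv_line u (hs u hu), ?_, card_eq_toNat_aug hf hs hse⟩
  rw [hfw, ← hse]
  exact (map_multiset_sum (AddMonoidHom.mk' w hw.map_add) s).symm

end Groth.Agent.Lib.Lambda
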