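import Groth.Prelude.Def_KRR
import Groth.Agent.Lib.Lambda.SplitSpecial

/-!
# The determinant and `Gr¹` of the γ-filtration
-/

set_option autoImplicit false

open PowerSeries Finset LambdaRing Groth.Agent.Lib.Lambda

noncomputable section

namespace Groth.Agent.Lib.Lambda.LineGr1

universe v

variable {K : Type v} [CommRing K] [LambdaOps K] {P : PosStructure K}

/-- The top exterior power. -/
def det (P : PosStructure K) (e : K) : K := LambdaOps.lam (P.aug e).toNat e

theorem map_det {L : Type v} [CommRing L] [LambdaOps L] {Q : PosStructure L} {f : K →+* L}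
    (hf : IsExtension P Q f) (e : K) : f (det P e) = det Q (f e) := by
  rw [det, det, hf.aug_comp, hf.isLambdaHom]

theorem det_sum_lines {s : Multiset K} (hs : ∀ u ∈ s, P.IsLine u) : det P s.sum = s.prod := by
  rw [det, aug_sum_lines hs, Int.toNat_natCast, lam_sum_lineLike s (lineLike_of_forall_isLine hs),
    esymm_card_eq_prod]

theorem isUnit_det {e : K} (he : e ∈ P.pos) : IsUnit (det P e) := P.isUnit_lam e he

theorem det_line {u : K} (hu : P.IsLine u) : det P u = u := by
  rw [det, hu.2, show (1 : ℤ).toNat = 1 from rfl, LambdaOps.lam_one]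

theorem det_add (hK : HasSplitting K P) {a b : K} (ha : a ∈ P.pos) (hb : b ∈ P.pos) :
    det P (a + b) = det P a * det P b := by
  obtain ⟨L, f, -, hf, hs⟩ := exists_split hK [a, b] (by simp [ha, hb])
  obtain ⟨sa, hsa, hsa'⟩ := hs a (by simp)
  obtain ⟨sb, hsb, hsb'⟩ := hs b (by simp)
  apply hf.injective
  rw [map_mul, map_det hf, map_det hf, map_det hf, map_add, ← hsa', ← hsb', ← Multiset.sum_add,
    det_sum_lines hsa, det_sum_lines hsb, det_sum_lines (fun u hu => ?_), Multiset.prod_add]
  exact (Multiset.mem_add.mp hu).elim (hsa u) (hsb u)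

theorem det_mul (hK : HasSplitting K P) {a b : K} (ha : a ∈ P.pos) (hb : b ∈ P.pos) :
    det P (a * b) = det P a ^ (P.aug b).toNat * det P b ^ (P.aug a).toNat := by
  obtain ⟨L, f, -, hf, hs⟩ := exists_split hK [a, b] (by simp [ha, hb])
  obtain ⟨sa, hsa, hsa'⟩ := hs a (by simp)
  obtain ⟨sb, hsb, hsb'⟩ := hs b (by simp)
  apply hf.injective
  rw [map_mul f (det P a ^ _), map_pow, map_pow, map_det hf, map_det hf, map_det hf, map_mul, ← hsa', ← hsb',
    ← card_eq_toNat_aug hf hsa hsa', ← card_eq_toNat_aug hf hsb hsb', det_sum_lines hsa,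
    det_sum_lines hsb]
  have hprod : ∀ s : Multiset L.carrier, (∀ u ∈ s, L.posStr.IsLine u) →
      ∃ p : Multiset L.carrier, (∀ u ∈ p, L.posStr.IsLine u) ∧ p.sum = s.sum * sb.sum ∧
        p.prod = s.prod ^ Multiset.card sb * sb.prod ^ Multiset.card s := by
    intro s hsl
    induction s using Multiset.induction_on with
    | empty => exact ⟨0, by simp, by simp, by simp⟩
    | cons u s ih =>
      obtain ⟨p, hp, hp1, hp2⟩ := ih fun v hv => hsl v (Multiset.mem_cons_of_mem hv)
      have hu := hsl u (Multiset.mem_cons_self u s)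
      refine ⟨sb.map (u * ·) + p, ?_, ?_, ?_⟩
      · intro v hv
        rcases Multiset.mem_add.mp hv with hv | hv
        · obtain ⟨w, hw, rfl⟩ := Multiset.mem_map.1 hv
          exact IsLine.mul hu (hsb w hw)
        · exact hp v hv
      · rw [Multiset.sum_add, hp1, Multiset.sum_map_mul_left, Multiset.map_id', Multiset.sum_cons,
          add_mul]
      · rw [Multiset.prod_add, hp2, Multiset.prod_map_mul, Multiset.map_const',
          Multiset.prod_replicate, Multiset.map_id', Multiset.prod_cons, Multiset.card_cons, mul_pow,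
          pow_succ]
        ring
  obtain ⟨p, hp, hp1, hp2⟩ := hprod sa hsa
  rw [← hp1, det_sum_lines hp, hp2]

variable (P) in
/-- The determinant of a positive element as a unit. -/
def detU {e : K} (he : e ∈ P.pos) : Kˣ := (isUnit_det he).unit

@[simp] theorem coe_detU {e : K} (he : e ∈ P.pos) : (detU P he : K) = det P e := IsUnit.unit_spec _

theorem exists_delta (hK : HasSplitting K P) :
    ∃ δ : K → Kˣ, (∀ e ∈ P.pos, (δ e : K) = det P e) ∧ (∀ x y, δ (x + y) = δ x * δ y) ∧
      ∀ x y, δ (x * y) = δ x ^ P.aug y * δ y ^ P.aug x := by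
  choose A B hA hB hAB using P.exists_sub
  set δ : K → Kˣ := fun x => detU P (hA x) * (detU P (hB x))⁻¹ with hδ
  have hadd : ∀ {a b : K} (ha : a ∈ P.pos) (hb : b ∈ P.pos),
      detU P (P.add_mem a b ha hb) = detU P ha * detU P hb := fun ha hb =>
    Units.ext (by simp [det_add hK ha hb])
  have hwd : ∀ {x a b : K} (ha : a ∈ P.pos) (hb : b ∈ P.pos), x = a - b →
      δ x = detU P ha * (detU P hb)⁻¹ := by
    intro x a b ha hb h
    rw [hδ, _root_.eq_mul_inv_iff_mul_eq, mul_right_comm, mul_inv_eq_iff_eq_mul, ← hadd, ← hadd]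
    refine Units.ext ?_
    rw [coe_detU, coe_detU]
    congr 1
    linear_combination h - hAB x
  clear_value δ
  clear hδ
  have hadd' : ∀ x y, δ (x + y) = δ x * δ y := by
    intro x y
    rw [hwd (P.add_mem _ _ (hA x) (hA y)) (P.add_mem _ _ (hB x) (hB y))
        (by linear_combination hAB x + hAB y),
      hwd (hA x) (hB x) (hAB x), hwd (hA y) (hB y) (hAB y), hadd, hadd, mul_inv]
    exact mul_mul_mul_comm _ _ _ _
  have hpos : ∀ e ∈ P.pos, (δ e : K) = det P e := by
    intro e he
    rw [hwd (P.add_mem e e he he) he (by ring), hadd he he, mul_inv_cancel_right, coe_detU]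
  refine ⟨δ, hpos, hadd', ?_⟩
  have hmulpos : ∀ a ∈ P.pos, ∀ b ∈ P.pos, δ (a * b) = δ a ^ P.aug b * δ b ^ P.aug a := by
    intro a ha b hb
    refine Units.ext ?_
    rw [← toNat_aug_cast P ha, ← toNat_aug_cast P hb, zpow_natCast, zpow_natCast, Units.val_mul,
      Units.val_pow_eq_pow_val, Units.val_pow_eq_pow_val, hpos _ (P.mul_mem a b ha hb),
      hpos a ha, hpos b hb, det_mul hK ha hb]
  have hext : ∀ (F G : K → Kˣ), (∀ x y, F (x + y) = F x * F y) → (∀ x y, G (x + y) = G x * G y) →
      (∀ e ∈ P.pos, F e = G e) → ∀ x, F x = G x := by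
    intro F G hF hG h x
    obtain ⟨a, b, ha, hb, rfl⟩ := P.exists_sub x
    have e1 := hF (a - b) b
    have e2 := hG (a - b) b
    rw [sub_add_cancel] at e1 e2
    rw [h a ha, h b hb, e2] at e1
    exact (mul_right_cancel e1).symm
  intro x y
  refine hext (fun x => δ (x * y)) (fun x => δ x ^ P.aug y * δ y ^ P.aug x)
    (fun a b => by rw [add_mul, hadd']) (fun a b => by
      show δ (a + b) ^ _ * δ y ^ P.aug (a + b) = _
      rw [hadd', map_add, mul_zpow, zpow_add]
      exact mul_mul_mul_comm _ _ _ _) (fun e he => ?_) x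
  refine hext (fun y => δ (e * y)) (fun y => δ e ^ P.aug y * δ y ^ P.aug e)
    (fun a b => by rw [mul_add, hadd']) (fun a b => by
      show δ e ^ P.aug (a + b) * δ (a + b) ^ _ = _
      rw [hadd', map_add, mul_zpow, zpow_add]
      exact mul_mul_mul_comm _ _ _ _) (fun b hb => hmulpos e he b hb) y

theorem sum_gamma_sub_aug (e : K) (he : e ∈ P.pos) :
    ∑ k ∈ range ((P.aug e).toNat + 1), gamma k (e - ((P.aug e).toNat : K)) = det P e := by
  set m := (P.aug e).toNat with hm
  have hlam : ∀ i, m < i → LambdaOps.lam i e = 0 := lam_eq_zero_of_toNat_lt P he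
  have h1 := lineLike_one_of_pos P
  rw [sum_congr rfl (fun k _ => gamma_sub_natCast_of_rank h1 e m hlam k), sum_comm]
  rw [det, ← hm, sum_eq_single m]
  · rw [sum_eq_single m]
    · simp
    · intro k hk hne
      simp at hk
      rw [if_neg (by omega)]
    · simp
  · intro i hi hne
    simp at hi
    obtain ⟨d, hd⟩ : ∃ d, m = i + (d + 1) := ⟨m - i - 1, by omega⟩
    rw [hd, show i + (d + 1) + 1 = i + (d + 2) by omega, sum_range_add, sum_eq_zero (fun k hk => by
      simp at hk; rw [if_neg (by omega)]), zero_add]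
    simp only [Nat.le_add_right, if_true, Nat.add_sub_cancel_left]
    rw [← sum_mul]
    convert zero_mul (LambdaOps.lam i e) using 2
    have := (Commute.all (-1 : K) 1).add_pow (d + 1)
    rw [neg_add_cancel, zero_pow (Nat.succ_ne_zero d)] at this
    rw [this]
    exact sum_congr rfl fun k _ => by rw [one_pow, mul_one]
  · simp

/-- A homomorphism to units respecting products kills the products in `F²`. -/
theorem delta_eq_one_of_mem_two (hK : HasSplitting K P) {δ : K → Kˣ}
    (hpos : ∀ e ∈ P.pos, (δ e : K) = det P e) (hadd : ∀ x y, δ (x + y) = δ x * δ y)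
    (hmul : ∀ x y, δ (x * y) = δ x ^ P.aug y * δ y ^ P.aug x) {z : K}
    (hz : z ∈ gammaFiltration P 2) : δ z = 1 := by
  have h0 : δ 0 = 1 := by
    have := hadd 0 0
    rwa [add_zero, left_eq_mul] at this
  have hneg : ∀ x, δ (-x) = (δ x)⁻¹ := fun x => by
    have := hadd x (-x)
    rw [add_neg_cancel, h0] at this
    exact eq_inv_of_mul_eq_one_right this.symm
  have hsum : ∀ {ι : Type} (s : Finset ι) (F : ι → K), (∀ i ∈ s, δ (F i) = 1) →
      δ (∑ i ∈ s, F i) = 1 := by
    intro ι s F hF
    classical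
    induction s using Finset.induction_on with
    | empty => simpa using h0
    | insert a s ha ih =>
      rw [sum_insert ha, hadd, hF a (mem_insert_self a s), one_mul,
        ih fun i hi => hF i (mem_insert_of_mem hi)]
  have hprod : ∀ {x y : K}, P.aug x = 0 → P.aug y = 0 → δ (x * y) = 1 := fun hx hy => by
    rw [hmul, hx, hy, zpow_zero, zpow_zero, one_mul]
  have haug : ∀ {x : K}, P.aug x = 0 → ∀ r, 1 ≤ r → P.aug (gamma r x) = 0 := by
    intro x hx r hr
    obtain ⟨r, rfl⟩ := Nat.exists_eq_add_of_le' hr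
    exact aug_gamma_eq_zero_pos hK hx r
  have hgpos : ∀ e ∈ P.pos, ∀ r, 2 ≤ r → δ (gamma r (e - ((P.aug e).toNat : K))) = 1 := by
    intro e he r hr
    obtain ⟨L, f, hL, hf, hs⟩ := exists_split hK [e] (by simp [he])
    obtain ⟨s, hsl, hse⟩ := hs e (by simp)
    set y := gamma r (e - ((P.aug e).toNat : K)) with hy
    obtain ⟨a, b, ha, hb, hab⟩ := P.exists_sub y
    have hδy : δ y * δ b = δ a := by rw [← hadd, hab, sub_add_cancel]
    have hfy : f y = (s.map fun u => u - 1).esymm r := by
      rw [hy, map_gamma f hf.isLambdaHom, map_sub, map_natCast, ← hse,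
        ← card_eq_toNat_aug hf hsl hse,
        gamma_sum_sub_card (lineLike_one_of_pos L.posStr) s (lineLike_of_forall_isLine hsl)]
    -- in the splitting the determinant is trivial
    suffices hd : det L.posStr (f a) = det L.posStr (f b) by
      have h : det P a = det P b := hf.injective (by rw [map_det hf, map_det hf, hd])
      have : δ a = δ b := Units.ext (by rw [hpos a ha, hpos b hb, h])
      rwa [this, mul_eq_right] at hδy
    obtain ⟨δ', hpos', hadd', hmul'⟩ := exists_delta (P := L.posStr) hL
    have h0' : δ' 0 = 1 := by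
      have := hadd' 0 0
      rwa [add_zero, left_eq_mul] at this
    have hfy' : δ' (f y) = 1 := by
      rw [hfy, Multiset.esymm]
      have hall : ∀ t ∈ (s.map fun u => u - 1).powersetCard r, δ' t.prod = 1 := by
        intro t ht
        obtain ⟨hle, hcard⟩ := Multiset.mem_powersetCard.1 ht
        obtain ⟨x, hx⟩ := Multiset.card_pos_iff_exists_mem.1 (by omega : 0 < Multiset.card t)
        obtain ⟨t', rfl⟩ := Multiset.exists_cons_of_mem hx
        rw [Multiset.card_cons] at hcard
        obtain ⟨y', hy'⟩ := Multiset.card_pos_iff_exists_mem.1 (by omega : 0 < Multiset.card t')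
        have hz0 : ∀ w ∈ x ::ₘ t', L.posStr.aug w = 0 := by
          intro w hw
          obtain ⟨u, hu, rfl⟩ := Multiset.mem_map.1 (Multiset.mem_of_le hle hw)
          rw [map_sub, (hsl u hu).2, map_one, sub_self]
        obtain ⟨t'', rfl⟩ := Multiset.exists_cons_of_mem hy'
        rw [Multiset.prod_cons, Multiset.prod_cons, hmul', map_mul, hz0 x (by simp),
          hz0 y' (by simp), zero_mul, zpow_zero, zpow_zero, one_mul]
      revert hall
      generalize (s.map fun u => u - 1).powersetCard r = W
      intro hall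
      induction W using Multiset.induction_on with
      | empty => simpa using h0'
      | cons w ws ih =>
        rw [Multiset.map_cons, Multiset.sum_cons, hadd', hall w (Multiset.mem_cons_self w ws),
          one_mul, ih fun t ht => hall t (Multiset.mem_cons_of_mem ht)]
    have h2 : δ' (f y) * δ' (f b) = δ' (f a) := by rw [← hadd', hab, map_sub, sub_add_cancel]
    rw [hfy', one_mul] at h2
    rw [← hpos' _ (hf.pos_subset a ha), ← hpos' _ (hf.pos_subset b hb), h2]
  have hgneg : ∀ e ∈ P.pos, ∀ r, 2 ≤ r → δ (gamma r (-(e - ((P.aug e).toNat : K)))) = 1 := by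
    intro e he r hr
    obtain ⟨k, rfl⟩ := Nat.exists_eq_add_of_le' (show 1 ≤ r by omega)
    have haug0 : P.aug (e - ((P.aug e).toNat : K)) = 0 := by
      rw [map_sub, map_natCast, toNat_aug_cast P he, sub_self]
    rw [gamma_neg, hneg, inv_eq_one]
    refine hsum _ _ fun i hi => ?_
    simp at hi
    rcases eq_or_lt_of_le hi with rfl | hlt
    · rw [Nat.sub_self, gamma_zero_left, mul_one]
      exact hgpos e he _ hr
    · exact hprod (haug haug0 _ (by omega)) (haug (by rw [map_neg, haug0, neg_zero]) _ (by omega))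
  have hgamma : ∀ x, P.aug x = 0 → ∀ r, 2 ≤ r → δ (gamma r x) = 1 := by
    intro x hx r hr
    obtain ⟨a, b, ha, hb, rfl⟩ := P.exists_sub x
    have hab : (P.aug a).toNat = (P.aug b).toNat := by
      rw [map_sub, sub_eq_zero] at hx; rw [hx]
    have haug0 : ∀ e ∈ P.pos, P.aug (e - ((P.aug e).toNat : K)) = 0 := fun e he => by
      rw [map_sub, map_natCast, toNat_aug_cast P he, sub_self]
    rw [show a - b = (a - ((P.aug a).toNat : K)) + -(b - ((P.aug b).toNat : K)) by rw [hab]; ring,
      gamma_add]
    refine hsum _ _ fun i hi => ?_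
    simp at hi
    rcases eq_or_lt_of_le hi with rfl | hlt
    · rw [Nat.sub_self, gamma_zero_left, mul_one]
      exact hgpos a ha _ hr
    rcases Nat.eq_zero_or_pos i with rfl | hi0
    · rw [gamma_zero_left, one_mul, Nat.sub_zero]
      exact hgneg b hb _ hr
    · exact hprod (haug (haug0 a ha) _ hi0)
        (haug (by rw [map_neg, haug0 b hb, neg_zero]) _ (by omega))
  -- a product of generators
  have hlist : ∀ l : List (ℕ × K), (∀ p ∈ l, P.aug p.2 = 0) →
      (1 ≤ (l.map Prod.fst).sum → P.aug (l.map fun p => gamma p.1 p.2).prod = 0) ∧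
      (2 ≤ (l.map Prod.fst).sum → δ (l.map fun p => gamma p.1 p.2).prod = 1) := by
    intro l
    induction l with
    | nil => intro _; simp
    | cons p l ih =>
      intro hl
      obtain ⟨ih1, ih2⟩ := ih fun q hq => hl q (List.mem_cons_of_mem _ hq)
      have hp0 := hl p List.mem_cons_self
      simp only [List.map_cons, List.sum_cons, List.prod_cons]
      rcases Nat.eq_zero_or_pos p.1 with h | h
      · rw [h, gamma_zero_left, one_mul, zero_add]
        exact ⟨ih1, ih2⟩
      refine ⟨fun _ => by rw [map_mul, haug hp0 _ h, zero_mul], fun h2 => ?_⟩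
      rcases Nat.eq_zero_or_pos (l.map Prod.fst).sum with hs | hs
      · have hone : (l.map fun p => gamma p.1 p.2).prod = 1 := by
          refine List.prod_eq_one fun z hz => ?_
          obtain ⟨q, hq, rfl⟩ := List.mem_map.1 hz
          rw [List.sum_eq_zero_iff.1 hs q.1 (List.mem_map.2 ⟨q, hq, rfl⟩), gamma_zero_left]
        rw [hone, mul_one]
        exact hgamma _ hp0 _ (by omega)
      · exact hprod (haug hp0 _ h) (ih1 hs)
  rw [gammaFiltration_of_ne_zero two_ne_zero] at hz
  induction hz using AddSubgroup.closure_induction with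
  | mem y hy =>
    obtain ⟨l, hl, hn, rfl⟩ := hy
    exact (hlist l hl).2 hn
  | zero => exact h0
  | add a b _ _ ha hb => rw [hadd, ha, hb, one_mul]
  | neg a _ ha => rw [hneg, ha, inv_one]

theorem aug_eq_zero_of_mem_one (hK : HasSplitting K P) {x : K} (hx : x ∈ gammaFiltration P 1) :
    P.aug x = 0 := by
  rw [gammaFiltration_of_ne_zero one_ne_zero] at hx
  induction hx using AddSubgroup.closure_induction with
  | mem y hy =>
    obtain ⟨l, hl, hn, rfl⟩ := hy
    obtain ⟨q, hq, hq1⟩ : ∃ q ∈ l, q.1 ≠ 0 := by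
      by_contra h
      push Not at h
      have : (l.map Prod.fst).sum = 0 := List.sum_eq_zero (fun z hz => by
        obtain ⟨q, hq, rfl⟩ := List.mem_map.1 hz
        exact h q hq)
      omega
    rw [map_list_prod, List.prod_eq_zero_iff]
    obtain ⟨r, hr⟩ := Nat.exists_eq_add_of_le' (Nat.pos_of_ne_zero hq1)
    refine List.mem_map.2 ⟨_, List.mem_map.2 ⟨q, hq, rfl⟩, ?_⟩
    rw [hr]
    exact aug_gamma_eq_zero_pos hK (hl q hq) r
  | zero => simp
  | add a b _ _ ha hb => rw [map_add, ha, hb, add_zero]
  | neg a _ ha => rw [map_neg, ha, neg_zero]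

theorem lineElements_gr1 (hK : HasSplitting K P)
    (hLinv : ∀ w : K, P.IsLine w → ∃ w' : K, P.IsLine w' ∧ w * w' = 1)
    (hdet : ∀ e : K, e ∈ P.pos → LambdaOps.lam (P.aug e).toNat e ∈ P.pos) :
    (∀ x : K, x ∈ gammaFiltration P 1 → ∃ u : K, P.IsLine u ∧ x - (u - 1) ∈ gammaFiltration P 2) ∧
    ∀ u v : K, P.IsLine u → P.IsLine v → u - v ∈ gammaFiltration P 2 → u = v := by
  constructor
  · intro x hx
    have hx0 : P.aug x = 0 := aug_eq_zero_of_mem_one hK hx
    obtain ⟨a, b, ha, hb, rfl⟩ := P.exists_sub x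
    have hline : ∀ e ∈ P.pos, P.IsLine (det P e) := fun e he => ⟨hdet e he, by
      rw [det, aug_lam_of_split hK he, Nat.choose_self, Nat.cast_one]⟩
    have hcong : ∀ e ∈ P.pos, det P e - 1 - (e - ((P.aug e).toNat : K)) ∈ gammaFiltration P 2 := by
      intro e he
      have haug0 : P.aug (e - ((P.aug e).toNat : K)) = 0 := by
        rw [map_sub, map_natCast, toNat_aug_cast P he, sub_self]
      have hpos := P.aug_pos e he
      obtain ⟨k, hk⟩ : ∃ k, (P.aug e).toNat = k + 1 := ⟨(P.aug e).toNat - 1, by omega⟩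
      rw [← sum_gamma_sub_aug e he]
      have : ∀ y : K, ∑ i ∈ range (k + 1 + 1), gamma i y =
          (∑ i ∈ range k, gamma (i + 2) y) + y + 1 := fun y => by
        rw [sum_range_succ', sum_range_succ']
        simp [gamma_zero_left, gamma_one_left]
      rw [show (P.aug e).toNat + 1 = k + 1 + 1 by omega, this, add_sub_cancel_right,
        add_sub_cancel_right]
      exact sum_mem fun i _ => gammaFiltration_anti (by omega) (gamma_mem_gammaFiltration haug0 _)
    obtain ⟨w, hw, hw1⟩ := hLinv _ (hline b hb)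
    refine ⟨det P a * w, IsLine.mul (hline a ha) hw, ?_⟩
    have hab : ((P.aug a).toNat : K) = ((P.aug b).toNat : K) := by
      rw [map_sub, sub_eq_zero] at hx0; rw [hx0]
    have h1 := hcong a ha
    have h2 := hcong b hb
    have h3 : (det P a - det P b) * (w - 1) ∈ gammaFiltration P 2 :=
      mul_mem_gammaFiltration (m := 1) (n := 1)
        (mem_gammaFiltration_one (by rw [map_sub, (hline a ha).2, (hline b hb).2, sub_self]))
        (mem_gammaFiltration_one (by rw [map_sub, hw.2, map_one, sub_self]))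
    have := neg_mem (add_mem (sub_mem h1 h2) h3)
    convert this using 1
    rw [hab]
    linear_combination -hw1
  · intro u v hu hv huv
    obtain ⟨δ, hpos, hadd, hmul⟩ := exists_delta (P := P) hK
    have h := hadd (u - v) v
    rw [sub_add_cancel, delta_eq_one_of_mem_two hK hpos hadd hmul huv, one_mul] at h
    rw [← det_line hu, ← det_line hv, ← hpos u hu.1, ← hpos v hv.1, h]

end Groth.Agent.Lib.Lambda.LineGr1
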