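import Groth.Agent.Lib.Lambda.Adams
import Mathlib.RingTheory.Binomial
import Mathlib.Algebra.Algebra.Rat

/-!
# Newton's relations between two sequences; binomial rings
-/

set_option autoImplicit false

open PowerSeries Finset LambdaRing

noncomputable section

namespace Groth.Agent.Lib.Lambda

universe u v

variable {A : Type u} [CommRing A] {B : Type v} [CommRing B]

/-- The relation between elementary symmetric functions and power sums. -/
def NewtonRel (e p : ℕ → A) : Prop :=
  e 0 = 1 ∧ ∀ k : ℕ, ((k : A) + 1) * e (k + 1) =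
    ∑ i ∈ range (k + 1), (-1) ^ i * p (i + 1) * e (k - i)

theorem newtonRel_lam {K : Type u} [CommRing K] [LambdaOps K] (x : K) :
    NewtonRel (fun i => LambdaOps.lam i x) (fun i => adamsOp i x) :=
  ⟨LambdaOps.lam_zero x, fun k => succ_mul_lam k x⟩

theorem NewtonRel.map {e p : ℕ → A} (h : NewtonRel e p) (f : A →+* B) :
    NewtonRel (fun i => f (e i)) (fun i => f (p i)) := by
  refine ⟨by simp [h.1], fun k => ?_⟩
  have := congrArg f (h.2 k)
  simpa [map_mul, map_sum, map_pow, map_add] using this

/-- No additive torsion, in the form used here. -/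
def NatRegular (A : Type u) [CommRing A] : Prop :=
  ∀ n : ℕ, n ≠ 0 → Function.Injective fun z : A => (n : A) * z

theorem natRegular_of_algebraRat (A : Type u) [CommRing A] [Algebra ℚ A] : NatRegular A := by
  intro n hn a b h
  have hu : IsUnit (n : A) := by
    have := ((isUnit_iff_ne_zero.2 (Nat.cast_ne_zero.2 hn : (n : ℚ) ≠ 0)).map (algebraMap ℚ A))
    simpa using this
  exact hu.mul_left_cancel h

theorem natRegular_of_isAddTorsionFree (A : Type u) [CommRing A] [IsAddTorsionFree A] :
    NatRegular A := by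
  intro n hn a b h
  apply nsmul_right_injective hn
  simpa [nsmul_eq_mul] using h

theorem NatRegular.of_injective {A' : Type v} [CommRing A'] {f : A →+* A'}
    (hf : Function.Injective f) (h : NatRegular A') : NatRegular A := by
  intro n hn a b hab
  apply hf
  apply h n hn
  simpa using congrArg f hab

theorem NewtonRel.eq_e (hA : NatRegular A) {e p e' p' : ℕ → A} (h : NewtonRel e p)
    (h' : NewtonRel e' p') {N : ℕ} (hp : ∀ i, 1 ≤ i → i ≤ N → p i = p' i) :
    ∀ i, i ≤ N → e i = e' i := by
  intro i
  induction i using Nat.strong_induction_on with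
  | _ i ih =>
    intro hi
    match i with
    | 0 => rw [h.1, h'.1]
    | i + 1 =>
      apply hA (i + 1) (Nat.succ_ne_zero i)
      show ((i + 1 : ℕ) : A) * _ = ((i + 1 : ℕ) : A) * _
      rw [Nat.cast_succ, h.2 i, h'.2 i]
      refine sum_congr rfl fun j hj => ?_
      rw [mem_range] at hj
      rw [hp (j + 1) (by omega) (by omega), ih (i - j) (by omega) (by omega)]

theorem NewtonRel.eq_p {e p e' p' : ℕ → A} (h : NewtonRel e p) (h' : NewtonRel e' p') {N : ℕ}
    (he : ∀ i, i ≤ N → e i = e' i) : ∀ i, 1 ≤ i → i ≤ N → p i = p' i := by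
  intro i
  induction i using Nat.strong_induction_on with
  | _ i ih =>
    intro h1 hi
    obtain ⟨k, rfl⟩ : ∃ k, i = k + 1 := ⟨i - 1, by omega⟩
    have e1 := h.2 k
    rw [sum_range_succ, Nat.sub_self, h.1, mul_one] at e1
    have e2 := h'.2 k
    rw [sum_range_succ, Nat.sub_self, h'.1, mul_one] at e2
    have hsum : ∑ j ∈ range k, (-1) ^ j * p (j + 1) * e (k - j) =
        ∑ j ∈ range k, (-1) ^ j * p' (j + 1) * e' (k - j) := by
      refine sum_congr rfl fun j hj => ?_
      rw [mem_range] at hj
      rw [ih (j + 1) (by omega) (by omega) (by omega), he (k - j) (by omega)]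
    rw [he (k + 1) hi] at e1
    have h3 : (-1 : A) ^ k * p (k + 1) = (-1) ^ k * p' (k + 1) := by
      linear_combination -e1 + e2 - hsum
    exact (isUnit_neg_one.pow k).mul_left_cancel h3

/-- The sequence with given power sums, in a ℚ-algebra. -/
def eOfP [Algebra ℚ A] (p : ℕ → A) : ℕ → A
  | 0 => 1
  | k + 1 => ((k : ℚ) + 1)⁻¹ •
      ∑ i : Fin (k + 1), (-1) ^ (i : ℕ) * p ((i : ℕ) + 1) * eOfP p (k - (i : ℕ))

theorem newtonRel_eOfP [Algebra ℚ A] (p : ℕ → A) : NewtonRel (eOfP p) p := by
  refine ⟨by rw [eOfP], fun k => ?_⟩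
  rw [eOfP, Fin.sum_univ_eq_sum_range (fun i => (-1 : A) ^ i * p (i + 1) * eOfP p (k - i))]
  have : ((k : A) + 1) = algebraMap ℚ A ((k : ℚ) + 1) := by simp
  rw [this, Algebra.smul_def, ← mul_assoc, ← map_mul, mul_inv_cancel₀ (by positivity), map_one,
    one_mul]

/-- The power sums of a sequence. -/
def pOfE (e : ℕ → A) : ℕ → A
  | 0 => 0
  | k + 1 => (-1) ^ k * (((k : A) + 1) * e (k + 1) -
      ∑ i : Fin k, (-1) ^ (i : ℕ) * pOfE e ((i : ℕ) + 1) * e (k - (i : ℕ)))

theorem newtonRel_pOfE {e : ℕ → A} (he : e 0 = 1) : NewtonRel e (pOfE e) := by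
  refine ⟨he, fun k => ?_⟩
  rw [sum_range_succ, Nat.sub_self, he, mul_one]
  conv_rhs => arg 2; rw [pOfE]
  rw [Fin.sum_univ_eq_sum_range (fun i => (-1 : A) ^ i * pOfE e (i + 1) * e (k - i)), ← mul_assoc,
    ← pow_add, Even.neg_one_pow ⟨k, rfl⟩, one_mul, add_sub_cancel]

theorem newtonRel_iff_series {e p : ℕ → A} :
    NewtonRel e p ↔ e 0 = 1 ∧
      derivative A (PowerSeries.mk e) =
        (PowerSeries.mk fun i => (-1) ^ i * p (i + 1)) * PowerSeries.mk e := by
  refine and_congr_right fun _ => ?_
  rw [PowerSeries.ext_iff]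
  refine forall_congr' fun k => ?_
  rw [coeff_derivative, coeff_mul, Finset.Nat.sum_antidiagonal_eq_sum_range_succ_mk]
  simp [mul_comm (e (k + 1))]

theorem NewtonRel.of_mul {e p e' p' e'' : ℕ → A} (h : NewtonRel e p) (h' : NewtonRel e' p')
    (hm : PowerSeries.mk e'' = PowerSeries.mk e * PowerSeries.mk e') :
    NewtonRel e'' (fun i => p i + p' i) := by
  rw [newtonRel_iff_series] at *
  refine ⟨?_, ?_⟩
  · have := congrArg constantCoeff hm
    simpa [h.1, h'.1] using this
  · rw [hm, Derivation.leibniz, smul_eq_mul, smul_eq_mul, h.2, h'.2]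
    have : (PowerSeries.mk fun i => (-1 : A) ^ i * (p (i + 1) + p' (i + 1))) =
        (PowerSeries.mk fun i => (-1 : A) ^ i * p (i + 1)) +
          PowerSeries.mk fun i => (-1 : A) ^ i * p' (i + 1) := by
      ext n; simp [mul_add]
    rw [this]
    ring

theorem newtonRel_single (a : A) :
    NewtonRel (fun i => ({a} : Multiset A).esymm i) (fun i => a ^ i) := by
  refine ⟨esymm_zero_eq_one _, fun k => ?_⟩
  show ((k : A) + 1) * ({a} : Multiset A).esymm (k + 1) =
    ∑ i ∈ range (k + 1), (-1) ^ i * a ^ (i + 1) * ({a} : Multiset A).esymm (k - i)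
  match k with
  | 0 => simp [esymm_zero_eq_one, show ({a} : Multiset A).esymm 1 = a by
      simp [Multiset.esymm, Multiset.powersetCard_one]]
  | k + 1 =>
    rw [esymm_eq_zero_of_card_lt _ (by simp), mul_zero, sum_range_succ, sum_range_succ,
      sum_eq_zero (fun i hi => by
        rw [mem_range] at hi
        rw [esymm_eq_zero_of_card_lt _ (by simp; omega), mul_zero])]
    rw [Nat.sub_self, esymm_zero_eq_one, show k + 1 - k = 1 by omega]
    simp only [Multiset.esymm, Multiset.powersetCard_one, Multiset.map_singleton,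
      Multiset.prod_singleton, Multiset.sum_singleton]
    ring

theorem newtonRel_esymm (s : Multiset A) :
    NewtonRel (fun i => s.esymm i) (fun i => (s.map (· ^ i)).sum) := by
  induction s using Multiset.induction_on with
  | empty =>
    refine ⟨esymm_zero_eq_one _, fun k => ?_⟩
    show ((k : A) + 1) * (0 : Multiset A).esymm (k + 1) = _
    rw [esymm_eq_zero_of_card_lt _ (by simp)]
    simp
  | cons a s ih =>
    have key : PowerSeries.mk (fun i => (a ::ₘ s).esymm i) =
        PowerSeries.mk (fun i => ({a} : Multiset A).esymm i) *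
          PowerSeries.mk (fun i => s.esymm i) := by
      have e : ∀ t : Multiset A, PowerSeries.mk (fun i => t.esymm i) =
          (t.map fun b => (1 + C b * X : A⟦X⟧)).prod := by
        intro t; ext k; rw [coeff_mk, coeff_prod_one_add_C_mul_X]
      rw [e, e, e, Multiset.map_cons, Multiset.prod_cons, Multiset.map_singleton,
        Multiset.prod_singleton]
    simpa using NewtonRel.of_mul (newtonRel_single a) ih key

/-! ### Binomial rings -/

theorem natRegular_binomialRing (K : Type u) [CommRing K] [BinomialRing K] : NatRegular K :=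
  haveI := BinomialRing.toIsAddTorsionFree (R := K)
  natRegular_of_isAddTorsionFree K

theorem succ_mul_choose {K : Type u} [CommRing K] [BinomialRing K] (x : K) (k : ℕ) :
    ((k : K) + 1) * Ring.choose x (k + 1) = (x - k) * Ring.choose x k := by
  apply natRegular_binomialRing K k.factorial (Nat.factorial_ne_zero k)
  have h1 := Ring.descPochhammer_eq_factorial_smul_choose x (k + 1)
  have h2 := Ring.descPochhammer_eq_factorial_smul_choose x k
  rw [descPochhammer_succ_right, Polynomial.smeval_mul, h2, Polynomial.smeval_sub,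
    Polynomial.smeval_X, Polynomial.smeval_natCast, pow_one, pow_zero, nsmul_one,
    Nat.factorial_succ, nsmul_eq_mul, nsmul_eq_mul] at h1
  push_cast at h1
  linear_combination -h1

theorem newtonRel_choose {K : Type u} [CommRing K] [BinomialRing K] (x : K) :
    NewtonRel (fun i => Ring.choose x i) (fun _ => x) := by
  refine ⟨Ring.choose_zero_right x, fun k => ?_⟩
  induction k with
  | zero => simp [Ring.choose_one_right]
  | succ k ih =>
    rw [sum_range_succ']
    have : ∑ i ∈ range (k + 1), (-1 : K) ^ (i + 1) * x * Ring.choose x (k + 1 - (i + 1)) =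
        -((k + 1 : K) * Ring.choose x (k + 1)) := by
      rw [ih, ← sum_neg_distrib]
      refine sum_congr rfl fun i _ => ?_
      rw [Nat.add_sub_add_right, pow_succ]
      ring
    show ((k + 1 : ℕ) + 1 : K) * Ring.choose x (k + 1 + 1) = _
    rw [this, succ_mul_choose x (k + 1), pow_zero, one_mul, Nat.sub_zero]
    push_cast
    ring

theorem adamsOp_of_isBinomial {K : Type u} [CommRing K] [LambdaOps K] [BinomialRing K]
    (hKb : IsBinomial K) {k : ℕ} (hk : 1 ≤ k) (x : K) : adamsOp k x = x := by
  have h := newtonRel_lam x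
  have h' : NewtonRel (fun i => LambdaOps.lam i x) (fun _ => x) := by
    simpa [hKb _ x] using newtonRel_choose x
  exact h.eq_p h' (N := k) (fun _ _ => rfl) k hk le_rfl

end Groth.Agent.Lib.Lambda
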