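import Groth.Agent.Lib.Lambda.Series

/-!
# Elementary facts on positive structures
-/

set_option autoImplicit false

open PowerSeries Finset LambdaRing

noncomputable section

namespace Groth.Agent.Lib.Lambda

universe u

variable {K : Type u} [CommRing K] [LambdaOps K] (P : PosStructure K)

theorem one_mem_pos : (1 : K) ∈ P.pos := by simpa using P.natCast_mem 1 one_pos

theorem isLine_one : P.IsLine 1 := ⟨one_mem_pos P, map_one _⟩

theorem IsLine.lineLike {u : K} (hu : P.IsLine u) : LineLike u := by
  intro j hj
  exact P.lam_eq_zero u hu.1 j (by rw [hu.2]; exact_mod_cast hj)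

theorem lineLike_one_of_pos (P : PosStructure K) : LineLike (1 : K) :=
  IsLine.lineLike P (isLine_one P)

theorem lam_eq_zero_of_toNat_lt {e : K} (he : e ∈ P.pos) (i : ℕ) (hi : (P.aug e).toNat < i) :
    LambdaOps.lam i e = 0 := by
  refine P.lam_eq_zero e he i ?_
  have := P.aug_pos e he
  omega

theorem toNat_aug_cast {e : K} (he : e ∈ P.pos) : ((P.aug e).toNat : ℤ) = P.aug e :=
  Int.toNat_of_nonneg (P.aug_pos e he).le

end Groth.Agent.Lib.Lambda
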