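import Groth.Agent.Lib.Lambda.FreeRank
import Groth.Agent.Lib.Lambda.FreeInt

/-!
# Divisibility by λ₋₁(N)
-/

set_option autoImplicit false

open Finset LambdaRing nonZeroDivisors
open MvPolynomial hiding X

noncomputable section

namespace Groth.Agent.Lib.Lambda

universe u v

attribute [local instance] serLambdaOps freeLambdaOps

theorem lamMinusOne_dvd_lam_mul {A : Type u} [CommRing A] [LambdaOps A] (hA : IsSpecial A) (d : ℕ)
    (N : A) (hN : ∀ i : ℕ, d < i → LambdaOps.lam i N = 0) (p : ℕ) (hp : 1 ≤ p) (x : A) :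
    (∑ i ∈ range (d + 1), (-1 : A) ^ i * LambdaOps.lam i N) ∣
      LambdaOps.lam p (x * ∑ i ∈ range (d + 1), (-1 : A) ^ i * LambdaOps.lam i N) := by
  rcases Nat.eq_zero_or_pos d with rfl | hd
  · simp [LambdaOps.lam_zero]
  rw [lamMinusOne_eq_gamma hA.lam_one_eq_zero N d hN]
  set N' := N - (d : A)
  have hgen : evalFree (K := ℤ) (Sum.elim (fun _ : Unit => x) fun _ : Unit => N')
      (MvPolynomial.X (Sum.inl (), 0) * (-1) ^ d * MvPolynomial.X (Sum.inr (), d - 1)) =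
      x * ((-1) ^ d * gamma d N') := by
    rw [map_mul, map_mul, evalFree_X_zero, evalFree_X, map_pow, map_neg, map_one,
      show d - 1 + 1 = d by omega]
    simp [mul_assoc]
  set ξ : Free (Unit ⊕ Unit) ℤ :=
    MvPolynomial.X (Sum.inl (), 0) * (-1) ^ d * MvPolynomial.X (Sum.inr (), d - 1) with hξ
  have hJ : ξ ∈ rankIdeal Unit ℤ (d - 1) :=
    Ideal.mul_mem_left _ _ (Ideal.subset_span ⟨_, ⟨rfl, le_rfl⟩, rfl⟩)
  obtain ⟨q, -, hq⟩ := exists_evalFree_eq_top_mul (K := ℤ) hd (fun _ : Unit => x) N'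
    (fun l hl => gamma_sub_natCast_vanish hA.lam_one_eq_zero N d hN l hl) (m := 0)
    (lam_mem_rankIdeal hJ (n := p) (by omega)) (by rw [wtIdeal_zero]; trivial)
  rw [evalFree_lam hA (hK_int hA), hgen] at hq
  rw [hq]
  refine Dvd.intro ((-1) ^ d * evalFree (K := ℤ) (Sum.elim (fun _ : Unit => x) fun _ : Unit => N') q) ?_
  rw [show ∀ a b c : A, a * b * (a * c) = (a * a) * (b * c) from fun a b c => by ring, ← pow_add,
    Even.neg_one_pow ⟨d, rfl⟩, one_mul]

section Aug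

variable {K : Type u} [CommRing K] [LambdaOps K] [BinomialRing K]
variable {A : Type v} [CommRing A] [LambdaOps A] [Algebra K A]
variable (hKb : IsBinomial K) (hA : IsSpecial A) (ε : A →ₐ[K] K) (hε : IsAugLambdaAlg K A ε)

include hε in
theorem aug_gamma_elim_eq_zero {N' : A} (hN' : ε N' = 0)
    (a : {a : A // ε a = 0} ⊕ Unit) (l : ℕ) :
    ε (gamma (l + 1) (Sum.elim (fun a : {a : A // ε a = 0} => a.1) (fun _ => N') a)) = 0 := by
  rcases a with a | a
  · exact aug_gamma_eq_zero hε a.2 l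
  · exact aug_gamma_eq_zero hε hN' l

theorem evalFree_elim_surjective (N' : A) :
    Function.Surjective (evalFree (K := K)
      (Sum.elim (fun a : {a : A // ε a = 0} => a.1) fun _ : Unit => N')) := by
  intro x
  refine ⟨MvPolynomial.C (ε x) + MvPolynomial.X (Sum.inl ⟨x - algebraMap K A (ε x), by simp⟩, 0), ?_⟩
  rw [map_add, evalFree_X_zero]
  simp [evalFree]

include hKb hA hε in
theorem mem_gammaFil_of_mul_lamAlt_eq_gamma
    (d : ℕ) (hd : 1 ≤ d) (N : A) (hN : ∀ k : ℕ, d < k → LambdaOps.lam k N = 0) (hNε : ε N = (d : K))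
    (hnzd : (∑ j ∈ range (d + 1), (-1 : A) ^ j * LambdaOps.lam j N) ∈ A⁰)
    (p : ℕ) (hp : 1 ≤ p) (x y : A)
    (hy : y * (∑ j ∈ range (d + 1), (-1 : A) ^ j * LambdaOps.lam j N) =
      gamma p (x * (∑ j ∈ range (d + 1), (-1 : A) ^ j * LambdaOps.lam j N))) :
    y ∈ gammaFil (ε : A →+* K) (p - d) := by
  rw [lamMinusOne_eq_gamma hA.lam_one_eq_zero N d hN] at hy hnzd
  set N' := N - (d : A) with hN'def
  have hεN' : ε N' = 0 := by simp [hN'def, hNε]
  have hK := hK_of_isLambdaAlg hKb hε.isLambdaAlg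
  set v := Sum.elim (fun a : {a : A // ε a = 0} => a.1) (fun _ : Unit => N') with hv
  have hv' := fun a l => aug_gamma_elim_eq_zero ε hε hεN' a l
  obtain ⟨ζ, hζ⟩ := evalFree_elim_surjective ε N' x
  set ξ : Free ({a : A // ε a = 0} ⊕ Unit) K :=
    ζ * (-1) ^ d * MvPolynomial.X (Sum.inr (), d - 1) with hξdef
  have hgen : evalFree (K := K) v ξ = x * ((-1) ^ d * gamma d N') := by
    rw [hξdef, map_mul, map_mul, hζ, evalFree_X, map_pow, map_neg, map_one,
      show d - 1 + 1 = d by omega]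
    simp [hv, mul_assoc]
  have hJ : ξ ∈ rankIdeal {a : A // ε a = 0} K (d - 1) :=
    Ideal.mul_mem_left _ _ (Ideal.subset_span ⟨_, ⟨rfl, le_rfl⟩, rfl⟩)
  have hW : ξ ∈ wtIdeal ({a : A // ε a = 0} ⊕ Unit) K 1 := by
    refine Ideal.mul_mem_left _ _ (monomial_mem_wtIdeal ?_ _)
    rw [wt_single]
    omega
  obtain ⟨q, hqW, hq⟩ := exists_evalFree_eq_top_mul (K := K) hd _ N'
    (fun l hl => gamma_sub_natCast_vanish hA.lam_one_eq_zero N d hN l hl)
    (gamma_mem_rankIdeal hJ (n := p) (by omega)) (gamma_mem_wtIdeal hW p)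
  rw [evalFree_gamma hA hK, ← hv, hgen, ← hy] at hq
  have hy' : y = (-1) ^ d * evalFree (K := K) v q := by
    refine (mul_cancel_right_mem_nonZeroDivisors hnzd).1 (hq.trans ?_)
    rw [show ∀ a b c : A, a * c * (a * b) = (a * a) * (b * c) from fun a b c => by ring, ← pow_add,
      Even.neg_one_pow ⟨d, rfl⟩, one_mul]
  rw [hy']
  refine Ideal.mul_mem_left _ _ (map_wtIdeal_le ε v (fun a => ?_) hqW)
  have := hv' a 0
  rwa [zero_add, gamma_one_left] at this

include hKb hA hε in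
theorem sub_factorial_mul_mem_of_mul_lamAlt_eq_gamma
    (d : ℕ) (hd : 1 ≤ d) (N : A) (hN : ∀ k : ℕ, d < k → LambdaOps.lam k N = 0) (hNε : ε N = (d : K))
    (hnzd : (∑ j ∈ range (d + 1), (-1 : A) ^ j * LambdaOps.lam j N) ∈ A⁰)
    (i : ℕ) (x : A) (hx : x ∈ gammaFil (ε : A →+* K) i) (y : A)
    (hy : y * (∑ j ∈ range (d + 1), (-1 : A) ^ j * LambdaOps.lam j N) =
      gamma (d + i) (x * (∑ j ∈ range (d + 1), (-1 : A) ^ j * LambdaOps.lam j N))) :
    y - (-1 : A) ^ (d + i - 1) * ((d + i - 1).factorial : A) * x ∈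
      gammaFil (ε : A →+* K) (i + 1) := by
  rw [lamMinusOne_eq_gamma hA.lam_one_eq_zero N d hN] at hy hnzd
  set N' := N - (d : A) with hN'def
  have hεN' : ε N' = 0 := by simp [hN'def, hNε]
  have hK := hK_of_isLambdaAlg hKb hε.isLambdaAlg
  set v := Sum.elim (fun a : {a : A // ε a = 0} => a.1) (fun _ : Unit => N') with hv
  have hv' := fun a l => aug_gamma_elim_eq_zero ε hε hεN' a l
  obtain ⟨ζ, hζW, hζ⟩ := exists_of_mem_gammaFil hA hK ε v hv' (evalFree_elim_surjective ε N') hx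
  set ξ : Free ({a : A // ε a = 0} ⊕ Unit) K :=
    ζ * (-1) ^ d * MvPolynomial.X (Sum.inr (), d - 1) with hξdef
  have hgen : evalFree (K := K) v ξ = x * ((-1) ^ d * gamma d N') := by
    rw [hξdef, map_mul, map_mul, hζ, evalFree_X, map_pow, map_neg, map_one,
      show d - 1 + 1 = d by omega]
    simp [hv, mul_assoc]
  have hJ : ξ ∈ rankIdeal {a : A // ε a = 0} K (d - 1) :=
    Ideal.mul_mem_left _ _ (Ideal.subset_span ⟨_, ⟨rfl, le_rfl⟩, rfl⟩)
  have hW : ξ ∈ wtIdeal ({a : A // ε a = 0} ⊕ Unit) K (d + i) := by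
    rw [add_comm d i]
    refine mul_mem_wtIdeal (Ideal.mul_mem_right _ _ hζW) (monomial_mem_wtIdeal ?_ _)
    rw [wt_single]
    omega
  set κ : Free ({a : A // ε a = 0} ⊕ Unit) K :=
    (-1) ^ (d + i - 1) * ((d + i - 1).factorial : Free ({a : A // ε a = 0} ⊕ Unit) K) with hκ
  obtain ⟨q, hqW, hq⟩ := exists_evalFree_eq_top_mul (K := K) hd _ N'
    (fun l hl => gamma_sub_natCast_vanish hA.lam_one_eq_zero N d hN l hl)
    (sub_mem (gamma_mem_rankIdeal hJ (n := d + i) (by omega))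
      (Ideal.mul_mem_left _ κ hJ)) (gamma_sub_mem_wtIdeal (by omega : 1 ≤ d + i) hW)
  rw [show d + i + 1 - d = i + 1 by omega] at hqW
  rw [map_sub, evalFree_gamma hA hK, map_mul _ κ ξ, ← hv, hgen, ← hy, hκ, map_mul, map_pow, map_neg,
    map_one, map_natCast] at hq
  have hy' : y - (-1 : A) ^ (d + i - 1) * ((d + i - 1).factorial : A) * x =
      (-1) ^ d * evalFree (K := K) v q := by
    refine (mul_cancel_right_mem_nonZeroDivisors hnzd).1 ?_
    have he : ((-1 : A) ^ d * (-1) ^ d) = 1 := by rw [← pow_add, Even.neg_one_pow ⟨d, rfl⟩]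
    linear_combination hq - (gamma d N' * evalFree (K := K) v q) * he
  rw [hy']
  refine Ideal.mul_mem_left _ _ (map_wtIdeal_le ε v (fun a => ?_) hqW)
  have := hv' a 0
  rwa [zero_add, gamma_one_left] at this

end Aug

end Groth.Agent.Lib.Lambda
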