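import Groth.Agent.Lib.Lambda.PosFil
import Groth.Prelude.Def_KRR
import Mathlib

universe u

namespace Groth.Agent.Lib.Lambda

open LambdaRing PowerSeries Finset

variable {K : Type u} [CommRing K] [LambdaOps K] {P : PosStructure K}

theorem aug_sigma_of_split (hK : HasSplitting K P) {e : K} (he : e ∈ P.pos) {r : ℕ}
    (hr : P.aug e = r + 1) (j : ℕ) : P.aug (KRR.sigma j e) = ((r + j).choose j : ℤ) := by
  have hl : PowerSeries.map P.aug (lamSeries e) = (1 + PowerSeries.X : ℤ⟦X⟧) ^ (r + 1) := by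
    refine PowerSeries.ext fun i => ?_
    rw [coeff_map, lamSeries, coeff_mk, aug_lam_of_split hK he, hr]
    have : ((((1 + Polynomial.X) ^ (r + 1) : Polynomial ℤ)) : ℤ⟦X⟧) = (1 + PowerSeries.X : ℤ⟦X⟧) ^ (r + 1) := by
      simp
    rw [← this, Polynomial.coeff_coe, Polynomial.coeff_one_add_X_pow]
    congr 1
  have hl' : PowerSeries.map P.aug (rescale (-1 : K) (lamSeries e)) = (1 - PowerSeries.X : ℤ⟦X⟧) ^ (r + 1) := by
    have h1 : PowerSeries.map P.aug (rescale (-1 : K) (lamSeries e)) =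
        rescale (-1 : ℤ) (PowerSeries.map P.aug (lamSeries e)) := by
      refine PowerSeries.ext fun i => ?_
      rw [coeff_map, coeff_rescale, coeff_rescale, coeff_map, map_mul, map_pow, map_neg, map_one]
    rw [h1, hl, map_pow, map_add, map_one, rescale_X]
    simp [sub_eq_add_neg]
  have hc : constantCoeff (rescale (-1 : K) (lamSeries e)) = ((1 : Kˣ) : K) := by
    rw [← coeff_zero_eq_constantCoeff, coeff_rescale, pow_zero, one_mul, lamSeries, coeff_mk]
    exact LambdaOps.lam_zero e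
  have hi : PowerSeries.map P.aug (KRR.sigmaSeries e) * (1 - PowerSeries.X : ℤ⟦X⟧) ^ (r + 1) = 1 := by
    rw [← hl', ← map_mul, KRR.sigmaSeries, invOfUnit_mul _ _ hc, map_one]
  have hj : PowerSeries.map P.aug (KRR.sigmaSeries e) = PowerSeries.mk fun n => (((r + n).choose r : ℕ) : ℤ) := by
    have h2 := mk_add_choose_mul_one_sub_pow_eq_one (S := ℤ) r
    exact left_inv_eq_right_inv hi ((mul_comm _ _).trans h2)
  rw [KRR.sigma, ← coeff_map, hj, coeff_mk, Nat.choose_symm_add]

/-- The augmentation of `Σ C(r,i) (-1)^(r-i) σ^i(e)` is `1`. -/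
theorem sum_choose_shift (r : ℕ) :
    ∑ i ∈ range (r + 1), ((-1 : ℤ) ^ (r - i) * r.choose i) * ((r + i).choose i : ℤ) = 1 := by
  have h := fwdDiff_iter_eq_sum_shift (1 : ℕ) (fun x : ℕ => ((x.choose (r + 0) : ℕ) : ℤ)) r r
  rw [fwdDiff_iter_choose 0 r] at h
  simp only [Nat.choose_zero_right, Nat.cast_one, smul_eq_mul, mul_one, add_zero] at h
  refine Eq.trans ?_ h.symm
  refine sum_congr rfl fun i _ => ?_
  rw [Nat.choose_symm_add]

end Groth.Agent.Lib.Lambda
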