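import Groth.Agent.Lib.Lambda.PosBasic
import Groth.Agent.Lib.Lambda.Adams
import Mathlib.Data.Multiset.Bind

/-!
# The splitting principle for λ-rings with positive structure
-/

set_option autoImplicit false

open PowerSeries Finset LambdaRing

noncomputable section

namespace Groth.Agent.Lib.Lambda

universe u

variable {K : Type u} [CommRing K] [LambdaOps K] {P : PosStructure K}

theorem IsExtension.isLine {K' : Type u} [CommRing K'] [LambdaOps K'] {P' : PosStructure K'}
    {f : K →+* K'} (hf : IsExtension P P' f) {u : K} (hu : P.IsLine u) : P'.IsLine (f u) :=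
  ⟨hf.pos_subset u hu.1, by rw [hf.aug_comp]; exact hu.2⟩

theorem IsExtension.refl (P : PosStructure K) : IsExtension P P (RingHom.id K) :=
  ⟨fun _ _ => rfl, Function.injective_id, fun _ => rfl, fun _ he => he⟩

theorem IsExtension.comp {K' K'' : Type u} [CommRing K'] [LambdaOps K'] [CommRing K'']
    [LambdaOps K''] {P' : PosStructure K'} {P'' : PosStructure K''} {f : K →+* K'}
    {g : K' →+* K''} (hf : IsExtension P P' f) (hg : IsExtension P' P'' g) :
    IsExtension P P'' (g.comp f) :=
  ⟨fun i x => by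
      show g (f _) = _
      rw [hf.isLambdaHom, hg.isLambdaHom]; rfl,
    hg.injective.comp hf.injective, fun x => (hg.aug_comp _).trans (hf.aug_comp x),
    fun e he => hg.pos_subset _ (hf.pos_subset e he)⟩

/-- A finite family of positive elements splits simultaneously, in an extension which again has
the splitting property. -/
theorem exists_split (hK : HasSplitting K P) (l : List K) (hl : ∀ e ∈ l, e ∈ P.pos) :
    ∃ (L : PosLambdaRing.{u}) (f : K →+* L.carrier),
      HasSplitting L.carrier L.posStr ∧ IsExtension P L.posStr f ∧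
      ∀ e ∈ l, ∃ s : Multiset L.carrier, (∀ u ∈ s, L.posStr.IsLine u) ∧ s.sum = f e := by
  obtain ⟨C, hKC, hC⟩ := hK
  suffices ∃ (L : PosLambdaRing.{u}) (f : K →+* L.carrier),
      L ∈ C ∧ IsExtension P L.posStr f ∧
      ∀ e ∈ l, ∃ s : Multiset L.carrier, (∀ u ∈ s, L.posStr.IsLine u) ∧ s.sum = f e by
    obtain ⟨L, f, hL, hf, hs⟩ := this
    exact ⟨L, f, ⟨C, hL, hC⟩, hf, hs⟩
  induction l with
  | nil => exact ⟨⟨K, P⟩, RingHom.id K, hKC, IsExtension.refl P, by simp⟩
  | cons e l ih =>
    obtain ⟨L, f, hL, hf, hs⟩ := ih fun e' he' => hl e' (List.mem_cons_of_mem _ he')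
    obtain ⟨L', hL', g, hg, t, ht, hte⟩ := hC L hL (f e) (hf.pos_subset e (hl e List.mem_cons_self))
    refine ⟨L', g.comp f, hL', IsExtension.comp hf hg, ?_⟩
    intro e' he'
    rcases List.mem_cons.1 he' with rfl | he'
    · exact ⟨t, ht, hte⟩
    · obtain ⟨s, hsl, hse⟩ := hs e' he'
      refine ⟨s.map g, ?_, ?_⟩
      · intro u hu
        obtain ⟨v, hv, rfl⟩ := Multiset.mem_map.1 hu
        exact IsExtension.isLine hg (hsl v hv)
      · rw [← map_multiset_sum, hse]; rfl

theorem lineLike_of_forall_isLine {s : Multiset K} (hs : ∀ u ∈ s, P.IsLine u) :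
    ∀ u ∈ s, LineLike u := fun u hu => IsLine.lineLike P (hs u hu)

theorem aug_sum_lines {s : Multiset K} (hs : ∀ u ∈ s, P.IsLine u) :
    P.aug s.sum = Multiset.card s := by
  rw [map_multiset_sum, Multiset.map_congr rfl (fun u hu => (hs u hu).2), Multiset.map_const',
    Multiset.sum_replicate]
  simp

theorem card_eq_toNat_aug {K' : Type u} [CommRing K'] [LambdaOps K'] {P' : PosStructure K'}
    {f : K →+* K'} (hf : IsExtension P P' f) {e : K} {s : Multiset K'}
    (hs : ∀ u ∈ s, P'.IsLine u) (hse : s.sum = f e) : Multiset.card s = (P.aug e).toNat := by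
  have := aug_sum_lines hs
  rw [hse, hf.aug_comp] at this
  omega

theorem IsLine.mul {u₁ v₁ : K} (hu : P.IsLine u₁) (hv : P.IsLine v₁) : P.IsLine (u₁ * v₁) :=
  ⟨P.mul_mem _ _ hu.1 hv.1, by rw [map_mul, hu.2, hv.2, one_mul]⟩

theorem IsLine.pow {u : K} (hu : P.IsLine u) (n : ℕ) : P.IsLine (u ^ n) := by
  induction n with
  | zero => rw [pow_zero]; exact isLine_one P
  | succ n ih => rw [pow_succ]; exact IsLine.mul ih hu

/-- Every element becomes a difference of sums of lines. -/
theorem exists_split_two (hK : HasSplitting K P) (x y : K) :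
    ∃ (L : PosLambdaRing.{u}) (f : K →+* L.carrier),
      HasSplitting L.carrier L.posStr ∧ IsExtension P L.posStr f ∧
      (∃ s t : Multiset L.carrier, (∀ u ∈ s, L.posStr.IsLine u) ∧ (∀ u ∈ t, L.posStr.IsLine u) ∧
        f x = s.sum - t.sum) ∧
      (∃ s t : Multiset L.carrier, (∀ u ∈ s, L.posStr.IsLine u) ∧ (∀ u ∈ t, L.posStr.IsLine u) ∧
        f y = s.sum - t.sum) := by
  obtain ⟨a, b, ha, hb, rfl⟩ := P.exists_sub x
  obtain ⟨c, d, hc, hd, rfl⟩ := P.exists_sub y
  obtain ⟨L, f, hL, hf, hs⟩ := exists_split hK [a, b, c, d] (by simp [ha, hb, hc, hd])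
  obtain ⟨sa, hsa, hsa'⟩ := hs a (by simp)
  obtain ⟨sb, hsb, hsb'⟩ := hs b (by simp)
  obtain ⟨sc, hsc, hsc'⟩ := hs c (by simp)
  obtain ⟨sd, hsd, hsd'⟩ := hs d (by simp)
  exact ⟨L, f, hL, hf, ⟨sa, sb, hsa, hsb, by rw [map_sub, hsa', hsb']⟩,
    ⟨sc, sd, hsc, hsd, by rw [map_sub, hsc', hsd']⟩⟩

theorem adamsOp_mul_of_split (hK : HasSplitting K P) {k : ℕ} (hk : 1 ≤ k) (x y : K) :
    adamsOp k (x * y) = adamsOp k x * adamsOp k y := by
  obtain ⟨L, f, -, hf, ⟨s, t, hs, ht, hx⟩, ⟨s', t', hs', ht', hy⟩⟩ := exists_split_two hK x y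
  apply hf.injective
  rw [map_mul f, map_adamsOp f hf.isLambdaHom, map_adamsOp f hf.isLambdaHom,
    map_adamsOp f hf.isLambdaHom, map_mul f, hx, hy]
  have key : ∀ a b : Multiset L.carrier, (∀ u ∈ a, L.posStr.IsLine u) →
      (∀ u ∈ b, L.posStr.IsLine u) →
      adamsOp k (a.sum * b.sum) = adamsOp k a.sum * adamsOp k b.sum := by
    intro a b ha hb
    induction a using Multiset.induction_on with
    | empty => simp [adamsOp_zero_right]
    | cons u a ih =>
      have hu := ha u (Multiset.mem_cons_self u a)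
      have huv : ∀ w ∈ b.map (u * ·), L.posStr.IsLine w := by
        intro w hw
        obtain ⟨v, hv, rfl⟩ := Multiset.mem_map.1 hw
        exact IsLine.mul hu (hb v hv)
      have hub : u * b.sum = (b.map (u * ·)).sum := by
        rw [Multiset.sum_map_mul_left, Multiset.map_id']
      rw [Multiset.sum_cons, add_mul, adamsOp_add, adamsOp_add, add_mul,
        ih (fun v hv => ha v (Multiset.mem_cons_of_mem hv)),
        (IsLine.lineLike L.posStr hu).adamsOp_eq hk,
        adamsOp_sum_lineLike b (lineLike_of_forall_isLine hb) hk, hub,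
        adamsOp_sum_lineLike _ (lineLike_of_forall_isLine huv) hk, Multiset.map_map]
      congr 1
      rw [← Multiset.sum_map_mul_left]
      exact congrArg _ (Multiset.map_congr rfl fun v _ => mul_pow u v k)
  simp only [sub_mul, mul_sub, adamsOp_sub, key _ _ hs hs', key _ _ hs ht', key _ _ ht hs',
    key _ _ ht ht']

theorem adamsOp_adamsOp_of_split (hK : HasSplitting K P) {i j : ℕ} (hi : 1 ≤ i) (hj : 1 ≤ j)
    (x : K) : adamsOp i (adamsOp j x) = adamsOp (i * j) x := by
  obtain ⟨L, f, -, hf, ⟨s, t, hs, ht, hx⟩, -⟩ := exists_split_two hK x 0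
  apply hf.injective
  simp only [map_adamsOp f hf.isLambdaHom, hx, adamsOp_sub]
  have key : ∀ a : Multiset L.carrier, (∀ u ∈ a, L.posStr.IsLine u) →
      adamsOp i (adamsOp j a.sum) = adamsOp (i * j) a.sum := by
    intro a ha
    rw [adamsOp_sum_lineLike a (lineLike_of_forall_isLine ha) hj,
      adamsOp_sum_lineLike a (lineLike_of_forall_isLine ha) (Nat.mul_le_mul hi hj),
      adamsOp_sum_lineLike _ (lineLike_of_forall_isLine (P := L.posStr) ?_) hi, Multiset.map_map]
    · exact congrArg _ (Multiset.map_congr rfl fun u _ => by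
        show (u ^ j) ^ i = _
        rw [← pow_mul, mul_comm])
    · intro u hu
      obtain ⟨v, hv, rfl⟩ := Multiset.mem_map.1 hu
      exact IsLine.pow (ha v hv) j
  rw [key s hs, key t ht]

end Groth.Agent.Lib.Lambda
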