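import Mathlib.RingTheory.MvPolynomial.Symmetric.FundamentalTheorem
import Mathlib.RingTheory.MvPolynomial.WeightedHomogeneous
import Mathlib.Algebra.MvPolynomial.Equiv

/-!
# The fundamental theorem of symmetric polynomials, with weights and in two groups of variables
-/

set_option autoImplicit false

open MvPolynomial Finset

noncomputable section

namespace Groth.Agent.Lib.Lambda

universe u v w

/-- Substituting weighted homogeneous polynomials commutes with taking components. -/
theorem component_aeval {σ : Type u} {τ : Type v} {R : Type w} [CommRing R] {M : Type*}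
    [AddCommMonoid M] (w : σ → M) (w' : τ → M) (f : σ → MvPolynomial τ R)
    (hf : ∀ i, IsWeightedHomogeneous w' (f i) (w i)) (P : MvPolynomial σ R) (d : M) :
    weightedHomogeneousComponent w' d (aeval f P) =
      aeval f (weightedHomogeneousComponent w d P) := by
  classical
  induction P using MvPolynomial.induction_on' with
  | monomial s c =>
    have hm : IsWeightedHomogeneous w' (aeval f (monomial s c)) (Finsupp.weight w s) := by
      rw [aeval_monomial, algebraMap_eq, Finsupp.weight_apply, Finsupp.sum, Finsupp.prod]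
      refine IsWeightedHomogeneous.C_mul ?_ c
      exact IsWeightedHomogeneous.prod _ _ _ (fun i _ => (hf i).pow _)
    have hs : IsWeightedHomogeneous w (monomial s c) (Finsupp.weight w s) :=
      isWeightedHomogeneous_monomial w s c rfl
    by_cases h : Finsupp.weight w s = d
    · subst h
      rw [hm.weightedHomogeneousComponent_same, hs.weightedHomogeneousComponent_same]
    · rw [hm.weightedHomogeneousComponent_ne _ (Ne.symm h),
        hs.weightedHomogeneousComponent_ne _ (Ne.symm h), map_zero]
  | add p q hp hq => simp [hp, hq]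

theorem isWeightedHomogeneous_of_aeval {σ : Type u} {τ : Type v} {R : Type w} [CommRing R]
    {M : Type*} [AddCommMonoid M] (w : σ → M) (w' : τ → M) (f : σ → MvPolynomial τ R)
    (hf : ∀ i, IsWeightedHomogeneous w' (f i) (w i))
    (hinj : Function.Injective (aeval f : MvPolynomial σ R →ₐ[R] MvPolynomial τ R))
    (P : MvPolynomial σ R) (d : M) (hd : IsWeightedHomogeneous w' (aeval f P) d) :
    IsWeightedHomogeneous w P d := by
  classical
  have h : weightedHomogeneousComponent w d P = P := by
    apply hinj
    rw [← component_aeval w w' f hf, hd.weightedHomogeneousComponent_same]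
  rw [← h]
  exact weightedHomogeneousComponent_isWeightedHomogeneous d P

theorem esymm_isWeightedHomogeneous {σ : Type u} {R : Type w} [Fintype σ] [CommRing R]
    {M : Type*} [AddCommMonoid M] (w : σ → M) (c : M) (hw : ∀ i, w i = c) (k : ℕ) :
    IsWeightedHomogeneous w (esymm σ R k) (k • c) := by
  refine IsWeightedHomogeneous.sum _ _ _ fun t ht => ?_
  have := IsWeightedHomogeneous.prod t (fun i => (X i : MvPolynomial σ R)) (fun _ => c)
    (fun i _ => hw i ▸ isWeightedHomogeneous_X R w i)
  rwa [sum_const, (mem_powersetCard.1 ht).2] at this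

/-- The substitution of elementary symmetric polynomials. -/
def esymmSubst (R : Type w) [CommRing R] (n N : ℕ) : Fin n → MvPolynomial (Fin N) R :=
  fun k => esymm (Fin N) R ((k : ℕ) + 1)

theorem aeval_esymmSubst_injective (R : Type w) [CommRing R] {n N : ℕ} (h : n ≤ N) :
    Function.Injective (aeval (esymmSubst R n N) : MvPolynomial (Fin n) R →ₐ[R] _) := by
  intro p q hpq
  apply esymmAlgHom_injective (σ := Fin N) R (by simpa using h)
  apply Subtype.ext
  rw [esymmAlgHom_apply, esymmAlgHom_apply]
  exact hpq

theorem exists_aeval_esymmSubst {R : Type w} [CommRing R] {n : ℕ} {S : MvPolynomial (Fin n) R}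
    (hS : S.IsSymmetric) : ∃ Q : MvPolynomial (Fin n) R, aeval (esymmSubst R n n) Q = S := by
  obtain ⟨Q, hQ⟩ := esymmAlgHom_surjective (σ := Fin n) R (n := n) (by simp) ⟨S, hS⟩
  refine ⟨Q, ?_⟩
  rw [← Subtype.val_inj, esymmAlgHom_apply] at hQ
  exact hQ

/-- The substitution of elementary symmetric polynomials in two groups of variables. -/
def esymmSubst₂ (R : Type w) [CommRing R] (n N : ℕ) :
    Fin n ⊕ Fin n → MvPolynomial (Fin N ⊕ Fin N) R :=
  Sum.elim (fun k : Fin n => rename Sum.inl (esymm (Fin N) R ((k : ℕ) + 1)))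
    (fun k : Fin n => rename Sum.inr (esymm (Fin N) R ((k : ℕ) + 1)))

variable {R : Type w} [CommRing R]

theorem sumAlgEquiv_rename_inl {A B : Type u} (p : MvPolynomial A R) :
    sumAlgEquiv R A B (rename Sum.inl p) = map (C : R →+* MvPolynomial B R) p := by
  induction p using MvPolynomial.induction_on with
  | C a => rw [rename_C, sumAlgEquiv_C_inl]; simp
  | add p q hp hq => simp [map_add, hp, hq]
  | mul_X p i hp =>
    rw [map_mul, map_mul, hp, rename_X, map_mul, map_X]
    congr 1
    exact sumAlgEquiv_X_inl R A B i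

theorem sumAlgEquiv_rename_inr {A B : Type u} (p : MvPolynomial B R) :
    sumAlgEquiv R A B (rename Sum.inr p) = C p := by
  induction p using MvPolynomial.induction_on with
  | C a => rw [rename_C, sumAlgEquiv_C_inl]
  | add p q hp hq => simp [map_add, hp, hq]
  | mul_X p i hp =>
    rw [map_mul, map_mul, hp, rename_X, map_mul]
    congr 1
    exact sumAlgEquiv_X_inr R A B i

theorem sumAlgEquiv_rename_map {A B : Type u} (a : A ≃ A) (b : B ≃ B)
    (S : MvPolynomial (A ⊕ B) R) :
    sumAlgEquiv R A B (rename (Equiv.sumCongr a b) S) =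
      rename a (map (rename b : MvPolynomial B R →ₐ[R] MvPolynomial B R).toRingHom
        (sumAlgEquiv R A B S)) := by
  induction S using MvPolynomial.induction_on with
  | C c =>
    rw [rename_C, show (C c : MvPolynomial (A ⊕ B) R) = rename Sum.inr (C c) from (rename_C _ _).symm,
      sumAlgEquiv_rename_inr]
    simp
  | add p q hp hq => simp only [map_add, hp, hq]
  | mul_X p i hp =>
    simp only [map_mul, hp, rename_X]
    congr 1
    rcases i with i | i
    · rw [show (X (Sum.inl i) : MvPolynomial (A ⊕ B) R) = rename Sum.inl (X i) from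
        (rename_X _ _).symm,
        show (X (Equiv.sumCongr a b (Sum.inl i)) : MvPolynomial (A ⊕ B) R) =
          rename Sum.inl (X (a i)) by simp, sumAlgEquiv_rename_inl,
        sumAlgEquiv_rename_inl]
      simp
    · rw [show (X (Sum.inr i) : MvPolynomial (A ⊕ B) R) = rename Sum.inr (X i) from
        (rename_X _ _).symm,
        show (X (Equiv.sumCongr a b (Sum.inr i)) : MvPolynomial (A ⊕ B) R) =
          rename Sum.inr (X (b i)) by simp, sumAlgEquiv_rename_inr,
        sumAlgEquiv_rename_inr]
      simp

theorem sumAlgEquiv_aeval_esymmSubst₂ (n N : ℕ) (P : MvPolynomial (Fin n ⊕ Fin n) R) :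
    sumAlgEquiv R (Fin N) (Fin N) (aeval (esymmSubst₂ R n N) P) =
      aeval (esymmSubst (MvPolynomial (Fin N) R) n N)
        (map (aeval (esymmSubst R n N) : MvPolynomial (Fin n) R →ₐ[R] _).toRingHom
          (sumAlgEquiv R (Fin n) (Fin n) P)) := by
  induction P using MvPolynomial.induction_on with
  | C c =>
    rw [show (C c : MvPolynomial (Fin n ⊕ Fin n) R) = rename Sum.inr (C c) from
      (rename_C _ _).symm, sumAlgEquiv_rename_inr]
    rw [rename_C, aeval_C, algebraMap_eq, map_C, aeval_C]
    rw [show (C c : MvPolynomial (Fin N ⊕ Fin N) R) = rename Sum.inr (C c) from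
      (rename_C _ _).symm, sumAlgEquiv_rename_inr]
    simp [algebraMap_eq]
  | add p q hp hq => simp only [map_add, hp, hq]
  | mul_X p i hp =>
    simp only [map_mul, hp, aeval_X]
    congr 1
    rcases i with i | i
    · rw [show (X (Sum.inl i) : MvPolynomial (Fin n ⊕ Fin n) R) = rename Sum.inl (X i) from
        (rename_X _ _).symm, sumAlgEquiv_rename_inl, map_X, map_X, aeval_X]
      rw [esymmSubst₂, Sum.elim_inl, sumAlgEquiv_rename_inl]
      exact map_esymm (Fin N) R _ _
    · rw [show (X (Sum.inr i) : MvPolynomial (Fin n ⊕ Fin n) R) = rename Sum.inr (X i) from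
        (rename_X _ _).symm, sumAlgEquiv_rename_inr, map_C, aeval_C]
      rw [esymmSubst₂, Sum.elim_inr, sumAlgEquiv_rename_inr]
      simp [algebraMap_eq, esymmSubst]

theorem aeval_esymmSubst₂_injective {n N : ℕ} (h : n ≤ N) :
    Function.Injective (aeval (esymmSubst₂ R n N) : MvPolynomial (Fin n ⊕ Fin n) R →ₐ[R] _) := by
  intro p q hpq
  have := congrArg (sumAlgEquiv R (Fin N) (Fin N)) hpq
  rw [sumAlgEquiv_aeval_esymmSubst₂, sumAlgEquiv_aeval_esymmSubst₂] at this
  exact (sumAlgEquiv R (Fin n) (Fin n)).injective
    (MvPolynomial.map_injective _ (aeval_esymmSubst_injective R h)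
      (aeval_esymmSubst_injective _ h this))

/-- A polynomial symmetric in each of two groups of variables is a polynomial in the elementary
symmetric polynomials of the two groups. -/
theorem exists_aeval_esymmSubst₂ {n : ℕ} {S : MvPolynomial (Fin n ⊕ Fin n) R}
    (hS : ∀ a b : Equiv.Perm (Fin n), rename (Equiv.sumCongr a b) S = S) :
    ∃ P : MvPolynomial (Fin n ⊕ Fin n) R, aeval (esymmSubst₂ R n n) P = S := by
  classical
  set S' := sumAlgEquiv R (Fin n) (Fin n) S with hS'
  have hsym : ∀ a b : Equiv.Perm (Fin n),
      rename a (map (rename b : MvPolynomial (Fin n) R →ₐ[R] _).toRingHom S') = S' := by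
    intro a b
    rw [hS', ← sumAlgEquiv_rename_map, hS]
  have h1 : S'.IsSymmetric := by
    intro a
    have h := hsym a (Equiv.refl (Fin n))
    rwa [show (rename (Equiv.refl (Fin n)) : MvPolynomial (Fin n) R →ₐ[R] _).toRingHom =
      RingHom.id _ by ext <;> simp, map_id] at h
  obtain ⟨Q, hQ⟩ := exists_aeval_esymmSubst h1
  have hQb : ∀ b : Equiv.Perm (Fin n),
      map (rename b : MvPolynomial (Fin n) R →ₐ[R] _).toRingHom Q = Q := by
    intro b
    apply aeval_esymmSubst_injective (MvPolynomial (Fin n) R) le_rfl
    rw [hQ]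
    have h := hsym (Equiv.refl (Fin n)) b
    rw [show ⇑(Equiv.refl (Fin n)) = id from rfl, rename_id, AlgHom.id_apply] at h
    conv_rhs => rw [← h, ← hQ]
    clear hQ hsym h h1
    induction Q using MvPolynomial.induction_on with
    | C r => simp [algebraMap_eq]
    | add p q hp hq => simp only [map_add, hp, hq]
    | mul_X p i hp =>
      simp only [map_mul, hp, map_X, aeval_X]
      exact congrArg _ (map_esymm (Fin n) _ _ _).symm
  have hQc : ∀ d, (coeff d Q).IsSymmetric := by
    intro d b
    conv_rhs => rw [← hQb b]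
    rw [coeff_map]
    rfl
  choose c hc using fun d => exists_aeval_esymmSubst (hQc d)
  refine ⟨(sumAlgEquiv R (Fin n) (Fin n)).symm (∑ d ∈ Q.support, monomial d (c d)), ?_⟩
  apply (sumAlgEquiv R (Fin n) (Fin n)).injective
  rw [sumAlgEquiv_aeval_esymmSubst₂, AlgEquiv.apply_symm_apply, map_sum]
  simp only [map_monomial, AlgHom.toRingHom_eq_coe, RingHom.coe_coe, hc]
  rw [← as_sum, hQ]

end Groth.Agent.Lib.Lambda
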