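import Groth.Agent.Lib.Lambda.GammaRec
import Groth.Agent.Lib.Lambda.Char0
import Mathlib.RingTheory.PowerSeries.Exp

/-!
# The test λ-rings: power series over a ℚ-algebra, with ψ^k the substitution X ↦ kX
-/

set_option autoImplicit false

open PowerSeries Finset LambdaRing

noncomputable section

namespace Groth.Agent.Lib.Lambda

universe u v

variable {R : Type u} [CommRing R] [Algebra ℚ R]

/-- Substitution `X ↦ kX`. -/
def rescaleAdd (R : Type u) [CommRing R] (k : ℕ) : R⟦X⟧ →+ R⟦X⟧ :=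
  (rescale (k : R)).toAddMonoidHom

/-- The λ-operations on R[[X]] whose Adams operations are the rescalings. -/
@[reducible] def serLambdaOps (R : Type u) [CommRing R] [Algebra ℚ R] : LambdaOps R⟦X⟧ :=
  lambdaOpsOfAdams (rescaleAdd R) (by
    ext1 F
    simp [rescaleAdd, rescale_one])

attribute [local instance] serLambdaOps

theorem adamsOp_ser {k : ℕ} (hk : 1 ≤ k) (F : R⟦X⟧) : adamsOp k F = rescale (k : R) F :=
  adamsOp_lambdaOpsOfAdams _ _ k hk F

theorem isSpecial_ser (R : Type u) [CommRing R] [Algebra ℚ R] : IsSpecial R⟦X⟧ := by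
  refine isSpecial_of_adamsOp_of_injective (RingHom.id _) Function.injective_id ?_ ?_ ?_
  · intro k hk; rw [adamsOp_ser hk, map_one]
  · intro k hk x y; simp only [adamsOp_ser hk, map_mul]
  · intro k k' hk hk' x
    rw [adamsOp_ser hk, adamsOp_ser hk', adamsOp_ser (Nat.mul_pos hk hk'), rescale_rescale,
      Nat.cast_mul, mul_comm]

theorem natRegular_ser (R : Type u) [CommRing R] [Algebra ℚ R] : NatRegular R⟦X⟧ :=
  natRegular_of_algebraRat _

theorem coeff_adamsOp_ser {k : ℕ} (hk : 1 ≤ k) (r : ℕ) (F : R⟦X⟧) :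
    coeff r (adamsOp k F) = (k : R) ^ r * coeff r F := by
  rw [adamsOp_ser hk, coeff_rescale]

theorem coeff_gOp_ser (i r : ℕ) (F : R⟦X⟧) :
    coeff r (gOp i F) = (altPow i r : R) * coeff r F := by
  unfold gOp altPow
  rw [map_sum, Int.cast_sum, sum_mul]
  refine sum_congr rfl fun k _ => ?_
  rw [show (-1 : R⟦X⟧) ^ k * (i.choose (k + 1) : R⟦X⟧) = C ((-1) ^ k * (i.choose (k + 1) : R)) by
    simp, coeff_C_mul, coeff_adamsOp_ser (Nat.succ_pos k)]
  push_cast
  ring

theorem X_pow_dvd_gOp {F : R⟦X⟧} {m : ℕ} (h : (X : R⟦X⟧) ^ m ∣ F) (i : ℕ) :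
    (X : R⟦X⟧) ^ m ∣ gOp i F := by
  rw [X_pow_dvd_iff] at h ⊢
  intro r hr
  rw [coeff_gOp_ser, h r hr, mul_zero]

theorem X_pow_dvd_gOp_self {F : R⟦X⟧} (h : constantCoeff F = 0) (i : ℕ) :
    (X : R⟦X⟧) ^ i ∣ gOp i F := by
  rw [X_pow_dvd_iff]
  intro r hr
  rw [coeff_gOp_ser]
  rcases eq_or_ne r 0 with rfl | hr0
  · rw [coeff_zero_eq_constantCoeff_apply, h, mul_zero]
  · rw [altPow_of_ne_zero hr0 hr.le, if_neg hr.ne, Int.cast_zero, zero_mul]

theorem isUnit_natCast_ser {n : ℕ} (hn : n ≠ 0) : IsUnit (n : R⟦X⟧) := by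
  have := ((isUnit_iff_ne_zero.2 (Nat.cast_ne_zero.2 hn : (n : ℚ) ≠ 0)).map (algebraMap ℚ R⟦X⟧))
  simpa using this

/-- γ^l has order at least l. -/
theorem X_pow_dvd_gamma {F : R⟦X⟧} (h : constantCoeff F = 0) (l : ℕ) :
    (X : R⟦X⟧) ^ l ∣ gamma l F := by
  induction l using Nat.strong_induction_on with
  | _ l ih =>
    match l with
    | 0 => simp
    | l + 1 =>
      rw [← (isUnit_natCast_ser (R := R) (Nat.succ_ne_zero l)).dvd_mul_left,
        Nat.cast_succ, succ_mul_gamma]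
      refine Finset.dvd_sum fun i hi => ?_
      rw [mem_range] at hi
      rw [show l + 1 = (i + 1) + (l - i) by omega, pow_add]
      exact mul_dvd_mul (X_pow_dvd_gOp_self h _) (ih (l - i) (by omega))

/-- γ^l, l ≥ 1, does not lower the order. -/
theorem X_pow_dvd_gamma_of_dvd {F : R⟦X⟧} {m : ℕ} (h : (X : R⟦X⟧) ^ m ∣ F) {l : ℕ} (hl : 1 ≤ l) :
    (X : R⟦X⟧) ^ m ∣ gamma l F := by
  obtain ⟨l, rfl⟩ : ∃ j, l = j + 1 := ⟨l - 1, by omega⟩
  rw [← (isUnit_natCast_ser (R := R) (Nat.succ_ne_zero l)).dvd_mul_left,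
    Nat.cast_succ, succ_mul_gamma]
  exact Finset.dvd_sum fun i _ => Dvd.dvd.mul_right (X_pow_dvd_gOp h _) _

theorem coeff_mul_of_dvd {S : Type v} [CommRing S] {F G : S⟦X⟧} {m n : ℕ}
    (hF : (X : S⟦X⟧) ^ m ∣ F) (hG : (X : S⟦X⟧) ^ n ∣ G) :
    coeff (m + n) (F * G) = coeff m F * coeff n G := by
  obtain ⟨F, rfl⟩ := hF
  obtain ⟨G, rfl⟩ := hG
  rw [show X ^ m * F * (X ^ n * G) = X ^ (m + n) * (F * G) by rw [pow_add]; ring]
  simp only [coeff_X_pow_mul', le_refl, if_true, Nat.sub_self, coeff_zero_eq_constantCoeff_apply,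
    map_mul]

/-- The leading coefficients of the γ^l satisfy Newton's relations with power sums r! F_r. -/
theorem newtonRel_lead {F : R⟦X⟧} (h : constantCoeff F = 0) :
    NewtonRel (fun l => coeff l (gamma l F)) (fun r => (r.factorial : R) * coeff r F) := by
  refine ⟨by simp [gamma_zero_left], fun l => ?_⟩
  show ((l : R) + 1) * coeff (l + 1) (gamma (l + 1) F) = _
  have hh := congrArg (coeff (l + 1)) (succ_mul_gamma l F)
  rw [show ((l : R⟦X⟧) + 1) = C ((l : R) + 1) by simp, coeff_C_mul, map_sum] at hh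
  rw [hh]
  refine sum_congr rfl fun i hi => ?_
  rw [mem_range] at hi
  conv_lhs => rw [show l + 1 = (i + 1) + (l - i) by omega]
  rw [coeff_mul_of_dvd (X_pow_dvd_gOp_self h _) (X_pow_dvd_gamma h _), coeff_gOp_ser,
    altPow_of_ne_zero (Nat.succ_ne_zero i) le_rfl, if_pos rfl]
  simp only [Nat.succ_eq_add_one]
  push_cast
  ring

/-- The leading coefficient of γ^m on series of order ≥ m. -/
theorem coeff_gamma_self {F : R⟦X⟧} {m : ℕ} (hm : 1 ≤ m) (h : (X : R⟦X⟧) ^ m ∣ F) :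
    coeff m (gamma m F) = (-1) ^ (m - 1) * ((m - 1).factorial : R) * coeff m F := by
  obtain ⟨m, rfl⟩ : ∃ j, m = j + 1 := ⟨m - 1, by omega⟩
  have h0 : constantCoeff F = 0 := by
    rw [← coeff_zero_eq_constantCoeff_apply]
    exact X_pow_dvd_iff.1 h 0 (Nat.succ_pos m)
  apply natRegular_of_algebraRat R (m + 1) (Nat.succ_ne_zero m)
  show ((m + 1 : ℕ) : R) * _ = ((m + 1 : ℕ) : R) * _
  have hl := (newtonRel_lead h0).2 m
  rw [Nat.cast_succ, hl, sum_range_succ, sum_eq_zero (fun i hi => ?_), zero_add, Nat.sub_self]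
  simp only []
  rw [gamma_zero_left, coeff_zero_eq_constantCoeff_apply, map_one, mul_one, Nat.add_sub_cancel,
    Nat.factorial_succ]
  · push_cast
    ring
  · rw [mem_range] at hi
    show _ * (((i + 1).factorial : R) * coeff (i + 1) F) * _ = 0
    rw [X_pow_dvd_iff.1 h (i + 1) (by omega)]
    ring

theorem lam_C_ser {K : Type v} [CommRing K] [BinomialRing K] (j : K →+* R) (a : K) (n : ℕ) :
    LambdaOps.lam n (C (j a) : R⟦X⟧) = C (j (Ring.choose a n)) := by
  have h := (newtonRel_lam (C (j a) : R⟦X⟧))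
  have h' := (newtonRel_choose a).map ((C (R := R)).comp j)
  exact h.eq_e (natRegular_ser R) h' (N := n) (fun i hi _ => by
    rw [adamsOp_ser hi]
    ext r
    rw [coeff_rescale, RingHom.comp_apply, coeff_C]
    rcases eq_or_ne r 0 with rfl | hr <;> simp [*]) n le_rfl

/-- The line element exp(σX). -/
theorem lineLike_exp (σ : R) : LineLike (rescale σ (exp R) : R⟦X⟧) := by
  intro n hn
  have h := (newtonRel_lam (rescale σ (exp R) : R⟦X⟧)).eq_e (natRegular_ser R)
    (newtonRel_single (rescale σ (exp R) : R⟦X⟧)) (N := n) (fun i hi _ => by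
      rw [adamsOp_ser hi, ← map_pow, exp_pow_eq_rescale_exp, rescale_rescale, rescale_rescale,
        mul_comm]) n le_rfl
  exact h.trans (esymm_eq_zero_of_card_lt _ (by simp; omega))

theorem map_rescale_natCast {S : Type v} [CommRing S] (π : R →+* S) (k : ℕ) (F : R⟦X⟧) :
    PowerSeries.map π (rescale (k : R) F) = rescale (k : S) (PowerSeries.map π F) := by
  ext n
  simp [coeff_rescale]

end Groth.Agent.Lib.Lambda
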