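import Groth.Agent.Lib.Lambda.Ch
import Mathlib.NumberTheory.Bernoulli

/-!
# The Todd class through multiplicative sequences
-/

set_option autoImplicit false

open Finset LambdaRing KGr
open MvPolynomial hiding X

noncomputable section

namespace Groth.Agent.Lib.Lambda

universe u v

attribute [local instance] serLambdaOps freeLambdaOps

/-- The coefficients of the logarithmic derivative of the Todd series. -/
def toddLog (i : ℕ) : ℚ :=
  PowerSeries.coeff i (PowerSeries.derivative ℚ (bernoulli'PowerSeries ℚ) *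
    PowerSeries.invOfUnit (bernoulli'PowerSeries ℚ) 1)

/-- The twist turning power sums into those of the Todd sequence. -/
def toddTwist {A : Type u} [CommRing A] [Algebra ℚ A] (p : ℕ → A) (k : ℕ) : A :=
  ((-1 : ℚ) ^ (k - 1) * toddLog (k - 1)) • p k

/-- The Todd series of given power sums. -/
def toddSer {A : Type u} [CommRing A] [Algebra ℚ A] (p : ℕ → A) : PowerSeries A :=
  PowerSeries.mk (eOfP (toddTwist p))

/-- The Todd series at a root. -/
def toddRoot {A : Type u} [CommRing A] [Algebra ℚ A] (σ : A) : PowerSeries A :=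
  PowerSeries.rescale σ (bernoulli'PowerSeries A)

theorem derivative_toddRoot {A : Type u} [CommRing A] [Algebra ℚ A] (σ : A) :
    PowerSeries.derivative A (toddRoot σ) =
      (PowerSeries.mk fun i => algebraMap ℚ A (toddLog i) * σ ^ (i + 1)) * toddRoot σ := by
  have h0 : PowerSeries.constantCoeff (bernoulli'PowerSeries ℚ) = ((1 : ℚˣ) : ℚ) := by
    rw [← PowerSeries.coeff_zero_eq_constantCoeff_apply, bernoulli'PowerSeries, PowerSeries.coeff_mk]
    simp
  have hB : PowerSeries.derivative ℚ (bernoulli'PowerSeries ℚ) =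
      PowerSeries.mk toddLog * bernoulli'PowerSeries ℚ := by
    have hmk : PowerSeries.mk toddLog = PowerSeries.derivative ℚ (bernoulli'PowerSeries ℚ) *
        PowerSeries.invOfUnit (bernoulli'PowerSeries ℚ) 1 := by
      ext i; rw [PowerSeries.coeff_mk]; rfl
    rw [hmk, mul_assoc, PowerSeries.invOfUnit_mul _ _ h0, mul_one]
  have hA : PowerSeries.map (algebraMap ℚ A) (bernoulli'PowerSeries ℚ) = bernoulli'PowerSeries A := by
    ext i; simp [bernoulli'PowerSeries]
  have h := congrArg (fun F => PowerSeries.C σ *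
    PowerSeries.rescale σ (PowerSeries.map (algebraMap ℚ A) F)) hB
  simp only [map_mul, map_derivative, hA, ← mul_assoc] at h
  rw [toddRoot, rescale_derivative, h]
  congr 1
  ext i
  rw [PowerSeries.coeff_C_mul, PowerSeries.coeff_rescale, PowerSeries.coeff_map, PowerSeries.coeff_mk,
    PowerSeries.coeff_mk, pow_succ]
  ring

theorem newtonRel_toddRoots {A : Type u} [CommRing A] [Algebra ℚ A] (s : Multiset A) :
    NewtonRel (fun r => PowerSeries.coeff r ((s.map toddRoot).prod))
      (toddTwist fun k => (s.map (· ^ k)).sum) := by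
  induction s using Multiset.induction_on with
  | empty =>
    refine ⟨by simp, fun k => ?_⟩
    simp [toddTwist, PowerSeries.coeff_one]
  | cons a s ih =>
    have h1 : NewtonRel (fun r => PowerSeries.coeff r (toddRoot a)) (toddTwist fun k => a ^ k) := by
      rw [newtonRel_iff_series]
      refine ⟨by simp [toddRoot, bernoulli'PowerSeries, PowerSeries.coeff_rescale], ?_⟩
      rw [show (PowerSeries.mk fun r => PowerSeries.coeff r (toddRoot a)) = toddRoot a by
        ext; simp, derivative_toddRoot]
      congr 1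
      ext i
      simp only [PowerSeries.coeff_mk, toddTwist, Nat.add_sub_cancel, Algebra.smul_def, map_mul,
        map_pow, map_neg, map_one]
      rw [← mul_assoc, ← mul_assoc, ← pow_add, Even.neg_one_pow ⟨i, rfl⟩, one_mul]
    have h2 := h1.of_mul ih (e'' := fun r => PowerSeries.coeff r (((a ::ₘ s).map toddRoot).prod))
      (by
        rw [show ∀ F : PowerSeries A, (PowerSeries.mk fun r => PowerSeries.coeff r F) = F from
          fun F => by ext; simp]
        rw [Multiset.map_cons, Multiset.prod_cons]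
        congr 1 <;> (ext; simp))
    have e : (fun i => toddTwist (fun k => a ^ k) i + toddTwist (fun k => (s.map (· ^ k)).sum) i) =
        toddTwist fun k => ((a ::ₘ s).map (· ^ k)).sum := by
      funext i
      simp [toddTwist, smul_add]
    rwa [e] at h2

theorem map_toddSer {V : Type u} [CommRing V] [Algebra ℚ V] {W : Type v} [CommRing W] [Algebra ℚ W]
    (Φ : V →ₐ[ℚ] W) (p : ℕ → V) :
    PowerSeries.map Φ.toRingHom (toddSer p) = toddSer fun k => Φ (p k) := by
  ext r
  rw [PowerSeries.coeff_map, toddSer, toddSer, PowerSeries.coeff_mk, PowerSeries.coeff_mk]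
  exact eq_map_eOfP (natRegular_of_algebraRat W) Φ.toRingHom _ (newtonRel_eOfP _) fun i _ _ => by
    simp [toddTwist, map_smul]

theorem toddSer_eq_prod {A : Type u} [CommRing A] [Algebra ℚ A] (p : ℕ → A) (s : Multiset A)
    (hp : ∀ k, 1 ≤ k → p k = (s.map (· ^ k)).sum) :
    toddSer p = (s.map toddRoot).prod := by
  ext r
  rw [toddSer, PowerSeries.coeff_mk]
  exact (newtonRel_eOfP _).eq_e (natRegular_of_algebraRat A) (newtonRel_toddRoots s) (N := r)
    (fun i hi _ => by simp only [toddTwist, hp i hi]) r le_rfl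

variable {K : Type u} [CommRing K] [LambdaOps K] {P : PosStructure K}

theorem toddSer_mem_gradedSer {e : ℕ → GrQ P} (he : ∀ l, e l ∈ grDeg P l) :
    toddSer (pOfE e) ∈ gradedSer P := by
  intro r
  rw [toddSer, PowerSeries.coeff_mk]
  induction r using Nat.strong_induction_on with
  | _ r ih =>
    match r with
    | 0 => rw [eOfP]; exact one_mem_grDeg
    | r + 1 =>
      rw [eOfP]
      refine Submodule.smul_mem _ _ (Submodule.sum_mem _ fun i _ => ?_)
      have hm := mul_mem_grDeg
        ((grDeg P ((i : ℕ) + 1)).smul_mem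
          ((-1 : ℚ) ^ ((i : ℕ) + 1 - 1) * toddLog ((i : ℕ) + 1 - 1)) (pOfE_mem_grDeg he ((i : ℕ) + 1)))
        (ih (r - (i : ℕ)) (by omega))
      rw [show (i : ℕ) + 1 + (r - (i : ℕ)) = r + 1 by omega] at hm
      rcases neg_one_pow_eq_or (GrQ P) (i : ℕ) with hi | hi
      · rw [hi, one_mul]; exact hm
      · rw [hi, neg_one_mul, neg_mul]; exact Submodule.neg_mem _ hm

theorem chernQ_mem_grDeg (l : ℕ) (x : K) : chernQ P l x ∈ grDeg P l :=
  gq_mem_grDeg (gamma_mem_gammaFiltration (by simp) l)

/-- `X_i ↦ X_i t`. -/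
def scaleSer (d : ℕ) : MvPolynomial (Fin d) ℚ →ₐ[ℚ] PowerSeries (MvPolynomial (Fin d) ℚ) :=
  aeval fun i => PowerSeries.C (MvPolynomial.X i) * PowerSeries.X

theorem coeff_scaleSer (d r : ℕ) (S : MvPolynomial (Fin d) ℚ) :
    PowerSeries.coeff r (scaleSer d S) = weightedHomogeneousComponent (fun _ : Fin d => 1) r S := by
  classical
  induction S using MvPolynomial.induction_on' with
  | monomial s c =>
    have hs : IsWeightedHomogeneous (fun _ : Fin d => 1) (monomial s c)
        (Finsupp.weight (fun _ : Fin d => 1) s) := isWeightedHomogeneous_monomial _ s c rfl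
    have : scaleSer d (monomial s c) =
        PowerSeries.C (monomial s c) * PowerSeries.X ^ (Finsupp.weight (fun _ : Fin d => 1) s) := by
      rw [scaleSer, aeval_monomial, monomial_eq, map_mul, Finsupp.prod, Finsupp.prod, map_prod,
        PowerSeries.algebraMap_apply, MvPolynomial.algebraMap_eq, mul_assoc]
      congr 1
      rw [Finsupp.weight_apply, Finsupp.sum, ← prod_pow_eq_pow_sum, ← prod_mul_distrib]
      refine prod_congr rfl fun i _ => ?_
      rw [mul_pow, ← map_pow, smul_eq_mul, mul_one]
    rw [this, PowerSeries.coeff_C_mul, PowerSeries.coeff_X_pow]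
    by_cases h : Finsupp.weight (fun _ : Fin d => 1) s = r
    · rw [← h, if_pos rfl, mul_one, hs.weightedHomogeneousComponent_same]
    · rw [if_neg (Ne.symm h), mul_zero, hs.weightedHomogeneousComponent_ne _ (Ne.symm h)]
  | add p q hp hq => simp [hp, hq]

theorem component_toddPoly (d r : ℕ) (hr : r ≤ d) :
    weightedHomogeneousComponent (fun i : Fin d => (i : ℕ) + 1) r (toddPoly d) =
      PowerSeries.coeff r
        (toddSer (pOfE (seqOf fun i : Fin d => (MvPolynomial.X i : MvPolynomial (Fin d) ℚ)))) := by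
  apply aeval_esymmSubst_injective ℚ (le_refl d)
  rw [← component_aeval (fun i : Fin d => (i : ℕ) + 1) (fun _ : Fin d => 1) (esymmSubst ℚ d d)
    (fun i => by
      have := esymm_isWeightedHomogeneous (R := ℚ) (fun _ : Fin d => (1 : ℕ)) 1 (fun _ => rfl)
        ((i : ℕ) + 1)
      simpa [esymmSubst] using this)]
  have hS : aeval (esymmSubst ℚ d d) (toddPoly d) =
      ∏ i : Fin d, Polynomial.aeval (MvPolynomial.X i : MvPolynomial (Fin d) ℚ) (toddTrunc d) := by
    show aeval (fun i : Fin d => esymm (Fin d) ℚ ((i : ℕ) + 1)) (toddPoly d) = _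
    rw [← esymmAlgHom_apply, ← esymmAlgEquiv_apply (Fin d) ℚ (Fintype.card_fin d), toddPoly,
      AlgEquiv.apply_symm_apply]
  rw [hS, ← coeff_scaleSer]
  have hmap := congrArg (PowerSeries.coeff r) (map_toddSer
    (aeval (esymmSubst ℚ d d) : MvPolynomial (Fin d) ℚ →ₐ[ℚ] _)
    (pOfE (seqOf fun i : Fin d => (MvPolynomial.X i : MvPolynomial (Fin d) ℚ))))
  rw [PowerSeries.coeff_map] at hmap
  refine Eq.trans ?_ hmap.symm
  rw [toddSer_eq_prod _ ((univ : Finset (Fin d)).val.map fun c =>
    (MvPolynomial.X c : MvPolynomial (Fin d) ℚ)) (fun k hk => by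
      refine eq_map_pOfE (aeval (esymmSubst ℚ d d) : MvPolynomial (Fin d) ℚ →ₐ[ℚ] _).toRingHom
        (seqOf_zero fun i => (MvPolynomial.X i : MvPolynomial (Fin d) ℚ))
        (newtonRel_esymm _) hk fun t _ => ?_
      rw [map_seqOf, ← seqOf_esymm (fun c => (MvPolynomial.X c : MvPolynomial (Fin d) ℚ)) t]
      congr 1
      funext k
      rw [AlgHom.toRingHom_eq_coe, RingHom.coe_coe, aeval_X, esymmSubst, esymm_eq_multiset_esymm]),
    Multiset.map_map, map_prod]
  have hd : ∀ i : Fin d, (PowerSeries.X : PowerSeries (MvPolynomial (Fin d) ℚ)) ^ (d + 1) ∣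
      scaleSer d (Polynomial.aeval (MvPolynomial.X i : MvPolynomial (Fin d) ℚ) (toddTrunc d)) -
        toddRoot (MvPolynomial.X i : MvPolynomial (Fin d) ℚ) := by
    intro i
    rw [PowerSeries.X_pow_dvd_iff]
    intro n hn
    rw [map_sub, sub_eq_zero, toddTrunc, map_sum, map_sum, map_sum, toddRoot,
      PowerSeries.coeff_rescale, bernoulli'PowerSeries, PowerSeries.coeff_mk]
    simp only [map_mul, map_pow, Polynomial.aeval_C, Polynomial.aeval_X, AlgHom.commutes]
    rw [sum_eq_single n]
    · rw [scaleSer, aeval_X, PowerSeries.algebraMap_apply, mul_pow, ← map_pow, ← mul_assoc, ← map_mul,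
        PowerSeries.coeff_C_mul, PowerSeries.coeff_X_pow, if_pos rfl, mul_one, mul_comm]
    · intro k _ hk
      rw [scaleSer, aeval_X, PowerSeries.algebraMap_apply, mul_pow, ← map_pow, ← mul_assoc, ← map_mul,
        PowerSeries.coeff_C_mul, PowerSeries.coeff_X_pow, if_neg (Ne.symm hk), mul_zero]
    · intro h; simp at h; omega
  have key : (PowerSeries.X : PowerSeries (MvPolynomial (Fin d) ℚ)) ^ (d + 1) ∣
      (∏ i : Fin d, scaleSer d (Polynomial.aeval (MvPolynomial.X i : MvPolynomial (Fin d) ℚ)
          (toddTrunc d))) -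
        ∏ i : Fin d, toddRoot (MvPolynomial.X i : MvPolynomial (Fin d) ℚ) := by
    rw [← Ideal.mem_span_singleton, ← Ideal.Quotient.eq, map_prod, map_prod]
    exact prod_congr rfl fun i _ => Ideal.Quotient.eq.2 (Ideal.mem_span_singleton.2 (hd i))
  have := PowerSeries.X_pow_dvd_iff.1 key r (by omega)
  rw [map_sub, sub_eq_zero] at this
  exact this

theorem tdK_eq {d : ℕ} (hd : gammaFiltration P (d + 1) = ⊥) (x : K) :
    toQ P (tdK P d x) = totSum d (toddSer (pOfE fun l => chernQ P l x)) := by
  classical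
  have hev : ∀ q : MvPolynomial (Fin d) ℚ, toQ P (aeval (fun i : Fin d => chern P (i.1 + 1) x) q) =
      aeval (fun i : Fin d => chernQ P (i.1 + 1) x) q := by
    intro q
    induction q using MvPolynomial.induction_on with
    | C c => rw [aeval_C, aeval_C, AlgHom.commutes]
    | add p q hp hq => rw [map_add, map_add, map_add, hp, hq]
    | mul_X p i hp => rw [map_mul, map_mul, map_mul, hp, aeval_X, aeval_X, toQ_chern]
  rw [tdK, hev, totSum]
  set ω : MvPolynomial (Fin d) ℚ →ₐ[ℚ] GrQ P := aeval fun i : Fin d => chernQ P (i.1 + 1) x with hω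
  set w : Fin d → ℕ := fun i => (i : ℕ) + 1 with hw
  have hmem : ∀ (s : Fin d →₀ ℕ) (c : ℚ), ω (monomial s c) ∈ grDeg P (Finsupp.weight w s) := by
    intro s c
    induction s using Finsupp.induction with
    | zero =>
      rw [monomial_zero', hω, aeval_C, map_zero, Algebra.algebraMap_eq_smul_one]
      exact Submodule.smul_mem _ _ one_mem_grDeg
    | single_add i k s hi hk ih =>
      clear hk hi
      rw [monomial_single_add, map_mul, map_pow, map_add]
      refine mul_mem_grDeg ?_ ih
      rw [hω, aeval_X, Finsupp.weight_apply, Finsupp.sum_single_index (by simp)]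
      show _ ∈ grDeg P (k * ((i : ℕ) + 1))
      induction k with
      | zero => rw [pow_zero, zero_mul]; exact one_mem_grDeg
      | succ k ihk => rw [pow_succ, Nat.succ_mul]; exact mul_mem_grDeg ihk (chernQ_mem_grDeg _ _)
  have hr : ∀ r ∈ range (d + 1),
      PowerSeries.coeff r (toddSer (pOfE fun l => chernQ P l x)) =
        ω (weightedHomogeneousComponent w r (toddPoly d)) := by
    intro r hr
    rw [mem_range] at hr
    rw [component_toddPoly d r (by omega), toddSer, toddSer, PowerSeries.coeff_mk, PowerSeries.coeff_mk]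
    symm
    refine eq_map_eOfP (natRegular_of_algebraRat _) ω.toRingHom _ (newtonRel_eOfP _) fun i hi hin => ?_
    show ω (toddTwist _ i) = toddTwist _ i
    rw [toddTwist, toddTwist, map_smul]
    congr 1
    refine eq_map_pOfE ω.toRingHom (seqOf_zero _) (newtonRel_pOfE (chern_zero x)) hi fun t ht => ?_
    rw [map_seqOf]
    unfold seqOf
    split_ifs with h0 h1
    · subst h0; exact (chern_zero x).symm
    · simp only [hω, AlgHom.toRingHom_eq_coe, RingHom.coe_coe, aeval_X]
      show chernQ P (t - 1 + 1) x = _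
      rw [Nat.sub_add_cancel (by omega)]
    · omega
  rw [sum_congr rfl hr]
  conv_lhs => rw [as_sum (toddPoly d), map_sum]
  simp only [weightedHomogeneousComponent_apply, map_sum]
  rw [← sum_filter_add_sum_filter_not (toddPoly d).support (fun s => Finsupp.weight w s ≤ d),
    sum_eq_zero (s := (toddPoly d).support.filter fun s => ¬Finsupp.weight w s ≤ d) (fun s hs => by
      rw [mem_filter] at hs
      exact grDeg_eq_zero hd (by omega) (hmem s _)), add_zero,
    ← sum_fiberwise_of_maps_to (g := fun s => Finsupp.weight w s) (t := range (d + 1))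
      (fun s hs => by rw [mem_filter] at hs; simp; omega)]
  refine sum_congr rfl fun r hr => sum_congr ?_ fun _ _ => rfl
  rw [mem_range] at hr
  rw [filter_filter]
  exact filter_congr fun s _ => ⟨fun h => h.2, fun h => ⟨by omega, h⟩⟩

/-- Universal series with given Chern classes. -/
def univSer (m : ℕ) : PowerSeries (MvPolynomial (Fin m) ℚ) :=
  PowerSeries.mk fun r => if r = 0 then 0 else (r.factorial : ℚ)⁻¹ •
    pOfE (seqOf fun i : Fin m => (MvPolynomial.X i : MvPolynomial (Fin m) ℚ)) r

theorem toddSer_mul_gamma_univSer (m : ℕ) :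
    toddSer (pOfE (seqOf fun i : Fin m => (MvPolynomial.X i : MvPolynomial (Fin m) ℚ))) *
        gamma m (univSer m) =
      PowerSeries.C (seqOf (fun i : Fin m => (MvPolynomial.X i : MvPolynomial (Fin m) ℚ)) m) *
        PowerSeries.X ^ m * LambdaOps.lam m (univSer m + (m : PowerSeries (MvPolynomial (Fin m) ℚ))) := by
  set ι : MvPolynomial (Fin m) ℚ →ₐ[ℚ] MvPolynomial (Fin m) ℚ := aeval (esymmSubst ℚ m m) with hι
  set π := PowerSeries.map ι.toRingHom with hπdef
  apply PowerSeries.map_injective ι.toRingHom (aeval_esymmSubst_injective ℚ (le_refl m))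
  show π _ = π _
  have hπl : ∀ (n : ℕ) F, π (LambdaOps.lam n F) = LambdaOps.lam n (π F) := fun n F =>
    map_lam_of_map_adamsOp π (natRegular_ser _)
      (fun k hk G => by rw [adamsOp_ser hk, adamsOp_ser hk, hπdef, map_rescale_natCast]) n F
  have he : ∀ t, ι (seqOf (fun i : Fin m => (MvPolynomial.X i : MvPolynomial (Fin m) ℚ)) t) =
      ((univ : Finset (Fin m)).val.map fun c => (MvPolynomial.X c : MvPolynomial (Fin m) ℚ)).esymm t := by
    intro t
    rw [← RingHom.coe_coe, map_seqOf, ← seqOf_esymm (fun c => (MvPolynomial.X c : MvPolynomial (Fin m) ℚ)) t]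
    congr 1
    funext k
    rw [RingHom.coe_coe, hι, aeval_X, esymmSubst, esymm_eq_multiset_esymm]
  have hp : ∀ k, 1 ≤ k →
      ι (pOfE (seqOf fun i : Fin m => (MvPolynomial.X i : MvPolynomial (Fin m) ℚ)) k) =
        (((univ : Finset (Fin m)).val.map fun c => (MvPolynomial.X c : MvPolynomial (Fin m) ℚ)).map
          (· ^ k)).sum := fun k hk =>
    eq_map_pOfE ι.toRingHom (seqOf_zero _) (newtonRel_esymm _) hk fun t _ => he t
  set E : Fin m → PowerSeries (MvPolynomial (Fin m) ℚ) := fun c =>
    PowerSeries.rescale (MvPolynomial.X c) (PowerSeries.exp (MvPolynomial (Fin m) ℚ)) with hE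
  have hx : π (univSer m) = ∑ c : Fin m, (E c - 1) := by
    refine PowerSeries.ext fun r => ?_
    rw [hπdef, PowerSeries.coeff_map, univSer, PowerSeries.coeff_mk, map_sum]
    simp only [hE, map_sub, PowerSeries.coeff_rescale, PowerSeries.coeff_exp, PowerSeries.coeff_one]
    rcases eq_or_ne r 0 with rfl | hr
    · simp
    · rw [if_neg hr]
      show ι ((r.factorial : ℚ)⁻¹ • pOfE _ r) = _
      rw [map_smul, hp r (Nat.one_le_iff_ne_zero.2 hr), Multiset.map_map, Finset.sum_map_val, smul_sum]
      refine sum_congr rfl fun c _ => ?_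
      rw [if_neg hr, sub_zero, Function.comp_apply, Algebra.smul_def, mul_comm, one_div]
  have hlines : ∀ u ∈ (univ : Finset (Fin m)).val.map E, LineLike u := by
    intro u hu
    obtain ⟨c, -, rfl⟩ := Multiset.mem_map.1 hu
    exact lineLike_exp _
  have h1 : LineLike (1 : PowerSeries (MvPolynomial (Fin m) ℚ)) := (isSpecial_ser _).lam_one_eq_zero
  have hxs : π (univSer m) = ((univ : Finset (Fin m)).val.map E).sum -
      (Multiset.card ((univ : Finset (Fin m)).val.map E) : PowerSeries (MvPolynomial (Fin m) ℚ)) := by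
    rw [hx, sum_sub_distrib, Finset.sum_map_val, Multiset.card_map, Finset.card_val]
    simp
  have hcard : Multiset.card ((univ : Finset (Fin m)).val.map E) = m := by simp
  have hg : π (gamma m (univSer m)) = ∏ c : Fin m, (E c - 1) := by
    rw [map_gamma π hπl, hxs]
    conv_lhs => arg 1; rw [← hcard]
    rw [gamma_sum_sub_card h1 _ hlines,
      ← Multiset.card_map (fun u => u - 1) ((univ : Finset (Fin m)).val.map E),
      esymm_card_eq_prod, Multiset.map_map]
    rfl
  have hl : π (LambdaOps.lam m (univSer m + (m : PowerSeries (MvPolynomial (Fin m) ℚ)))) =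
      ∏ c : Fin m, E c := by
    rw [hπl, map_add π, map_natCast, hxs, hcard, sub_add_cancel, lam_sum_lineLike _ hlines]
    conv_lhs => arg 2; rw [← hcard]
    rw [esymm_card_eq_prod]
    rfl
  have hT : π (toddSer (pOfE (seqOf fun i : Fin m => (MvPolynomial.X i : MvPolynomial (Fin m) ℚ)))) =
      ∏ c : Fin m, toddRoot (MvPolynomial.X c : MvPolynomial (Fin m) ℚ) := by
    rw [hπdef, map_toddSer, toddSer_eq_prod _ _ hp, Multiset.map_map]
    rfl
  rw [map_mul, map_mul, map_mul, map_pow, hg, hl, hT, hπdef, PowerSeries.map_C, PowerSeries.map_X]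
  show _ = PowerSeries.C (ι _) * _ * _
  rw [he]
  conv_rhs => arg 1; arg 1; arg 2; arg 2; rw [← hcard, Multiset.card_map]
  rw [← prod_mul_distrib]
  have hfac : ∀ c : Fin m, toddRoot (MvPolynomial.X c : MvPolynomial (Fin m) ℚ) * (E c - 1) =
      PowerSeries.C (MvPolynomial.X c) * PowerSeries.X * E c := by
    intro c
    rw [toddRoot, hE, ← map_one (PowerSeries.rescale (MvPolynomial.X c : MvPolynomial (Fin m) ℚ)),
      ← map_sub, ← map_mul, bernoulli'PowerSeries_mul_exp_sub_one, map_mul, PowerSeries.rescale_X]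
  rw [prod_congr rfl fun c _ => hfac c, prod_mul_distrib, prod_mul_distrib, prod_const, card_univ,
    Fintype.card_fin, ← map_prod, ← Multiset.card_map (fun c => (MvPolynomial.X c : MvPolynomial (Fin m) ℚ)),
    esymm_card_eq_prod]
  rfl

theorem tdK_mul_chK_gamma (hK : HasSplitting K P) {d : ℕ} (hd : gammaFiltration P (d + 1) = ⊥)
    {e : K} (he : e ∈ P.pos) :
    tdK P d e * chK P d (gamma (P.aug e).toNat (e - ((P.aug e).toNat : K))) =
      chern P (P.aug e).toNat e * chK P d (LambdaOps.lam (P.aug e).toNat e) := by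
  have hme : ((P.aug e).toNat : ℤ) = P.aug e := toNat_aug_cast P he
  generalize hm : (P.aug e).toNat = m at hme ⊢
  have hem : ((m : ℕ) : K) = ((P.aug e : ℤ) : K) := by rw [← hme, Int.cast_natCast]
  have haug : P.aug (e - (m : K)) = 0 := by rw [map_sub, map_natCast, ← hme, sub_self]
  let v : Fin 1 → K := fun _ => e - (m : K)
  have hv : ∀ a, P.aug (v a) = 0 := fun _ => haug
  set z : Free (Fin 1) ℤ := MvPolynomial.X (0, 0) with hz
  have hA := isSpecial_of_hasSplitting hK
  have hz1 : evalFree (K := ℤ) v (gamma m z) = gamma m (e - (m : K)) := by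
    rw [evalFree_gamma hA (hK_int hA), hz, evalFree_X_zero]
  have hz2 : evalFree (K := ℤ) v (LambdaOps.lam m (z + (m : Free (Fin 1) ℤ))) = LambdaOps.lam m e := by
    rw [evalFree_lam hA (hK_int hA), map_add, map_natCast, hz, evalFree_X_zero, sub_add_cancel]
  apply toQ_injective
  rw [map_mul, map_mul, tdK_eq hd, ← hz1, ← hz2, chK_eq_totSum hK v hv, chK_eq_totSum hK v hv,
    toQ_chern, ← totSum_mul hd (toddSer_mem_gradedSer fun l => chernQ_mem_grDeg l e) (serGr_mem v hv _)]
  set ω : MvPolynomial (Fin m) ℚ →ₐ[ℚ] GrQ P := aeval fun i : Fin m => chernQ P (i.1 + 1) e with hω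
  set π := PowerSeries.map ω.toRingHom with hπdef
  have hπl : ∀ (n : ℕ) F, π (LambdaOps.lam n F) = LambdaOps.lam n (π F) := fun n F =>
    map_lam_of_map_adamsOp π (natRegular_ser _)
      (fun k hk G => by rw [adamsOp_ser hk, adamsOp_ser hk, hπdef, map_rescale_natCast]) n F
  have hch : ∀ t, ω (seqOf (fun i : Fin m => (MvPolynomial.X i : MvPolynomial (Fin m) ℚ)) t) =
      chernQ P t e := by
    intro t
    rw [← RingHom.coe_coe, map_seqOf]
    unfold seqOf
    split_ifs with h0 h1
    · subst h0; exact (chern_zero e).symm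
    · simp only [RingHom.coe_coe, hω, aeval_X]
      show chernQ P (t - 1 + 1) e = _
      rw [Nat.sub_add_cancel (by omega)]
    · rw [chernQ, ← hem, gamma_sub_natCast_eq_zero (lineLike_one_of_pos P) e m
        (fun i hi => lam_eq_zero_of_toNat_lt P he i (by omega)) (by omega : m < t), gq_zero]
  have hp : ∀ k, 1 ≤ k → ω (pOfE (seqOf fun i : Fin m => (MvPolynomial.X i : MvPolynomial (Fin m) ℚ)) k) =
      pOfE (fun l => chernQ P l e) k := fun k hk =>
    eq_map_pOfE ω.toRingHom (seqOf_zero _) (newtonRel_pOfE (chern_zero e)) hk fun t _ => hch t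
  have hTd : π (toddSer (pOfE (seqOf fun i : Fin m => (MvPolynomial.X i : MvPolynomial (Fin m) ℚ)))) =
      toddSer (pOfE fun l => chernQ P l e) := by
    rw [hπdef, map_toddSer]
    refine PowerSeries.ext fun r => ?_
    rw [toddSer, toddSer, PowerSeries.coeff_mk, PowerSeries.coeff_mk]
    exact (newtonRel_eOfP _).eq_e (natRegular_of_algebraRat _) (newtonRel_eOfP _) (N := r)
      (fun i hi _ => by simp only [toddTwist, hp i hi]) r le_rfl
  have hxz : π (univSer m) = serGr P v z := by
    refine PowerSeries.ext fun r => ?_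
    rw [hπdef, PowerSeries.coeff_map, univSer, PowerSeries.coeff_mk, serGr, RingHom.comp_apply, hz,
      theta_X_zero, PowerSeries.coeff_map, xSer, PowerSeries.coeff_mk]
    match r with
    | 0 => simp
    | r + 1 =>
      rw [if_neg (Nat.succ_ne_zero r)]
      show ω (_ • _) = coordGr P v (MvPolynomial.X ((0 : Fin 1), r))
      rw [map_smul, hp _ (Nat.succ_pos r), coordGr, coe_eval₂Hom, eval₂_X]
      congr 2
      funext l
      show chernQ P l e = gamClass P (v 0) l
      rw [chernQ, gamClass, ← hem]
  have hg : serGr P v (gamma m z) = π (gamma m (univSer m)) := by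
    rw [map_gamma π hπl, hxz, serGr, RingHom.comp_apply, RingHom.comp_apply, theta_gamma,
      coordGr_ser_gamma]
  have hl : serGr P v (LambdaOps.lam m (z + (m : Free (Fin 1) ℤ))) =
      π (LambdaOps.lam m (univSer m + (m : PowerSeries (MvPolynomial (Fin m) ℚ)))) := by
    rw [hπl, map_add π, map_natCast, hxz, serGr, RingHom.comp_apply, theta_lam, coordGr_ser_lam,
      RingHom.comp_apply, map_add theta, map_natCast, map_add, map_natCast]
  rw [hg, ← hTd, ← map_mul, toddSer_mul_gamma_univSer, map_mul, map_mul, map_pow, ← hl, hπdef,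
    PowerSeries.map_C, PowerSeries.map_X]
  show totSum d (PowerSeries.C (ω _) * _ * _) = _
  rw [hch]
  have hmon : (PowerSeries.C (chernQ P m e) * PowerSeries.X ^ m : PowerSeries (GrQ P)) ∈ gradedSer P := by
    intro r
    rw [PowerSeries.coeff_C_mul, PowerSeries.coeff_X_pow]
    split_ifs with h
    · rw [mul_one, h]; exact chernQ_mem_grDeg m e
    · rw [mul_zero]; exact Submodule.zero_mem _
  rw [totSum_mul hd hmon (serGr_mem v hv _)]
  congr 1
  rw [totSum]
  simp only [PowerSeries.coeff_C_mul, PowerSeries.coeff_X_pow, mul_ite, mul_one, mul_zero]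
  rw [Finset.sum_ite_eq']
  split_ifs with h
  · rfl
  · exact (grDeg_eq_zero hd (by simp at h; omega) (chernQ_mem_grDeg m e)).symm

end Groth.Agent.Lib.Lambda
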