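import Groth.Agent.Lib.Lambda.Newton
import Groth.Agent.Lib.Lambda.Sym

/-!
# The universal polynomials and the characterisation of special λ-rings by Adams operations
-/

set_option autoImplicit false

open Finset LambdaRing MvPolynomial

noncomputable section

namespace Groth.Agent.Lib.Lambda

universe u v

theorem isWeightedHomogeneous_multiset_esymm {σ : Type u} {R : Type v} [CommRing R] {M : Type*}
    [AddCommMonoid M] (w : σ → M) (c : M) (s : Multiset (MvPolynomial σ R))
    (hs : ∀ a ∈ s, IsWeightedHomogeneous w a c) (k : ℕ) :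
    IsWeightedHomogeneous w (s.esymm k) (k • c) := by
  induction s using Multiset.induction_on generalizing k with
  | empty =>
    match k with
    | 0 => rw [esymm_zero_eq_one, zero_smul]; exact isWeightedHomogeneous_one R w
    | k + 1 =>
      rw [esymm_eq_zero_of_card_lt _ (by simp)]
      exact isWeightedHomogeneous_zero R w _
  | cons a s ih =>
    match k with
    | 0 => rw [esymm_zero_eq_one, zero_smul]; exact isWeightedHomogeneous_one R w
    | k + 1 =>
      rw [esymm_cons_succ]
      refine IsWeightedHomogeneous.add (ih (fun b hb => hs b (Multiset.mem_cons_of_mem hb)) _) ?_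
      rw [succ_nsmul']
      exact (hs a (Multiset.mem_cons_self a s)).mul
        (ih (fun b hb => hs b (Multiset.mem_cons_of_mem hb)) k)

theorem mulGen_symmetric (N k : ℕ) (a b : Equiv.Perm (Fin N)) :
    rename (Equiv.sumCongr a b) (mulGen N k) = mulGen N k := by
  rw [mulGen, show ∀ t : Multiset (MvPolynomial (Fin N ⊕ Fin N) ℤ),
    rename (Equiv.sumCongr a b) (t.esymm k) = (t.map (rename (Equiv.sumCongr a b))).esymm k from
    fun t => by simp only [Multiset.esymm, map_multiset_sum, Multiset.powersetCard_map,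
      Multiset.map_map, Function.comp_def, map_multiset_prod]]
  congr 1
  rw [Multiset.map_map]
  conv_rhs => rw [← Finset.map_univ_equiv (a.prodCongr b), Finset.map_val, Multiset.map_map]
  exact Multiset.map_congr rfl fun x _ => by simp [Equiv.prodCongr]

theorem exists_isMulPoly (n : ℕ) :
    ∃ P : MvPolynomial (Fin n ⊕ Fin n) ℤ, IsMulPoly n P := by
  obtain ⟨P, hP⟩ := exists_aeval_esymmSubst₂ (S := mulGen n n) (mulGen_symmetric n n)
  refine ⟨P, hP, ?_⟩
  refine isWeightedHomogeneous_of_aeval _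
    (Sum.elim (fun _ : Fin n => ((1, 0) : ℕ × ℕ)) (fun _ : Fin n => ((0, 1) : ℕ × ℕ)))
    (esymmSubst₂ ℤ n n) ?_ (aeval_esymmSubst₂_injective le_rfl) P _ ?_
  · have hren : ∀ (g : Fin n → Fin n ⊕ Fin n) (c : ℕ × ℕ),
        (∀ i, (Sum.elim (fun _ : Fin n => ((1, 0) : ℕ × ℕ)) (fun _ : Fin n => ((0, 1) : ℕ × ℕ)))
          (g i) = c) → ∀ m : ℕ,
        IsWeightedHomogeneous
          (Sum.elim (fun _ : Fin n => ((1, 0) : ℕ × ℕ)) (fun _ : Fin n => ((0, 1) : ℕ × ℕ)))
          (rename g (esymm (Fin n) ℤ m)) (m • c) := by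
      intro g c hg m
      rw [esymm, map_sum]
      refine IsWeightedHomogeneous.sum _ _ _ fun t ht => ?_
      rw [map_prod]
      have := IsWeightedHomogeneous.prod t (fun i => (rename g (X i) : MvPolynomial _ ℤ))
        (fun _ => c) (fun i _ => by rw [rename_X, ← hg i]; exact isWeightedHomogeneous_X ℤ _ _)
      rwa [sum_const, (mem_powersetCard.1 ht).2] at this
    rintro (i | i)
    · have := hren Sum.inl (1, 0) (fun _ => rfl) ((i : ℕ) + 1)
      simpa [esymmSubst₂] using this
    · have := hren Sum.inr (0, 1) (fun _ => rfl) ((i : ℕ) + 1)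
      simpa [esymmSubst₂] using this
  · rw [hP, mulGen]
    have := isWeightedHomogeneous_multiset_esymm
      (Sum.elim (fun _ : Fin n => ((1, 0) : ℕ × ℕ)) (fun _ : Fin n => ((0, 1) : ℕ × ℕ))) (1, 1)
      ((Finset.univ : Finset (Fin n × Fin n)).val.map
        fun ab => (X (Sum.inl ab.1) * X (Sum.inr ab.2) : MvPolynomial (Fin n ⊕ Fin n) ℤ))
      (by
        intro a ha
        obtain ⟨ab, -, rfl⟩ := Multiset.mem_map.1 ha
        have h1 := (isWeightedHomogeneous_X ℤ
          (Sum.elim (fun _ : Fin n => ((1, 0) : ℕ × ℕ)) (fun _ : Fin n => ((0, 1) : ℕ × ℕ)))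
          (Sum.inl ab.1)).mul (isWeightedHomogeneous_X ℤ _ (Sum.inr ab.2))
        simpa using h1) n
    simpa using this

theorem compGen_symmetric (N i j : ℕ) : (compGen N i j).IsSymmetric := by
  intro a
  rw [compGen, show ∀ t : Multiset (MvPolynomial (Fin N) ℤ),
    rename a (t.esymm j) = (t.map (rename a)).esymm j from
    fun t => by simp only [Multiset.esymm, map_multiset_sum, Multiset.powersetCard_map,
      Multiset.map_map, Function.comp_def, map_multiset_prod]]
  congr 1
  rw [Multiset.map_map]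
  conv_rhs => rw [← Finset.map_univ_equiv a, Finset.powersetCard_map, Finset.map_val,
    Multiset.map_map]
  refine Multiset.map_congr rfl fun s _ => ?_
  simp [mapEmbedding_apply, map_prod, rename_X]

theorem exists_isCompPoly (i j : ℕ) :
    ∃ Q : MvPolynomial (Fin (i * j)) ℤ, IsCompPoly i j Q := by
  obtain ⟨Q, hQ⟩ := exists_aeval_esymmSubst (compGen_symmetric (i * j) i j)
  refine ⟨Q, hQ, ?_⟩
  refine isWeightedHomogeneous_of_aeval _ (fun _ => (1 : ℕ)) (esymmSubst ℤ (i * j) (i * j)) ?_
    (aeval_esymmSubst_injective ℤ le_rfl) Q _ ?_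
  · intro k
    have := esymm_isWeightedHomogeneous (R := ℤ) (fun _ : Fin (i * j) => (1 : ℕ)) 1 (fun _ => rfl)
      ((k : ℕ) + 1)
    simpa [esymmSubst] using this
  · rw [hQ, compGen]
    have := isWeightedHomogeneous_multiset_esymm (fun _ : Fin (i * j) => (1 : ℕ)) i
      (((Finset.univ : Finset (Fin (i * j))).powersetCard i).val.map
        fun s => (∏ a ∈ s, X a : MvPolynomial (Fin (i * j)) ℤ))
      (by
        intro a ha
        obtain ⟨s, hs, rfl⟩ := Multiset.mem_map.1 ha
        have h1 := IsWeightedHomogeneous.prod s (fun a => (X a : MvPolynomial (Fin (i * j)) ℤ))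
          (fun _ => (1 : ℕ)) (fun a _ => isWeightedHomogeneous_X ℤ (fun _ : Fin (i * j) => (1 : ℕ)) a)
        rwa [sum_const, (Finset.mem_powersetCard.1 (show s ∈ Finset.powersetCard i univ from hs)).2, smul_eq_mul, mul_one] at h1) j
    simpa [smul_eq_mul, mul_comm] using this

/-- A sequence `e` given by finitely many variables, extended by zero. -/
def seqOf {A : Type u} [CommRing A] {n : ℕ} (f : Fin n → A) (k : ℕ) : A :=
  if k = 0 then 1 else if h : k - 1 < n then f ⟨k - 1, h⟩ else 0

theorem seqOf_zero {A : Type u} [CommRing A] {n : ℕ} (f : Fin n → A) : seqOf f 0 = 1 := by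
  simp [seqOf]

theorem map_seqOf {A : Type u} {B : Type v} [CommRing A] [CommRing B] {n : ℕ} (f : Fin n → A)
    (g : A →+* B) (k : ℕ) : g (seqOf f k) = seqOf (fun i => g (f i)) k := by
  unfold seqOf
  split_ifs <;> simp

theorem seqOf_esymm {A : Type u} [CommRing A] {n : ℕ} (t : Fin n → A) (k : ℕ) :
    seqOf (fun i : Fin n => (univ.val.map t).esymm ((i : ℕ) + 1)) k =
      ((univ : Finset (Fin n)).val.map t).esymm k := by
  unfold seqOf
  split_ifs with h h'
  · rw [h, esymm_zero_eq_one]
  · show (univ.val.map t).esymm (k - 1 + 1) = _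
    congr 1
    omega
  · rw [esymm_eq_zero_of_card_lt _ (by simp; omega)]

theorem seqOf_lam {K : Type u} {B : Type v} [CommRing K] [LambdaOps K] [CommRing B] (j : K →+* B)
    (x : K) {n k : ℕ} (hk : k ≤ n) :
    seqOf (fun i : Fin n => j (LambdaOps.lam ((i : ℕ) + 1) x)) k = j (LambdaOps.lam k x) := by
  unfold seqOf
  split_ifs with h h'
  · rw [h, LambdaOps.lam_zero, map_one]
  · show j (LambdaOps.lam (k - 1 + 1) x) = _
    rw [Nat.sub_add_cancel (by omega)]
  · omega

theorem eq_map_eOfP {V : Type u} [CommRing V] [Algebra ℚ V] {W : Type v} [CommRing W]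
    (hW : NatRegular W) (Φ : V →+* W) (p : ℕ → V) {e' p' : ℕ → W} (h : NewtonRel e' p') {n : ℕ}
    (hp : ∀ i, 1 ≤ i → i ≤ n → Φ (p i) = p' i) : Φ (eOfP p n) = e' n :=
  ((newtonRel_eOfP p).map Φ).eq_e hW h hp n le_rfl

theorem eq_map_pOfE {V : Type u} [CommRing V] {W : Type v} [CommRing W]
    (Φ : V →+* W) {e : ℕ → V} (he : e 0 = 1) {e' p' : ℕ → W} (h : NewtonRel e' p') {n : ℕ}
    (hn : 1 ≤ n) (hp : ∀ i, i ≤ n → Φ (e i) = e' i) : Φ (pOfE e n) = p' n :=
  ((newtonRel_pOfE he).map Φ).eq_p h hp n hn le_rfl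

variable {K : Type u} [CommRing K] [LambdaOps K]

/-- Product identity of a special λ-ring, from multiplicativity of the Adams operations, checked
in a torsion free ℚ-algebra containing the ring. -/
theorem lam_mul_of_adamsOp {L : Type v} [CommRing L] [Algebra ℚ L] (j : K →+* L)
    (hj : Function.Injective j)
    (hmul : ∀ k : ℕ, 1 ≤ k → ∀ x y : K, adamsOp k (x * y) = adamsOp k x * adamsOp k y)
    (n : ℕ) (P : MvPolynomial (Fin n ⊕ Fin n) ℤ) (hP : IsMulPoly n P) (x y : K) :
    LambdaOps.lam n (x * y) =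
      aeval (Sum.elim (fun k : Fin n => LambdaOps.lam ((k : ℕ) + 1) x)
        (fun k : Fin n => LambdaOps.lam ((k : ℕ) + 1) y)) P := by
  set Ex : ℕ → MvPolynomial (Fin n ⊕ Fin n) ℚ := seqOf fun i => X (Sum.inl i) with hEx
  set Ey : ℕ → MvPolynomial (Fin n ⊕ Fin n) ℚ := seqOf fun i => X (Sum.inr i) with hEy
  set e' := eOfP (fun k => pOfE Ex k * pOfE Ey k) n with he'
  have hPe : MvPolynomial.map (Int.castRingHom ℚ) P = e' := by
    apply aeval_esymmSubst₂_injective (R := ℚ) le_rfl
    set Φ : MvPolynomial (Fin n ⊕ Fin n) ℚ →ₐ[ℚ] _ := aeval (esymmSubst₂ ℚ n n) with hΦ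
    have hl : Φ (MvPolynomial.map (Int.castRingHom ℚ) P) =
        MvPolynomial.map (Int.castRingHom ℚ) (mulGen n n) := by
      rw [← hP.1, hΦ]
      clear hP he' hΦ
      induction P using MvPolynomial.induction_on with
      | C a => simp
      | add p q hp hq => simp only [map_add, hp, hq]
      | mul_X p i hp =>
        simp only [map_mul, hp, map_X, aeval_X]
        congr 1
        rcases i with i | i <;>
        · simp only [esymmSubst₂, Sum.elim_inl, Sum.elim_inr]
          rw [MvPolynomial.map_rename, MvPolynomial.map_esymm]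
    rw [hl, he']
    have hmk : MvPolynomial.map (Int.castRingHom ℚ) (mulGen n n) =
        ((univ : Finset (Fin n × Fin n)).val.map fun ab =>
          (X (Sum.inl ab.1) * X (Sum.inr ab.2) : MvPolynomial (Fin n ⊕ Fin n) ℚ)).esymm n := by
      simp only [mulGen, Multiset.esymm, map_multiset_sum, Multiset.powersetCard_map,
        Multiset.map_map, Function.comp_def, map_multiset_prod, map_mul, map_X]
    rw [hmk]
    symm
    refine eq_map_eOfP (natRegular_of_algebraRat _) Φ.toRingHom _ (newtonRel_esymm _)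
      fun i hi _ => ?_
    have hside : ∀ (g : Fin n → Fin n ⊕ Fin n), (∀ k : Fin n, Φ (X (g k)) =
          rename g (esymm (Fin n) ℚ ((k : ℕ) + 1))) →
        Φ (pOfE (seqOf fun k => X (g k)) i) = ∑ a : Fin n, (X (g a)) ^ i := by
      intro g hg
      have h := eq_map_pOfE Φ.toRingHom (seqOf_zero fun k => (X (g k) : MvPolynomial _ ℚ))
        (newtonRel_esymm ((univ : Finset (Fin n)).val.map fun a =>
          (X (g a) : MvPolynomial (Fin n ⊕ Fin n) ℚ))) hi (fun l _ => by
          rw [map_seqOf, ← seqOf_esymm (fun a => (X (g a) : MvPolynomial (Fin n ⊕ Fin n) ℚ)) l]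
          congr 1
          funext k
          rw [AlgHom.toRingHom_eq_coe, RingHom.coe_coe, hg k, esymm_eq_multiset_esymm]
          simp only [Multiset.esymm, map_multiset_sum, Multiset.powersetCard_map,
            Multiset.map_map, Function.comp_def, map_multiset_prod, rename_X])
      refine h.trans ?_
      rw [Multiset.map_map]
      rfl
    rw [AlgHom.toRingHom_eq_coe, RingHom.coe_coe, map_mul, hEx, hEy,
      hside Sum.inl (fun k => by rw [hΦ, aeval_X]; rfl),
      hside Sum.inr (fun k => by rw [hΦ, aeval_X]; rfl), Finset.sum_mul_sum,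
      ← Fintype.sum_prod_type', Multiset.map_map]
    exact Finset.sum_congr rfl fun ab _ => by simp [mul_pow]
  apply hj
  set χ : MvPolynomial (Fin n ⊕ Fin n) ℚ →ₐ[ℚ] L :=
    aeval (Sum.elim (fun k : Fin n => j (LambdaOps.lam ((k : ℕ) + 1) x))
      (fun k : Fin n => j (LambdaOps.lam ((k : ℕ) + 1) y))) with hχ
  have h1 : χ (MvPolynomial.map (Int.castRingHom ℚ) P) =
      j (aeval (Sum.elim (fun k : Fin n => LambdaOps.lam ((k : ℕ) + 1) x)
        (fun k : Fin n => LambdaOps.lam ((k : ℕ) + 1) y)) P) := by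
    rw [hχ]
    clear hP hPe he' hχ
    induction P using MvPolynomial.induction_on with
    | C a => simp
    | add p q hp hq => simp only [map_add, hp, hq]
    | mul_X p i hp =>
      simp only [map_mul, hp, map_X, aeval_X]
      rcases i with i | i <;> rfl
  rw [← h1, hPe, he']
  symm
  refine eq_map_eOfP (natRegular_of_algebraRat L) χ.toRingHom _
    ((newtonRel_lam (x * y)).map j) fun i hi hin => ?_
  have hside : ∀ (g : Fin n → Fin n ⊕ Fin n) (z : K), (∀ k : Fin n, χ (X (g k)) =
      j (LambdaOps.lam ((k : ℕ) + 1) z)) →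
      χ (pOfE (seqOf fun k => X (g k)) i) = j (adamsOp i z) := fun g z hg =>
    eq_map_pOfE χ.toRingHom (seqOf_zero fun k => (X (g k) : MvPolynomial _ ℚ))
      ((newtonRel_lam z).map j) hi (fun l hl => by
        rw [map_seqOf]
        simp only [AlgHom.toRingHom_eq_coe, RingHom.coe_coe, hg]
        exact seqOf_lam j z (hl.trans hin))
  rw [AlgHom.toRingHom_eq_coe, RingHom.coe_coe, map_mul, hEx, hEy, hside Sum.inl x (fun k => by rw [hχ, aeval_X]; rfl),
    hside Sum.inr y (fun k => by rw [hχ, aeval_X]; rfl), hmul i hi, map_mul j]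

/-- Composition identity of a special λ-ring. -/
theorem lam_lam_of_adamsOp {L : Type v} [CommRing L] [Algebra ℚ L] (j : K →+* L)
    (hj : Function.Injective j) (h1 : ∀ k : ℕ, 1 ≤ k → adamsOp k (1 : K) = 1)
    (hmul : ∀ k : ℕ, 1 ≤ k → ∀ x y : K, adamsOp k (x * y) = adamsOp k x * adamsOp k y)
    (hcomp : ∀ k k' : ℕ, 1 ≤ k → 1 ≤ k' → ∀ x : K,
      adamsOp k (adamsOp k' x) = adamsOp (k * k') x)
    (a b : ℕ) (Q : MvPolynomial (Fin (a * b)) ℤ) (hQ : IsCompPoly a b Q) (x : K) :
    LambdaOps.lam b (LambdaOps.lam a x) =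
      aeval (fun k : Fin (a * b) => LambdaOps.lam ((k : ℕ) + 1) x) Q := by
  set E : ℕ → MvPolynomial (Fin (a * b)) ℚ := seqOf fun i => X i with hE
  set r : ℕ → MvPolynomial (Fin (a * b)) ℚ := fun l => eOfP (fun m => pOfE E (l * m)) a with hr
  set e' := eOfP r b with he'
  have hPe : MvPolynomial.map (Int.castRingHom ℚ) Q = e' := by
    apply aeval_esymmSubst_injective ℚ (le_refl (a * b))
    set Φ : MvPolynomial (Fin (a * b)) ℚ →ₐ[ℚ] _ := aeval (esymmSubst ℚ (a * b) (a * b)) with hΦ
    have hl : Φ (MvPolynomial.map (Int.castRingHom ℚ) Q) =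
        MvPolynomial.map (Int.castRingHom ℚ) (compGen (a * b) a b) := by
      rw [← hQ.1, hΦ]
      clear hQ hΦ
      induction Q using MvPolynomial.induction_on with
      | C c => simp
      | add p q hp hq => simp only [map_add, hp, hq]
      | mul_X p i hp =>
        simp only [map_mul, hp, map_X, aeval_X]
        congr 1
        exact (MvPolynomial.map_esymm (Fin (a * b)) ℤ _ _).symm
    rw [hl, he']
    have hmk : MvPolynomial.map (Int.castRingHom ℚ) (compGen (a * b) a b) =
        (((univ : Finset (Fin (a * b))).powersetCard a).val.map fun s =>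
          (∏ c ∈ s, X c : MvPolynomial (Fin (a * b)) ℚ)).esymm b := by
      simp only [compGen, Multiset.esymm, map_multiset_sum, Multiset.powersetCard_map,
        Multiset.map_map, Function.comp_def, map_multiset_prod, map_prod, map_X]
    rw [hmk]
    symm
    refine eq_map_eOfP (natRegular_of_algebraRat _) Φ.toRingHom _ (newtonRel_esymm _)
      fun l hl _ => ?_
    have hp : ∀ i, 1 ≤ i → Φ (pOfE E i) = ∑ c : Fin (a * b), (X c) ^ i := by
      intro i hi
      have h := eq_map_pOfE Φ.toRingHom (seqOf_zero fun k => (X k : MvPolynomial (Fin (a * b)) ℚ))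
        (newtonRel_esymm ((univ : Finset (Fin (a * b))).val.map fun c =>
          (X c : MvPolynomial (Fin (a * b)) ℚ))) hi (fun t _ => by
          rw [map_seqOf, ← seqOf_esymm (fun c => (X c : MvPolynomial (Fin (a * b)) ℚ)) t]
          congr 1
          funext k
          rw [AlgHom.toRingHom_eq_coe, RingHom.coe_coe, hΦ, aeval_X, esymmSubst, esymm_eq_multiset_esymm])
      rw [hE]
      refine h.trans ?_
      rw [Multiset.map_map]
      rfl
    rw [hr]
    have h := eq_map_eOfP (natRegular_of_algebraRat (MvPolynomial (Fin (a * b)) ℚ)) Φ.toRingHom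
      (fun m => pOfE E (l * m))
      (newtonRel_esymm ((univ : Finset (Fin (a * b))).val.map fun c =>
        (X c : MvPolynomial (Fin (a * b)) ℚ) ^ l)) (n := a) (fun m hm _ => by
        rw [AlgHom.toRingHom_eq_coe, RingHom.coe_coe, hp _ (Nat.mul_le_mul hl hm), Multiset.map_map]
        exact Finset.sum_congr rfl fun c _ => by simp [pow_mul])
    refine h.trans ?_
    rw [Finset.esymm_map_val, Multiset.map_map]
    exact Finset.sum_congr rfl fun s _ => by simp [Finset.prod_pow]
  apply hj
  set χ : MvPolynomial (Fin (a * b)) ℚ →ₐ[ℚ] L :=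
    aeval (fun k : Fin (a * b) => j (LambdaOps.lam ((k : ℕ) + 1) x)) with hχ
  have h2 : χ (MvPolynomial.map (Int.castRingHom ℚ) Q) =
      j (aeval (fun k : Fin (a * b) => LambdaOps.lam ((k : ℕ) + 1) x) Q) := by
    rw [hχ]
    clear hQ hPe hχ
    induction Q using MvPolynomial.induction_on with
    | C c => simp
    | add p q hp hq => simp only [map_add, hp, hq]
    | mul_X p i hp => simp only [map_mul, hp, map_X, aeval_X]
  rw [← h2, hPe, he']
  symm
  refine eq_map_eOfP (natRegular_of_algebraRat L) χ.toRingHom _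
    ((newtonRel_lam (LambdaOps.lam a x)).map j) fun l hl hlb => ?_
  let ψl : K →+* K :=
    { toFun := adamsOp l
      map_one' := h1 l hl
      map_mul' := hmul l hl
      map_zero' := adamsOp_zero_right l
      map_add' := adamsOp_add l }
  rw [hr]
  refine eq_map_eOfP (natRegular_of_algebraRat L) χ.toRingHom (fun m => pOfE E (l * m))
    (((newtonRel_lam x).map ψl).map j) (n := a) fun m hm hma => ?_
  show χ (pOfE E (l * m)) = j (adamsOp l (adamsOp m x))
  rw [hcomp l m hl hm, hE]
  refine eq_map_pOfE χ.toRingHom (seqOf_zero fun k => (X k : MvPolynomial (Fin (a * b)) ℚ))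
    ((newtonRel_lam x).map j) (Nat.mul_le_mul hl hm) fun t ht => ?_
  rw [map_seqOf]
  simp only [AlgHom.toRingHom_eq_coe, RingHom.coe_coe, hχ, aeval_X]
  refine seqOf_lam j x (ht.trans ?_)
  rw [mul_comm a b]
  exact Nat.mul_le_mul hlb hma

theorem lineLike_one_of_adamsOp (hK : NatRegular K)
    (h1 : ∀ k : ℕ, 1 ≤ k → adamsOp k (1 : K) = 1) : LineLike (1 : K) := by
  intro n hn
  have h := (newtonRel_lam (1 : K)).eq_e hK (newtonRel_esymm ({1} : Multiset K)) (N := n)
    (fun i hi _ => by simp [h1 i hi]) n le_rfl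
  exact h.trans (esymm_eq_zero_of_card_lt _ (by simp; omega))

theorem isSpecial_of_adamsOp_of_injective {L : Type v} [CommRing L] [Algebra ℚ L] (j : K →+* L)
    (hj : Function.Injective j) (h1 : ∀ k : ℕ, 1 ≤ k → adamsOp k (1 : K) = 1)
    (hmul : ∀ k : ℕ, 1 ≤ k → ∀ x y : K, adamsOp k (x * y) = adamsOp k x * adamsOp k y)
    (hcomp : ∀ k k' : ℕ, 1 ≤ k → 1 ≤ k' → ∀ x : K,
      adamsOp k (adamsOp k' x) = adamsOp (k * k') x) :
    IsSpecial K :=
  ⟨lineLike_one_of_adamsOp (NatRegular.of_injective hj (natRegular_of_algebraRat L)) h1,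
    fun n P hP x y => lam_mul_of_adamsOp j hj hmul n P hP x y,
    fun a b Q hQ x => lam_lam_of_adamsOp j hj h1 hmul hcomp a b Q hQ x⟩

end Groth.Agent.Lib.Lambda
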